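import Groth.Agent.S7652
import Groth.Agent.CAlgH3.Branches
import Groth.Agent.HenselLib.HensBase
import Groth.Agent.HenselLib.HullProps
import Groth.Agent.EGA43.BranchCount.DimOne
import Groth.Prelude.Def_Curv2

/-!
# The delta invariant along flat maps with trivial closed fibre and separable residue extension
-/

set_option autoImplicit false
set_option backward.isDefEq.respectTransparency false
set_option linter.style.haveILetI false

universe u

open IsLocalRing TensorProduct

namespace Groth.Agent.EGA43.DeltaInvariance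

theorem isReduced_tensor_separable (k K l : Type u) [Field k] [Field K] [Algebra k K] [Algebra.IsSeparable k K]
    [Field l] [Algebra k l] : IsReduced (K ⊗[k] l) := by
  haveI : IsReduced (l ⊗[k] K) := IsReduced.tensorProduct_of_flat_of_forall_fg fun D hD => by
    haveI : Algebra.IsIntegral k D := Algebra.IsIntegral.of_injective D.val Subtype.val_injective
    haveI : Algebra.FiniteType k D := ⟨Subalgebra.fg_top _ |>.2 hD⟩
    haveI : Module.Finite k D := Algebra.IsIntegral.finite
    letI : Field D := (isField_of_isIntegral_of_isField' (R := k) (Field.toIsField k)).toField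
    haveI : Algebra.IsSeparable k D := Algebra.IsSeparable.of_algHom _ _ D.val
    haveI : Algebra.EssFiniteType k D := inferInstance
    haveI : Algebra.FormallyUnramified k D := Algebra.FormallyUnramified.of_isSeparable k D
    exact Algebra.FormallyUnramified.isReduced_of_field l (l ⊗[k] D)
  exact isReduced_of_injective (Algebra.TensorProduct.comm k K l) (Algebra.TensorProduct.comm k K l).injective

theorem length_tensor {A B : Type u} [CommRing A] [CommRing B] [IsLocalRing A] [IsLocalRing B] [Algebra A B]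
    [Module.Flat A B] (h : (maximalIdeal A).map (algebraMap A B) = maximalIdeal B)
    (M : Type u) [AddCommGroup M] [Module A M] (hM : IsFiniteLength A M) :
    Module.length B (B ⊗[A] M) = Module.length A M := by
  induction hM with
  | @of_subsingleton M _ _ _ => rw [Module.length_eq_zero, Module.length_eq_zero]
  | @of_simple_quotient M _ _ N _ hN ih =>
    rw [Module.length_eq_add_of_exact N.subtype N.mkQ N.injective_subtype (Submodule.mkQ_surjective N)
        (LinearMap.exact_subtype_mkQ N),
      Module.length_eq_add_of_exact (N.subtype.baseChange B) (N.mkQ.baseChange B)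
        (Module.Flat.lTensor_preserves_injective_linearMap _ N.injective_subtype)
        (LinearMap.lTensor_surjective B (Submodule.mkQ_surjective N))
        (lTensor_exact B (LinearMap.exact_subtype_mkQ N) (Submodule.mkQ_surjective N)),
      ih, Module.length_eq_one A (M ⧸ N)]
    congr 1
    obtain ⟨I, hI, ⟨e⟩⟩ := isSimpleModule_iff_quot_maximal.1 (inferInstance : IsSimpleModule A (M ⧸ N))
    obtain rfl := IsLocalRing.eq_maximalIdeal hI
    let e' := (TensorProduct.AlgebraTensorModule.congr (LinearEquiv.refl B B) e).trans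
      ((Algebra.TensorProduct.quotIdealMapEquivTensorQuot B (maximalIdeal A)).symm.toLinearEquiv)
    rw [e'.length_eq, h]
    haveI : IsSimpleModule B (B ⧸ maximalIdeal B) :=
      isSimpleModule_iff_quot_maximal.2 ⟨_, maximalIdeal.isMaximal B, ⟨LinearEquiv.refl _ _⟩⟩
    exact Module.length_eq_one B _

/-- A uniformizer at a maximal ideal with normal local ring of dimension one. -/
theorem exists_uniformizer {A' : Type u} [CommRing A'] [IsNoetherianRing A'] (m' : Ideal A') [m'.IsMaximal]
    [IsDomain (Localization.AtPrime m')] [IsIntegrallyClosed (Localization.AtPrime m')]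
    (d : A') (hdm : d ∈ m') (hd : ∀ x, d * x = 0 → x = 0)
    (hone : ∀ P₀ P : Ideal A', P₀.IsPrime → P.IsPrime → P₀ < P → P ≤ m' → P = m') :
    ∃ π ∈ m', (∀ a ∈ m', ∃ s ∉ m', π ∣ s * a) ∧ ∃ t ∉ m', ∀ x, π * x = 0 → t * x = 0 := by
  classical
  let L := Localization.AtPrime m'
  haveI : IsNoetherianRing L := IsLocalization.isNoetherianRing m'.primeCompl L inferInstance
  haveI hbot : (⊥ : Ideal L).IsPrime := Ideal.isPrime_bot
  haveI : Ring.DimensionLEOne L := ⟨fun {Q} hQ0 hQ => by
    haveI := hQ
    have hlt : (⊥ : Ideal L).comap (algebraMap A' L) < Q.comap (algebraMap A' L) :=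
      lt_of_le_of_ne (Ideal.comap_mono bot_le) fun e => hQ0 (by
        rw [← IsLocalization.map_under m'.primeCompl L Q]
        show (Q.comap (algebraMap A' L)).map (algebraMap A' L) = ⊥
        rw [← e]
        exact IsLocalization.map_under m'.primeCompl L ⊥)
    have hle : Q.comap (algebraMap A' L) ≤ m' := fun r hr =>
      (IsLocalization.AtPrime.to_map_mem_maximal_iff L m' r).1 (IsLocalRing.le_maximalIdeal hQ.ne_top hr)
    have : Q = maximalIdeal L := by
      rw [← IsLocalization.map_under m'.primeCompl L Q, ← IsLocalization.AtPrime.map_eq_maximalIdeal m' L]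
      exact congrArg _ (hone _ _ (Ideal.IsPrime.comap _) (Ideal.IsPrime.comap _) hlt hle)
    rw [this]; exact maximalIdeal.isMaximal L⟩
  have hdL : algebraMap A' L d ≠ 0 := by
    intro h
    obtain ⟨⟨s, hs⟩, hs0⟩ := (IsLocalization.map_eq_zero_iff m'.primeCompl L _).1 h
    exact hs (hd s (by rw [mul_comm]; exact hs0) ▸ m'.zero_mem)
  have hnf : ¬ IsField L := fun hf => by
    have h1 : algebraMap A' L d ∈ maximalIdeal L := (IsLocalization.AtPrime.to_map_mem_maximal_iff L m' d).2 hdm
    rw [IsLocalRing.isField_iff_maximalIdeal_eq.1 hf] at h1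
    exact hdL h1
  haveI : IsDedekindDomain L := { }
  obtain ⟨ϖ, hϖ⟩ := (((IsDiscreteValuationRing.TFAE L hnf).out 2 4) :
    IsDedekindDomain L ↔ (maximalIdeal L).IsPrincipal).1 inferInstance
  obtain ⟨⟨π, ⟨s₀, hs₀⟩⟩, hπ⟩ := IsLocalization.surj m'.primeCompl ϖ
  have hs₀u : IsUnit (algebraMap A' L s₀) := IsLocalization.map_units L (⟨s₀, hs₀⟩ : m'.primeCompl)
  have hπspan : maximalIdeal L = Ideal.span {algebraMap A' L π} := by
    rw [← hπ, Ideal.span_singleton_mul_right_unit hs₀u]; exact hϖ
  have hπm : π ∈ m' := (IsLocalization.AtPrime.to_map_mem_maximal_iff L m' π).1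
    (hπspan ▸ Ideal.mem_span_singleton_self _)
  have hπ0 : algebraMap A' L π ≠ 0 := fun h => by
    rw [h, Ideal.span_singleton_zero] at hπspan
    exact hnf (IsLocalRing.isField_iff_maximalIdeal_eq.2 hπspan)
  refine ⟨π, hπm, fun a ha => ?_, ?_⟩
  · obtain ⟨q, hq⟩ := Ideal.mem_span_singleton'.1 (hπspan ▸
      (IsLocalization.AtPrime.to_map_mem_maximal_iff L m' a).2 ha)
    obtain ⟨⟨q₀, ⟨s, hs⟩⟩, hq₀⟩ := IsLocalization.surj m'.primeCompl q
    have h : algebraMap A' L (q₀ * π) = algebraMap A' L (s * a) := by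
      rw [map_mul, map_mul, ← hq₀, ← hq]; ring
    obtain ⟨⟨s', hs'⟩, h'⟩ := (IsLocalization.eq_iff_exists m'.primeCompl L).1 h
    exact ⟨s' * s, Ideal.IsPrime.mul_notMem inferInstance hs' hs, ⟨s' * q₀, by
      dsimp only at h'; linear_combination -1 * h'⟩⟩
  · obtain ⟨S, hS⟩ := (IsNoetherian.noetherian ((Submodule.span A' {π}).annihilator) : _)
    have hker : ∀ x ∈ S, ∃ t ∉ m', t * x = 0 := by
      intro x hx
      have hx' : x * π = 0 := (Submodule.mem_annihilator_span_singleton π x).1 (hS ▸ Submodule.subset_span hx)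
      have h1 : algebraMap A' L x = 0 := by
        have := congrArg (algebraMap A' L) hx'
        rw [map_mul, map_zero] at this
        exact (mul_eq_zero.1 this).resolve_right hπ0
      obtain ⟨⟨t, ht⟩, ht0⟩ := (IsLocalization.map_eq_zero_iff m'.primeCompl L _).1 h1
      exact ⟨t, ht, ht0⟩
    choose! T hT hT0 using hker
    refine ⟨∏ x ∈ S, T x, fun h => ?_, fun x hx => ?_⟩
    · obtain ⟨x, hx, hx'⟩ := (Ideal.IsPrime.prod_mem_iff).1 h
      exact hT x hx hx'
    · have hx' : x ∈ (Submodule.span A' {π}).annihilator := by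
        rw [Submodule.mem_annihilator_span_singleton, smul_eq_mul, mul_comm]
        exact hx
      rw [← hS] at hx'
      refine Submodule.span_induction (fun y hy => ?_) (mul_zero _)
        (fun y z _ _ hy hz => by rw [mul_add, hy, hz, add_zero])
        (fun r y _ hy => by rw [smul_eq_mul, mul_left_comm, hy, mul_zero]) hx'
      obtain ⟨c, hc⟩ := Finset.dvd_prod_of_mem T hy
      rw [hc, mul_assoc, mul_comm c, ← mul_assoc, hT0 y hy, zero_mul]

/-- A criterion for a local ring to be a discrete valuation ring. -/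
theorem normal_of_generator {C : Type u} [CommRing C] [IsNoetherianRing C] (M : Ideal C) [M.IsMaximal] (p : C)
    (hpM : p ∈ M) (hreg : ∀ c, p * c = 0 → ∃ t ∉ M, t * c = 0) (hgen : ∀ x ∈ M, ∃ s ∉ M, p ∣ s * x) :
    ∃ _ : IsDomain (Localization.AtPrime M), IsIntegrallyClosed (Localization.AtPrime M) := by
  let C' := Localization.AtPrime M
  haveI : IsNoetherianRing C' := IsLocalization.isNoetherianRing M.primeCompl C' inferInstance
  have hr : IsSMulRegular C' (algebraMap C C' p) := by
    refine CAlgH3.Branches.isSMulRegular_of_mul fun v hv => ?_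
    obtain ⟨⟨c, s⟩, hcs⟩ := IsLocalization.surj M.primeCompl v
    have h0 : algebraMap C C' (p * c) = 0 := by
      rw [map_mul, ← hcs, ← mul_assoc, hv, zero_mul]
    obtain ⟨⟨r, hr⟩, hr0⟩ := (IsLocalization.map_eq_zero_iff M.primeCompl C' _).1 h0
    obtain ⟨t, ht, ht0⟩ := hreg (r * c) (by rw [mul_left_comm]; exact hr0)
    have hu1 : IsUnit (algebraMap C C' (t * r)) :=
      IsLocalization.map_units C' (⟨t * r, Ideal.IsPrime.mul_notMem inferInstance ht hr⟩ : M.primeCompl)
    have h3 := congrArg (algebraMap C C') ht0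
    rw [← mul_assoc, map_mul _ (t * r), map_zero, hu1.mul_right_eq_zero] at h3
    rw [h3] at hcs
    exact (IsLocalization.map_units C' s).mul_left_eq_zero.1 hcs
  have hπC : algebraMap C C' p ∈ maximalIdeal C' := (IsLocalization.AtPrime.to_map_mem_maximal_iff C' M _).2 hpM
  have hπgen : maximalIdeal C' ≤ Ideal.span {algebraMap C C' p} := by
    rw [← IsLocalization.AtPrime.map_eq_maximalIdeal M C', Ideal.map_le_iff_le_comap]
    intro x hx
    obtain ⟨s, hs, q, hq⟩ := hgen x hx
    rw [Ideal.mem_comap, ← Ideal.unit_mul_mem_iff_mem _ (IsLocalization.map_units C' (⟨s, hs⟩ : M.primeCompl)),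
      ← map_mul, hq, map_mul]
    exact Ideal.mul_mem_right _ _ (Ideal.mem_span_singleton_self _)
  haveI hdomC : IsDomain C' := CAlgH3.Branches.isDomain_of_regular_generator hπgen hπC hr
  refine ⟨hdomC, ?_⟩
  have hnfC : ¬ IsField C' := fun hf => by
    rw [IsLocalRing.isField_iff_maximalIdeal_eq.1 hf, Ideal.mem_bot] at hπC
    exact one_ne_zero (α := C') (hr.right_eq_zero_of_smul (x := 1) (by rw [hπC, zero_smul]))
  haveI : IsDedekindDomain C' := (((IsDiscreteValuationRing.TFAE C' hnfC).out 2 4) :
    IsDedekindDomain C' ↔ (maximalIdeal C').IsPrincipal).2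
    ⟨⟨_, le_antisymm hπgen ((Ideal.span_singleton_le_iff_mem _).2 hπC)⟩⟩
  infer_instance

section Fibre

variable {A B A' : Type u} [CommRing A] [IsLocalRing A] [CommRing B] [IsLocalRing B] [Algebra A B]
  [IsLocalHom (algebraMap A B)] [CommRing A'] [Algebra A A'] [Module.Finite A A']

local notation "inR" => (Algebra.TensorProduct.includeRight : A' →ₐ[A] B ⊗[A] A')

/-- The closed fibre of `B ⊗ A'` at a maximal ideal is reduced. -/
theorem exists_mul_mem_map
    (hm : (maximalIdeal A).map (algebraMap A B) = maximalIdeal B) (M : Ideal (B ⊗[A] A')) [M.IsMaximal]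
    (m' : Ideal A') [m'.IsMaximal] (hred : _root_.IsReduced (ResidueField B ⊗[A] (A' ⧸ m')))
    (hmA : m'.comap (algebraMap A A') = maximalIdeal A) {x : B ⊗[A] A'} (hx : x ∈ M) :
    ∃ s ∉ M, s * x ∈ m'.map (inR).toRingHom := by
  haveI : Module.Finite A (A' ⧸ m') := Module.Finite.of_surjective (Ideal.Quotient.mkₐ A m').toLinearMap
    Ideal.Quotient.mk_surjective
  let E := ResidueField B ⊗[A] (A' ⧸ m')
  haveI : _root_.IsReduced E := hred
  haveI : IsArtinianRing E := IsArtinianRing.of_finite (ResidueField B) E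
  let φ : B ⊗[A] A' →ₐ[A] E := Algebra.TensorProduct.map (IsScalarTower.toAlgHom A B (ResidueField B))
    (Ideal.Quotient.mkₐ A m')
  have hφ : ∀ b a, φ (b ⊗ₜ a) = residue B b ⊗ₜ[A] Ideal.Quotient.mk m' a := fun b a => rfl
  let I : Ideal (B ⊗[A] A') := m'.map (inR).toRingHom
  have hB : ∀ b ∈ maximalIdeal B, algebraMap B (B ⊗[A] A') b ∈ I := by
    intro b hb
    rw [← hm] at hb
    refine (Ideal.map_le_iff_le_comap (K := I.comap (algebraMap B (B ⊗[A] A')))).2 (fun a ha => ?_) hb
    show algebraMap B (B ⊗[A] A') (algebraMap A B a) ∈ I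
    rw [← IsScalarTower.algebraMap_apply, ← (inR).commutes a]
    exact Ideal.mem_map_of_mem _ (hmA.ge ha)
  let g₁ : ResidueField B →+* (B ⊗[A] A') ⧸ I := Ideal.Quotient.lift (maximalIdeal B)
    ((Ideal.Quotient.mk I).comp (algebraMap B (B ⊗[A] A'))) fun b hb => Ideal.Quotient.eq_zero_iff_mem.2 (hB b hb)
  let g₂ : A' ⧸ m' →+* (B ⊗[A] A') ⧸ I := Ideal.Quotient.lift m' ((Ideal.Quotient.mk I).comp (inR).toRingHom)
    fun a ha => Ideal.Quotient.eq_zero_iff_mem.2 (Ideal.mem_map_of_mem _ ha)
  let G₁ : ResidueField B →ₐ[A] (B ⊗[A] A') ⧸ I := { g₁ with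
    commutes' := fun r => congrArg (Ideal.Quotient.mk I) (IsScalarTower.algebraMap_apply A B (B ⊗[A] A') r).symm }
  let G₂ : A' ⧸ m' →ₐ[A] (B ⊗[A] A') ⧸ I :=
    { g₂ with commutes' := fun r => congrArg (Ideal.Quotient.mk I) ((inR).commutes r) }
  let g : E →ₐ[A] (B ⊗[A] A') ⧸ I := Algebra.TensorProduct.lift G₁ G₂ fun _ _ => Commute.all _ _
  have hg : ∀ c, g (φ c) = Ideal.Quotient.mk I c := by
    intro c
    induction c using TensorProduct.induction_on with
    | zero => simp only [map_zero]
    | tmul b a =>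
      rw [hφ, Algebra.TensorProduct.lift_tmul]
      show Ideal.Quotient.mk I (algebraMap B (B ⊗[A] A') b) * Ideal.Quotient.mk I ((inR) a) = _
      rw [← map_mul]
      simp [Algebra.TensorProduct.tmul_mul_tmul]
    | add x y hx hy => rw [map_add, map_add, map_add, hx, hy]
  have hφs : Function.Surjective φ := by
    intro e
    induction e using TensorProduct.induction_on with
    | zero => exact ⟨0, map_zero φ⟩
    | tmul b a =>
      obtain ⟨b, rfl⟩ := residue_surjective b
      obtain ⟨a, rfl⟩ := Ideal.Quotient.mk_surjective a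
      exact ⟨b ⊗ₜ a, hφ b a⟩
    | add x y hx hy =>
      obtain ⟨p, rfl⟩ := hx
      obtain ⟨q, rfl⟩ := hy
      exact ⟨p + q, map_add φ p q⟩
  obtain ⟨n, hn⟩ := IsArtinian.monotone_stabilizes
    ⟨fun n : ℕ => OrderDual.toDual (Ideal.span {φ x ^ n} : Submodule E E), fun a b hab =>
      Ideal.span_singleton_le_span_singleton.2 (pow_dvd_pow _ hab)⟩
  obtain ⟨y, hy⟩ := Ideal.mem_span_singleton'.1
    ((show (Ideal.span {φ x ^ n} : Ideal E) = Ideal.span {φ x ^ (n + 1)} from hn (n + 1) (Nat.le_succ n)).le (Ideal.mem_span_singleton_self (φ x ^ n)) : φ x ^ n ∈ Ideal.span {φ x ^ (n + 1)})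
  obtain ⟨y, rfl⟩ := hφs y
  have h0 : φ ((1 - x * y) * x) = 0 := by
    have h1 : φ x ^ n * (1 - φ x * φ y) = 0 := by linear_combination -1 * hy
    have h2 : (φ x * (1 - φ x * φ y)) ^ (n + 1) = 0 := by
      rw [mul_pow, pow_succ, pow_succ (1 - φ x * φ y)]
      linear_combination (φ x * (1 - φ x * φ y) ^ n) * h1
    rw [map_mul, map_sub, map_one, map_mul, mul_comm]
    exact IsNilpotent.eq_zero ⟨_, h2⟩
  refine ⟨1 - x * y, fun h => (Ideal.IsMaximal.ne_top ‹M.IsMaximal›) ((Ideal.eq_top_iff_one M).2
    (by have := add_mem h (M.mul_mem_right y hx); rwa [sub_add_cancel] at this)), ?_⟩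
  show (1 - x * y) * x ∈ I
  rw [← Ideal.Quotient.eq_zero_iff_mem, ← hg, h0, map_zero]

theorem comap_comap_eq (M : Ideal (B ⊗[A] A')) [M.IsMaximal] :
    (M.comap (inR).toRingHom).comap (algebraMap A A') = maximalIdeal A := by
  have hMB : M.comap (algebraMap B (B ⊗[A] A')) = maximalIdeal B :=
    IsLocalRing.eq_maximalIdeal (Ideal.isMaximal_comap_of_isIntegral_of_isMaximal M)
  rw [← ((IsLocalRing.local_hom_TFAE (algebraMap A B)).out 0 4 :
    _ ↔ (maximalIdeal B).comap (algebraMap A B) = maximalIdeal A).1 ‹IsLocalHom (algebraMap A B)›, ← hMB, Ideal.comap_comap,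
    Ideal.comap_comap, ← IsScalarTower.algebraMap_eq]
  congr 1
  exact (inR).comp_algebraMap

theorem normal_tensor [IsNoetherianRing A'] [IsNoetherianRing B] [Module.Flat A B] [Ring.KrullDimLE 1 A]
    (hm : (maximalIdeal A).map (algebraMap A B) = maximalIdeal B)
    (hred : ∀ (m' : Ideal A') [m'.IsMaximal], _root_.IsReduced (ResidueField B ⊗[A] (A' ⧸ m')))
    (hnorm : ∀ p : PrimeSpectrum A', IsDomain (Localization.AtPrime p.asIdeal) ∧
      IsIntegrallyClosed (Localization.AtPrime p.asIdeal))
    (d : A) (hdm : d ∈ maximalIdeal A) (hd : ∀ x : A', algebraMap A A' d * x = 0 → x = 0)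
    (M : Ideal (B ⊗[A] A')) [M.IsMaximal] :
    ∃ _ : IsDomain (Localization.AtPrime M), IsIntegrallyClosed (Localization.AtPrime M) := by
  let m' : Ideal A' := M.comap (inR).toRingHom
  haveI : m'.IsPrime := Ideal.IsPrime.comap _
  have hmA : m'.comap (algebraMap A A') = maximalIdeal A := comap_comap_eq M
  haveI : m'.IsMaximal := Ideal.isMaximal_of_isIntegral_of_isMaximal_comap (R := A) m'
    (by rw [hmA]; exact maximalIdeal.isMaximal A)
  obtain ⟨_, _⟩ := hnorm ⟨m', inferInstance⟩
  obtain ⟨π, hπm, hgen, t, ht, htk⟩ := exists_uniformizer m' (algebraMap A A' d) (hmA.ge hdm) hd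
    fun P₀ P hP₀ hP hlt hle => by
      haveI := hP
      haveI := hP₀
      have hlt' : P₀.comap (algebraMap A A') < P.comap (algebraMap A A') := Ideal.IsIntegral.comap_lt_comap hlt
      rcases Ring.krullDimLE_one_iff.mp inferInstance (P.comap (algebraMap A A')) (Ideal.IsPrime.comap _) with h | h
      · exact absurd (h.2 ⟨Ideal.IsPrime.comap _, bot_le⟩ hlt'.le) hlt'.not_ge
      · exact (Ideal.isMaximal_of_isIntegral_of_isMaximal_comap (R := A) P h).eq_of_le (Ideal.IsPrime.ne_top ‹_›) hle
  haveI : Module.Finite B (B ⊗[A] A') := inferInstance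
  haveI : IsNoetherianRing (B ⊗[A] A') := IsNoetherianRing.of_finite B _
  refine normal_of_generator M ((inR) π) hπm (fun c hc => ⟨(inR) t, ht, ?_⟩) fun x hx => ?_
  · let μ : A' →ₗ[A] A' := LinearMap.mulLeft A π
    have hmul : ∀ z, μ.lTensor B z = (inR) π * z := by
      intro z
      induction z using TensorProduct.induction_on with
      | zero => simp
      | tmul b a => simp [μ, Algebra.TensorProduct.tmul_mul_tmul]
      | add x y hx hy => rw [map_add, hx, hy, mul_add]
    obtain ⟨w, hw⟩ := ((Module.Flat.lTensor_exact B (LinearMap.exact_subtype_ker_map μ)) _).1 ((hmul c).trans hc)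
    rw [← hw]
    clear hw hc
    induction w using TensorProduct.induction_on with
    | zero => simp
    | tmul b a => simp [Algebra.TensorProduct.tmul_mul_tmul, htk a.1 a.2]
    | add x y hx hy => rw [map_add, mul_add, hx, hy, add_zero]
  · obtain ⟨s, hs, hsx⟩ := exists_mul_mem_map hm M m' (hred m') hmA hx
    have key : ∀ z ∈ m'.map (inR).toRingHom, ∃ r ∉ M, (inR) π ∣ r * z := by
      intro z hz
      induction hz using Submodule.span_induction with
      | mem z hz =>
        obtain ⟨a, ha, rfl⟩ := hz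
        obtain ⟨r, hr, q, hq⟩ := hgen a ha
        exact ⟨(inR) r, hr, (inR) q, by
          show (inR) r * (inR) a = _
          rw [← map_mul, hq, map_mul]⟩
      | zero => exact ⟨1, fun h => (Ideal.IsMaximal.ne_top ‹M.IsMaximal›) ((Ideal.eq_top_iff_one M).2 h), by simp⟩
      | add z w _ _ hz hw =>
        obtain ⟨r, hr, hrz⟩ := hz
        obtain ⟨r', hr', hrw⟩ := hw
        exact ⟨r * r', Ideal.IsPrime.mul_notMem inferInstance hr hr', by
          rw [mul_add, mul_right_comm r r' z, mul_assoc r r' w]
          exact dvd_add (hrz.mul_right _) (hrw.mul_left _)⟩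
      | smul c z _ hz =>
        obtain ⟨r, hr, hrz⟩ := hz
        exact ⟨r, hr, by rw [smul_eq_mul, mul_left_comm]; exact hrz.mul_left _⟩
    obtain ⟨r, hr, hrx⟩ := key _ hsx
    exact ⟨r * s, Ideal.IsPrime.mul_notMem inferInstance hr hs, by rwa [mul_assoc]⟩

end Fibre

/-- Residue fields stay reduced after a separable residue extension. -/
theorem isReduced_residue_tensor {A B A' : Type u} [CommRing A] [IsLocalRing A] [CommRing B] [IsLocalRing B]
    [Algebra A B] [IsLocalHom (algebraMap A B)] [CommRing A'] [Algebra A A'] [Algebra.IsIntegral A A']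
    [Algebra.IsSeparable (ResidueField A) (ResidueField B)] (m' : Ideal A') [m'.IsMaximal] :
    _root_.IsReduced (ResidueField B ⊗[A] (A' ⧸ m')) := by
  haveI : (m'.comap (algebraMap A A')).IsMaximal := Ideal.isMaximal_comap_of_isIntegral_of_isMaximal m'
  letI : Field (A' ⧸ m') := Ideal.Quotient.field m'
  letI : Algebra (ResidueField A) (A' ⧸ m') := (Ideal.quotientMap m' (algebraMap A A')
    (IsLocalRing.eq_maximalIdeal ‹_›).ge : A ⧸ maximalIdeal A →+* A' ⧸ m').toAlgebra
  haveI : IsScalarTower A (ResidueField A) (A' ⧸ m') := IsScalarTower.of_algebraMap_eq fun a => rfl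
  haveI : TensorProduct.CompatibleSMul A (ResidueField A) (ResidueField B) (A' ⧸ m') := ⟨fun r x y => by
    obtain ⟨a, rfl⟩ := residue_surjective r
    rw [← ResidueField.algebraMap_eq, algebraMap_smul, algebraMap_smul, TensorProduct.smul_tmul]⟩
  haveI := isReduced_tensor_separable (ResidueField A) (ResidueField B) (A' ⧸ m')
  let e := Algebra.TensorProduct.equivOfCompatibleSMul (ResidueField A) A A (ResidueField B) (A' ⧸ m')
  exact isReduced_of_injective e e.injective

/-- A finite birational extension with normal local rings is the integral closure. -/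
theorem exists_eq_of_isIntegral {B C : Type u} [CommRing B] [CommRing C] [Algebra B C]
    (θ : C →ₐ[B] FractionRing B) (hθ : Function.Injective θ)
    (hloc : ∀ (M : Ideal C) [M.IsMaximal], ∃ _ : IsDomain (Localization.AtPrime M),
      IsIntegrallyClosed (Localization.AtPrime M))
    (z : FractionRing B) (hz : IsIntegral B z) : ∃ c, θ c = z := by
  let KB := FractionRing B
  let J : Ideal C :=
    { carrier := {c | ∃ d, θ c * z = θ d}
      zero_mem' := ⟨0, by simp⟩
      add_mem' := fun {a b} ⟨d, hd⟩ ⟨e, he⟩ => ⟨d + e, by rw [map_add, add_mul, hd, he, map_add]⟩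
      smul_mem' := fun r a ⟨d, hd⟩ => ⟨r * d, by rw [smul_eq_mul, map_mul, mul_assoc, hd, map_mul]⟩ }
  by_cases hJ : J = ⊤
  · obtain ⟨d, hd⟩ : (1 : C) ∈ J := hJ ▸ Submodule.mem_top
    exact ⟨d, by rw [← hd, map_one, one_mul]⟩
  obtain ⟨M, hM, hJM⟩ := Ideal.exists_le_maximal J hJ
  haveI := hM
  obtain ⟨_, hicC⟩ := hloc M
  exfalso
  let C' := Localization.AtPrime M
  let F := FractionRing C'
  let γ : B →+* F := ((algebraMap C' F).comp (algebraMap C C')).comp (algebraMap B C)
  have hγ : ∀ b ∈ nonZeroDivisors B, IsUnit (γ b) := by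
    intro b hb
    refine isUnit_iff_ne_zero.2 fun h0 => ?_
    have h1 : algebraMap C C' (algebraMap B C b) = 0 :=
      IsFractionRing.injective C' F (h0.trans (map_zero _).symm)
    obtain ⟨⟨s, hs⟩, hs0⟩ := (IsLocalization.map_eq_zero_iff M.primeCompl C' _).1 h1
    have h2 := congrArg θ hs0
    rw [map_mul, θ.commutes, map_zero, (IsLocalization.map_units KB (⟨b, hb⟩ : nonZeroDivisors B)).mul_left_eq_zero] at h2
    exact hs (by rw [show s = 0 from hθ (h2.trans (map_zero θ).symm)]; exact M.zero_mem)
  let γ' : KB →+* F := IsLocalization.lift (M := nonZeroDivisors B) (g := γ) fun b => hγ b.1 b.2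
  have hγ' : ∀ b, γ' (algebraMap B KB b) = γ b := IsLocalization.lift_eq _
  have hi : IsIntegral C' (γ' z) := by
    obtain ⟨p, hp, hpz⟩ := hz
    refine ⟨p.map ((algebraMap C C').comp (algebraMap B C)), hp.map _, ?_⟩
    rw [Polynomial.eval₂_map, ← RingHom.comp_assoc]
    have e : γ'.comp (algebraMap B KB) = γ := RingHom.ext hγ'
    show Polynomial.eval₂ γ (γ' z) p = 0
    rw [← e, ← Polynomial.hom_eval₂, hpz, map_zero]
  obtain ⟨w, hw⟩ := IsIntegrallyClosed.algebraMap_eq_of_integral hi
  obtain ⟨⟨b₁, ⟨b₂, hb₂⟩⟩, hb⟩ := IsLocalization.surj (nonZeroDivisors B) z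
  obtain ⟨⟨c, ⟨s, hs⟩⟩, hc⟩ := IsLocalization.surj M.primeCompl w
  dsimp only at hb hc
  have hz1 := congrArg γ' hb
  rw [map_mul, hγ', hγ', ← hw] at hz1
  have hz2 : w * algebraMap C C' (algebraMap B C b₂) = algebraMap C C' (algebraMap B C b₁) :=
    IsFractionRing.injective C' F (by rw [map_mul]; exact hz1)
  have hz3 : algebraMap C C' (s * algebraMap B C b₁) = algebraMap C C' (c * algebraMap B C b₂) := by
    rw [map_mul, map_mul, ← hc, ← hz2]; ring
  obtain ⟨⟨t, ht⟩, h4⟩ := (IsLocalization.eq_iff_exists M.primeCompl C').1 hz3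
  have h5 := congrArg θ h4
  rw [map_mul, map_mul, map_mul, map_mul, θ.commutes, θ.commutes, ← hb] at h5
  have hu : IsUnit (algebraMap B KB b₂) := IsLocalization.map_units KB (⟨b₂, hb₂⟩ : nonZeroDivisors B)
  refine Ideal.IsPrime.mul_notMem (I := M) inferInstance ht hs (hJM ⟨t * c, hu.mul_right_cancel ?_⟩)
  rw [map_mul, map_mul]
  linear_combination h5

theorem range_eq {A B A' : Type u} [CommRing A] [CommRing B] [Algebra A B] [CommRing A'] [Algebra A A']
    (w : B ⊗[A] A) : (Algebra.linearMap A A').lTensor B w = TensorProduct.rid A B w ⊗ₜ[A] (1 : A') := by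
  induction w using TensorProduct.induction_on with
  | zero => simp
  | tmul b a =>
    rw [TensorProduct.rid_tmul, LinearMap.lTensor_tmul, Algebra.linearMap_apply,
      TensorProduct.smul_tmul, ← Algebra.algebraMap_eq_smul_one]
  | add x y hx hy => rw [map_add, map_add, TensorProduct.add_tmul, hx, hy]

theorem length_quot_eq {A B A' B' : Type u} [CommRing A] [IsLocalRing A] [CommRing B] [IsLocalRing B] [Algebra A B]
    [Module.Flat A B] (hm : (maximalIdeal A).map (algebraMap A B) = maximalIdeal B) [CommRing A'] [Algebra A A']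
    [CommRing B'] [Algebra B B'] (e : B ⊗[A] A' ≃ₗ[B] B') (he : ∀ b : B, e (b ⊗ₜ[A] (1 : A')) = algebraMap B B' b)
    (hfl : IsFiniteLength A (A' ⧸ LinearMap.range (Algebra.linearMap A A'))) :
    Module.length B (B' ⧸ LinearMap.range (Algebra.linearMap B B')) =
      Module.length A (A' ⧸ LinearMap.range (Algebra.linearMap A A')) := by
  let q : B ⊗[A] A' →ₗ[B] B ⊗[A] (A' ⧸ LinearMap.range (Algebra.linearMap A A')) :=
    (LinearMap.range (Algebra.linearMap A A')).mkQ.baseChange B
  have hqs : Function.Surjective q := LinearMap.lTensor_surjective B (Submodule.mkQ_surjective _)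
  have hex : Function.Exact ((Algebra.linearMap A A').lTensor B)
      ((LinearMap.range (Algebra.linearMap A A')).mkQ.lTensor B) :=
    lTensor_exact B (LinearMap.exact_map_mkQ_range _) (Submodule.mkQ_surjective _)
  have hker : Submodule.map (e : B ⊗[A] A' →ₗ[B] B') (LinearMap.ker q) = LinearMap.range (Algebra.linearMap B B') := by
    refine le_antisymm ?_ ?_
    · rintro _ ⟨c, hc, rfl⟩
      obtain ⟨w, hw⟩ := (hex c).1 hc
      exact ⟨TensorProduct.rid A B w, ((he _).symm.trans (congrArg e ((range_eq w).symm.trans hw)))⟩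
    · rintro _ ⟨b, rfl⟩
      exact ⟨b ⊗ₜ[A] (1 : A'), (hex _).2 ⟨b ⊗ₜ[A] (1 : A), by simp⟩, he b⟩
  rw [← (Submodule.Quotient.equiv (LinearMap.ker q) _ e hker).length_eq, (q.quotKerEquivOfSurjective hqs).length_eq,
    length_tensor hm _ hfl]

theorem mem_nonZeroDivisors_of_flat {A B : Type u} [CommRing A] [CommRing B] [Algebra A B] [Module.Flat A B]
    {d : A} (hd : d ∈ nonZeroDivisors A) : algebraMap A B d ∈ nonZeroDivisors B := by
  rw [mem_nonZeroDivisors_iff_right]
  intro x hx
  have hinj := Module.Flat.lTensor_preserves_injective_linearMap (M := B) (LinearMap.mulLeft A d)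
    fun a b h => (mul_cancel_left_mem_nonZeroDivisors hd).1 h
  have h1 : (LinearMap.mulLeft A d).lTensor B (x ⊗ₜ[A] (1 : A)) = 0 := by
    rw [LinearMap.lTensor_tmul, LinearMap.mulLeft_apply, mul_one]
    calc x ⊗ₜ[A] d = x ⊗ₜ[A] (d • (1 : A)) := by rw [smul_eq_mul, mul_one]
      _ = (d • x) ⊗ₜ[A] (1 : A) := (TensorProduct.smul_tmul d x 1).symm
      _ = 0 := by rw [Algebra.smul_def, mul_comm, hx, TensorProduct.zero_tmul]
  have h2 := congrArg (TensorProduct.rid A B) (hinj (h1.trans (map_zero _).symm))
  simpa using h2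

/-- Base change of a birational extension stays birational along a flat map. -/
theorem exists_birational {A B A' : Type u} [CommRing A] [CommRing B] [Algebra A B] [Module.Flat A B]
    [CommRing A'] [Algebra A A'] (ι : A' →ₐ[A] FractionRing A) (hι : Function.Injective ι) :
    ∃ θ : B ⊗[A] A' →ₐ[B] FractionRing B, Function.Injective θ := by
  let ψ : FractionRing A →+* FractionRing B := IsLocalization.map (FractionRing B) (algebraMap A B)
    (M := nonZeroDivisors A) (T := nonZeroDivisors B) fun d hd => mem_nonZeroDivisors_of_flat hd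
  let ρ : A' →ₐ[A] FractionRing B := { ψ.comp ι.toRingHom with
    commutes' := fun a => (congrArg ψ (ι.commutes a)).trans
      ((IsLocalization.map_eq _ a).trans (IsScalarTower.algebraMap_apply A B (FractionRing B) a).symm) }
  let θ : B ⊗[A] A' →ₐ[B] FractionRing B :=
    Algebra.TensorProduct.lift (Algebra.ofId B (FractionRing B)) ρ fun _ _ => Commute.all _ _
  have hθ : ∀ b a, θ (b ⊗ₜ a) = algebraMap B (FractionRing B) b * ρ a :=
    fun b a => Algebra.TensorProduct.lift_tmul _ _ _ _ _
  have hden : ∀ z : B ⊗[A] A', ∃ d ∈ nonZeroDivisors A, ∃ b : B, d • z = b ⊗ₜ[A] (1 : A') := by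
    intro z
    induction z using TensorProduct.induction_on with
    | zero => exact ⟨1, one_mem _, 0, by rw [smul_zero, TensorProduct.zero_tmul]⟩
    | tmul b a =>
      obtain ⟨⟨r, ⟨d, hd⟩⟩, h⟩ := IsLocalization.surj (nonZeroDivisors A) (ι a)
      refine ⟨d, hd, r • b, ?_⟩
      rw [← TensorProduct.tmul_smul, TensorProduct.smul_tmul r b (1 : A')]
      congr 1
      refine hι ?_
      rw [map_smul, map_smul, map_one ι, Algebra.smul_def, Algebra.smul_def, mul_one, mul_comm]
      exact h
    | add x y hx hy =>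
      obtain ⟨d, hd, b, hb⟩ := hx
      obtain ⟨e, he, c, hc⟩ := hy
      exact ⟨d * e, mul_mem hd he, e • b + d • c, by
        rw [smul_add, mul_comm d e, mul_smul, hb, mul_comm e d, mul_smul, hc, TensorProduct.smul_tmul',
          TensorProduct.smul_tmul', TensorProduct.add_tmul]⟩
  refine ⟨θ, (injective_iff_map_eq_zero θ).2 fun z hz => ?_⟩
  obtain ⟨d, hd, b, hb⟩ := hden z
  have h1 : θ (d • z) = 0 := (map_smul (θ.restrictScalars A) d z).trans (by
    show d • θ z = 0
    rw [hz, smul_zero])
  rw [hb, hθ, map_one ρ, mul_one] at h1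
  have hdz : d • z = 0 := by
    rw [hb, IsFractionRing.injective B (FractionRing B) (h1.trans (map_zero _).symm), TensorProduct.zero_tmul]
  have hinj := Module.Flat.lTensor_preserves_injective_linearMap (M := B) (LinearMap.lsmul A A' d)
    fun a b h => hι (by
      have h' := congrArg ι (h : d • a = d • b)
      simp only [LinearMap.lsmul_apply] at h'
      rw [map_smul, map_smul, Algebra.smul_def, Algebra.smul_def] at h'
      exact (IsLocalization.map_units (FractionRing A) (⟨d, hd⟩ : nonZeroDivisors A)).mul_left_cancel h')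
  refine hinj ?_
  rw [map_zero, ← hdz]
  clear hdz hb hz h1
  induction z using TensorProduct.induction_on with
  | zero => simp
  | tmul b a => rw [LinearMap.lTensor_tmul, LinearMap.lsmul_apply, TensorProduct.tmul_smul]
  | add x y hx hy => rw [map_add, hx, hy, smul_add]

theorem deltaInv_eq {A B : Type u} [CommRing A] [IsLocalRing A] [IsReduced A] (hN : CAlg.IsNagata A)
    (hdim : ringKrullDim A = 1) [CommRing B] [IsLocalRing B] [IsNoetherianRing B] [Algebra A B]
    [IsLocalHom (algebraMap A B)] [Module.Flat A B]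
    (hm : (maximalIdeal A).map (algebraMap A B) = maximalIdeal B)
    (hred : ∀ (m' : Ideal (integralClosure A (FractionRing A))) [m'.IsMaximal],
      _root_.IsReduced (ResidueField B ⊗[A] (integralClosure A (FractionRing A) ⧸ m'))) :
    Curv2.deltaInv B = Curv2.deltaInv A := by
  haveI : IsNoetherianRing A := hN.1
  obtain ⟨hfin, hnorm, hδ⟩ := S7652.result A hN hdim
  haveI : Module.Finite A (integralClosure A (FractionRing A)) := hfin
  haveI : IsNoetherianRing (integralClosure A (FractionRing A)) := IsNoetherianRing.of_finite A _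
  haveI : Ring.KrullDimLE 1 A := Ring.krullDimLE_iff.2 hdim.le
  obtain ⟨θ, hθinj⟩ := exists_birational (A := A) (B := B) (integralClosure A (FractionRing A)).val
    Subtype.val_injective
  obtain ⟨d, hdm, hd⟩ := CAlgH3.Branches.exists_regular_mem A hdim
  have hloc : ∀ (M : Ideal (B ⊗[A] integralClosure A (FractionRing A))) [M.IsMaximal],
      ∃ _ : IsDomain (Localization.AtPrime M), IsIntegrallyClosed (Localization.AtPrime M) := fun M _ =>
    normal_tensor hm hred hnorm d hdm (fun x hx => Subtype.ext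
      ((IsLocalization.map_units (FractionRing A) (⟨d, hd⟩ : nonZeroDivisors A)).mul_right_eq_zero.1
        (congrArg Subtype.val hx))) M
  haveI : Module.Finite B (B ⊗[A] integralClosure A (FractionRing A)) := inferInstance
  let θ' : B ⊗[A] integralClosure A (FractionRing A) →ₗ[B] integralClosure B (FractionRing B) :=
    LinearMap.codRestrict (Subalgebra.toSubmodule (integralClosure B (FractionRing B))) θ.toLinearMap
      fun c => (Algebra.IsIntegral.isIntegral (R := B) c).map θ
  have hbij : Function.Bijective θ' := ⟨fun a b h => hθinj (congrArg Subtype.val h), fun z => by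
    obtain ⟨c, hc⟩ := exists_eq_of_isIntegral θ hθinj hloc z.1 z.2
    exact ⟨c, Subtype.ext hc⟩⟩
  refine length_quot_eq hm (LinearEquiv.ofBijective θ' hbij) (fun b => Subtype.ext ?_) (Module.length_ne_top_iff.1 hδ.ne)
  show θ (b ⊗ₜ[A] (1 : integralClosure A (FractionRing A))) = algebraMap B (FractionRing B) b
  exact θ.commutes b

theorem deltaInv_all (A : Type u) [CommRing A] [IsLocalRing A]
    [IsReduced A] (hN : CAlg.IsNagata A) (hdim : ringKrullDim A = 1) :
    (∀ (B : Type u) [CommRing B] [IsLocalRing B] [Algebra A B] [IsLocalHom (algebraMap A B)],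
        Hensel.IsHenselization A B → Curv2.deltaInv B = Curv2.deltaInv A) ∧
      (∀ (B : Type u) [CommRing B] [IsLocalRing B] [Algebra A B] [IsLocalHom (algebraMap A B)],
        Hensel.IsStrictHenselization A B → Curv2.deltaInv B = Curv2.deltaInv A) ∧
      Curv2.deltaInv (Curv2.cpl A) = Curv2.deltaInv A := by
  haveI : IsNoetherianRing A := hN.1
  have sep_of_res : ∀ (B : Type u) [CommRing B] [IsLocalRing B] [Algebra A B] [IsLocalHom (algebraMap A B)],
      (∀ b : B, ∃ a, b - algebraMap A B a ∈ maximalIdeal B) →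
      Algebra.IsSeparable (ResidueField A) (ResidueField B) := by
    intro B _ _ _ _ h
    refine ⟨fun y => ?_⟩
    obtain ⟨b, rfl⟩ := residue_surjective y
    obtain ⟨a, ha⟩ := h b
    rw [show residue B b = algebraMap (ResidueField A) (ResidueField B) (residue A a) from Ideal.Quotient.eq.2 ha]
    exact isSeparable_algebraMap _
  refine ⟨fun B _ _ _ _ hB => ?_, fun B _ _ _ _ hB => ?_, ?_⟩
  · obtain ⟨e⟩ := HenselLib.exists_equiv_localH B (R := A)
    haveI := HenselLib.isNoetherianRing_localH (R := A)
    haveI : IsNoetherianRing B := isNoetherianRing_of_ringEquiv _ e.toRingEquiv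
    haveI := EGA43.BranchCount.weaklyEtale_of_isHenselization A B
    haveI : Module.Flat A B := Algebra.WeaklyEtale.flat
    haveI := sep_of_res B fun b => by
      obtain ⟨a, ha⟩ := EGA43.BranchCount.exists_sub_mem_localH A (e.symm b)
      refine ⟨a, fun hu => ha ?_⟩
      have h := hu.map e.symm
      rwa [map_sub, AlgEquiv.commutes] at h
    exact deltaInv_eq hN hdim (HenselLib.HensBase.map_maximalIdeal_of_isHenselization A B) fun m' _ => isReduced_residue_tensor m'
  · obtain ⟨e⟩ := HenselLib.exists_equiv_localSH B (R := A)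
    haveI := HenselLib.isNoetherianRing_localSH (R := A)
    haveI : IsNoetherianRing B := isNoetherianRing_of_ringEquiv _ e.toRingEquiv
    haveI := EGA43.BranchCount.weaklyEtale_of_isStrictHenselization A B
    haveI : Module.Flat A B := Algebra.WeaklyEtale.flat
    haveI := hB.isSepClosure
    haveI : Algebra.IsSeparable (ResidueField A) (ResidueField B) := hB.isSepClosure.separable
    exact deltaInv_eq hN hdim (HenselLib.HensBase.map_maximalIdeal_of_isStrictHenselization A B)
      fun m' _ => isReduced_residue_tensor m'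
  · haveI : IsNoetherianRing (Curv2.cpl A) := Matlis6.isNoetherianRing_adicCompletion (maximalIdeal A)
    haveI : IsLocalHom (algebraMap A (Curv2.cpl A)) := (EGA43.ConnFlat.exists_sub_mem_cpl A).1
    haveI := sep_of_res (Curv2.cpl A) (EGA43.ConnFlat.exists_sub_mem_cpl A).2
    exact deltaInv_eq hN hdim AdicCompletion.maximalIdeal_eq_map.symm fun m' _ => isReduced_residue_tensor m'

end Groth.Agent.EGA43.DeltaInvariance
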