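import Groth.Agent.Coherent.FinitePres
import Groth.Agent.QCohLoc.Basic
import Mathlib.RingTheory.Localization.Finiteness
import Mathlib.Algebra.Module.LocalizedModule.Submodule

/-!
# Quasi-coherent modules of finite presentation on affine opens

* `finitePresentation_sections`: sections over an affine open form a finitely presented module;
* `isLocalizedModule_res`, `isLocalizedModule_germ`: restriction to a basic open and the germ at a
  point are localisations.
-/

set_option autoImplicit false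
set_option backward.isDefEq.respectTransparency false

universe u v

open CategoryTheory CategoryTheory.Limits AlgebraicGeometry Opposite TopologicalSpace
open Groth.Agent.Coherent

namespace Groth.Agent.EGA43.QcohFP

theorem finitePresentation_of_localizationSpan {R M : Type u} [CommRing R] [AddCommGroup M]
    [Module R M] (t : Set R) (ht : Ideal.span t = ⊤)
    (Mₚ : t → Type u) [∀ g, AddCommGroup (Mₚ g)] [∀ g, Module R (Mₚ g)]
    (Rₚ : t → Type u) [∀ g, CommRing (Rₚ g)] [∀ g, Algebra R (Rₚ g)]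
    [∀ g : t, IsLocalization.Away g.val (Rₚ g)]
    [∀ g, Module (Rₚ g) (Mₚ g)] [∀ g, IsScalarTower R (Rₚ g) (Mₚ g)]
    (f : ∀ g, M →ₗ[R] Mₚ g) [∀ g : t, IsLocalizedModule.Away g.val (f g)]
    (H : ∀ g, Module.FinitePresentation (Rₚ g) (Mₚ g)) : Module.FinitePresentation R M := by
  have hfin : Module.Finite R M := Module.Finite.of_localizationSpan' (Rₚ := Rₚ) t ht f fun g => inferInstance
  obtain ⟨n, p, hp⟩ := Module.Finite.exists_fin' R M
  refine Module.finitePresentation_of_surjective p hp (Module.Finite.iff_fg.1 ?_)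
  let F : ∀ g : t, (Fin n → R) →ₗ[R] (Fin n → Rₚ g) := fun g =>
    LinearMap.compLeft (Algebra.linearMap R (Rₚ g)) (Fin n)
  have hF : ∀ g : t, IsLocalizedModule.Away g.val (F g) := fun g => by
    refine { map_units := fun s => ?_, surj := fun y => ?_, exists_of_eq := fun {a b} e => ?_ }
    · rw [← (Algebra.lsmul R (A := Rₚ g) R (Fin n → Rₚ g)).commutes]
      exact (IsLocalization.map_units (Rₚ g) s).map _
    · obtain ⟨b, hb⟩ := IsLocalization.exist_integer_multiples_of_finite
        (Submonoid.powers g.val) y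
      choose c hc using hb
      exact ⟨⟨c, b⟩, funext fun i => (hc i).symm⟩
    · have key : ∀ i, ∃ c : Submonoid.powers g.val, c • a i = c • b i := fun i => by
        obtain ⟨c, hc⟩ := (IsLocalization.eq_iff_exists (Submonoid.powers g.val) (Rₚ g)).1
          (congrFun e i)
        exact ⟨c, hc⟩
      choose c hc using key
      refine ⟨∏ i, c i, funext fun i => ?_⟩
      rw [Pi.smul_apply, Pi.smul_apply, ← Finset.prod_erase_mul _ _ (Finset.mem_univ i), mul_smul,
        mul_smul, hc i]
  refine Module.Finite.of_localizationSpan' (Rₚ := Rₚ) t ht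
    (fun g => p.ker.toLocalized' (Rₚ g) (Submonoid.powers g.val) (F g)) fun g => ?_
  have := hF g
  let pg := (IsLocalizedModule.map (Submonoid.powers g.val) (F g) (f g) p).extendScalarsOfIsLocalization
    (Submonoid.powers g.val) (Rₚ g)
  have hsurj : Function.Surjective pg :=
    IsLocalizedModule.map_surjective (Submonoid.powers g.val) (F g) (f g) p hp
  rw [Module.Finite.iff_fg, LinearMap.localized'_ker_eq_ker_localizedMap (Rₚ g)
    (Submonoid.powers g.val) (F g) (f g) p]
  exact Module.FinitePresentation.fg_ker pg hsurj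

theorem map_units_of_tower {R R' M : Type*} [CommRing R] [CommRing R'] [Algebra R R']
    (S : Submonoid R) [IsLocalization S R'] [AddCommGroup M] [Module R M] [Module R' M]
    [IsScalarTower R R' M] (s : S) : IsUnit (algebraMap R (Module.End R M) s) := by
  rw [← (Algebra.lsmul R (A := R') R M).commutes]
  exact (IsLocalization.map_units R' s).map _

variable {X : Scheme.{u}}

/-- A finite presentation gives finitely presented sections on affine opens. -/
theorem finitePresentation_of_presentation (M : X.Modules) [Coh.IsQCoh M]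
    (p : SheafOfModules.Presentation.{u} (R := X.ringCatSheaf) M) [hp : p.IsFinite]
    {W : X.Opens} (hW : IsAffineOpen W) : Module.FinitePresentation Γ(X, W) Γ(M, W) := by
  let π : freeMod X p.generators.I ⟶ M := p.generators.π
  have hπ : Epi (C := X.Modules) π := p.generators.epi
  let ρ : freeMod X p.relations.I ⟶ kernel (C := X.Modules) π := p.relations.π
  have hρ : Epi (C := X.Modules) ρ := p.relations.epi
  have hI : Finite p.generators.I := hp.isFiniteType_generators.finite
  have hJ : Finite p.relations.I := hp.isFiniteType_relations.finite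
  have := Fintype.ofFinite p.generators.I
  classical
  have := isQCoh_freeMod (X := X) (I := p.generators.I)
  have := isQCoh_freeMod (X := X) (I := p.relations.I)
  have hK : Coh.IsQCoh (kernel π) := isQCoh_kernel π
  let S : ShortComplex X.Modules := ShortComplex.mk (kernel.ι π) π (kernel.condition π)
  have hS : S.ShortExact := { exact := S.exact_of_f_is_kernel (kernelIsKernel π) }
  have : Coh.IsQCoh S.X₁ := hK
  have hsurj : Function.Surjective (appLin π W) := sections_surjective hS hW
  have : Module.FinitePresentation Γ(X, W) Γ(freeMod X p.generators.I, W) :=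
    Module.FinitePresentation.of_equiv (freeSectionsEquiv (I := p.generators.I) W).symm
  refine Module.finitePresentation_of_surjective (appLin π W) hsurj ?_
  have hrange : LinearMap.range (appLin (kernel.ι π) W) = LinearMap.ker (appLin π W) := by
    ext x
    exact ⟨fun ⟨y, hy⟩ => hy ▸ kernel_ι_app_zero π W y, fun hx => kernel_sections_exact π x hx⟩
  have hK' : Coh.IsQCoh (kernel ρ) := isQCoh_kernel ρ
  let T : ShortComplex X.Modules := ShortComplex.mk (kernel.ι ρ) ρ (kernel.condition ρ)
  have hT : T.ShortExact := { exact := T.exact_of_f_is_kernel (kernelIsKernel ρ) }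
  have : Coh.IsQCoh T.X₁ := hK'
  have hsurj' : Function.Surjective (appLin ρ W) := sections_surjective hT hW
  have := freeMod_sections_finite (X := X) (I := p.relations.I) W
  have : Module.Finite Γ(X, W) Γ(kernel π, W) := Module.Finite.of_surjective (appLin ρ W) hsurj'
  rw [← hrange]
  exact Module.Finite.iff_fg.1 (Module.Finite.range _)

theorem exists_nhd_finitePresentation (M : X.Modules) [Coh.IsQCoh M] (hM : CohB1.IsFP M) (x : X) :
    ∃ V : X.Opens, x ∈ V ∧ ∀ W : X.Opens, IsAffineOpen W → W ≤ V →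
      Module.FinitePresentation Γ(X, W) Γ(M, W) := by
  obtain ⟨q, hq⟩ := SheafOfModules.IsFinitePresentation.exists_quasicoherentData
    (R := X.ringCatSheaf) (M := M) (self := hM)
  obtain ⟨i, hi⟩ := ((Opens.coversTop_iff _ q.X).1 q.coversTop : IsOpenCover q.X).exists_mem x
  obtain ⟨V, hV⟩ : ∃ V : X.Opens, V = q.X i := ⟨_, rfl⟩
  refine ⟨V, hV ▸ hi, ?_⟩
  have hP : ∃ P : SheafOfModules.Presentation.{u} (R := X.ringCatSheaf.over V)
      (SheafOfModules.over M V), P.IsFinite := by
    subst hV; exact ⟨q.presentation i, hq.isFinite_presentation i⟩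
  obtain ⟨P₀, hP₀⟩ := hP
  intro W hW hWV
  let F : SheafOfModules.{u} (X.ringCatSheaf.over V) ⥤
      SheafOfModules.{u} V.toScheme.ringCatSheaf :=
    (Scheme.Modules.overEquiv V).functor
  have : PreservesColimitsOfSize.{u, u} F :=
    (Scheme.Modules.overEquiv V).toAdjunction.leftAdjoint_preservesColimits
  let e := (Scheme.Modules.overFunctorEquiv V).app M
  let P : SheafOfModules.Presentation.{u} (R := V.toScheme.ringCatSheaf) (M.restrict V.ι) :=
    SheafOfModules.Presentation.ofIsIso.{u, u, u} e.hom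
      (P₀.map F (V.sheafOfModulesEquivOverUnit X.ringCatSheaf).symm)
  have hgen : Finite P.generators.I := hP₀.isFiniteType_generators.finite
  have hrel : Finite P.relations.I := hP₀.isFiniteType_relations.finite
  have : P.IsFinite := SheafOfModules.Presentation.IsFinite.mk (p := P) ⟨hgen⟩ ⟨hrel⟩
  have hW' : IsAffineOpen (V.ι ⁻¹ᵁ W) := hW.preimage_of_isOpenImmersion _ (by simpa using hWV)
  have h := finitePresentation_of_presentation (M.restrict V.ι) P hW'
  obtain ⟨W', hW'eq⟩ : ∃ W', W' = V.ι ''ᵁ (V.ι ⁻¹ᵁ W) := ⟨_, rfl⟩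
  have him : W' = W := by
    rw [hW'eq, Scheme.Hom.image_preimage_eq_opensRange_inf, Scheme.Opens.opensRange_ι,
      inf_of_le_right hWV]
  suffices Module.FinitePresentation Γ(X, W') Γ(M, W') by subst him; exact this
  subst hW'eq
  let ψ : Γ(X, V.ι ''ᵁ (V.ι ⁻¹ᵁ W)) →+* Γ(V.toScheme, V.ι ⁻¹ᵁ W) := (V.ι.appIso _).hom.hom
  let _ := ψ.toAlgebra
  let _ := Module.compHom Γ(M.restrict V.ι, V.ι ⁻¹ᵁ W) ψ
  have : IsScalarTower Γ(X, V.ι ''ᵁ (V.ι ⁻¹ᵁ W)) Γ(V.toScheme, V.ι ⁻¹ᵁ W)
      Γ(M.restrict V.ι, V.ι ⁻¹ᵁ W) := IsScalarTower.of_algebraMap_smul fun _ _ => rfl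
  have hbij : Function.Bijective ψ :=
    ConcreteCategory.bijective_of_isIso (V.ι.appIso (V.ι ⁻¹ᵁ W)).hom
  have : Module.FinitePresentation Γ(X, V.ι ''ᵁ (V.ι ⁻¹ᵁ W)) Γ(V.toScheme, V.ι ⁻¹ᵁ W) :=
    Module.FinitePresentation.of_equiv
      (LinearEquiv.ofBijective (Algebra.linearMap _ Γ(V.toScheme, V.ι ⁻¹ᵁ W)) hbij)
  have := Module.FinitePresentation.trans Γ(X, V.ι ''ᵁ (V.ι ⁻¹ᵁ W))
    Γ(M.restrict V.ι, V.ι ⁻¹ᵁ W) Γ(V.toScheme, V.ι ⁻¹ᵁ W)
  let l : Γ(M.restrict V.ι, V.ι ⁻¹ᵁ W) ≃ₗ[Γ(X, V.ι ''ᵁ (V.ι ⁻¹ᵁ W))]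
      Γ(M, V.ι ''ᵁ (V.ι ⁻¹ᵁ W)) :=
    { (M.restrictAppIso V.ι (V.ι ⁻¹ᵁ W)).addCommGroupIsoToAddEquiv with
      map_smul' := fun r m => by
        change (M.restrictAppIso V.ι _).hom (ψ r • m) = r • (M.restrictAppIso V.ι _).hom m
        rw [Scheme.Modules.smul_restrictAppIso_hom_apply]
        congr 1
        exact (V.ι.appIso (V.ι ⁻¹ᵁ W)).hom_inv_id_apply r }
  exact Module.FinitePresentation.of_equiv l

/-- Restriction to a basic open is a localisation. -/
theorem isLocalizedModule_res (M : X.Modules) [Coh.IsQCoh M] {U : X.Opens} (hU : IsAffineOpen U)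
    (g : Γ(X, U)) :
    letI := (X.presheaf.map (homOfLE (X.basicOpen_le g)).op).hom.toAlgebra
    letI := Module.compHom Γ(M, X.basicOpen g) (X.presheaf.map (homOfLE (X.basicOpen_le g)).op).hom
    ∀ φ : Γ(M, U) →ₗ[Γ(X, U)] Γ(M, X.basicOpen g),
      (∀ m, φ m = resM M (X.basicOpen_le g) m) → IsLocalizedModule.Away g φ := by
  let _ := (X.presheaf.map (homOfLE (X.basicOpen_le g)).op).hom.toAlgebra
  let _ := Module.compHom Γ(M, X.basicOpen g) (X.presheaf.map (homOfLE (X.basicOpen_le g)).op).hom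
  intro φ hφ
  have : IsScalarTower Γ(X, U) Γ(X, X.basicOpen g) Γ(M, X.basicOpen g) :=
    IsScalarTower.of_algebraMap_smul fun _ _ => rfl
  have hloc := hU.isLocalization_basicOpen g
  refine { map_units := ?_, surj := ?_, exists_of_eq := ?_ }
  · intro s
    exact map_units_of_tower (R' := Γ(X, X.basicOpen g)) _ s
  · intro y
    obtain ⟨n, t, ht⟩ := qcoh_exists_pow_smul hU M g y
    exact ⟨⟨t, ⟨_, n, rfl⟩⟩, ((hφ t).trans ht).symm⟩
  · intro a b hab
    obtain ⟨n, hn⟩ := qcoh_exists_pow_smul_eq_zero hU M g (a - b)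
      (by rw [map_sub, ← hφ, ← hφ, hab, sub_self])
    exact ⟨⟨_, n, rfl⟩, sub_eq_zero.1 ((smul_sub _ a b).symm.trans hn)⟩

theorem finitePresentation_sections (M : X.Modules) [Coh.IsQCoh M] (hM : CohB1.IsFP M)
    {U : X.Opens} (hU : IsAffineOpen U) : Module.FinitePresentation Γ(X, U) Γ(M, U) := by
  let t : Set Γ(X, U) :=
    {g | Module.FinitePresentation Γ(X, X.basicOpen g) Γ(M, X.basicOpen g)}
  have ht : Ideal.span t = ⊤ := by
    refine hU.self_le_iSup_basicOpen_iff.1 fun x hx => ?_
    obtain ⟨V, hxV, hV⟩ := exists_nhd_finitePresentation M hM x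
    obtain ⟨g, hgV, hxg⟩ := hU.exists_basicOpen_le ⟨x, hxV⟩ hx
    exact Opens.mem_iSup.2 ⟨⟨g, hV _ (hU.basicOpen g) hgV⟩, hxg⟩
  let : ∀ g : t, Algebra Γ(X, U) Γ(X, X.basicOpen g.val) := fun g =>
    (X.presheaf.map (homOfLE (X.basicOpen_le g.val)).op).hom.toAlgebra
  let : ∀ g : t, Module Γ(X, U) Γ(M, X.basicOpen g.val) := fun g =>
    Module.compHom _ (X.presheaf.map (homOfLE (X.basicOpen_le g.val)).op).hom
  have : ∀ g : t, IsScalarTower Γ(X, U) Γ(X, X.basicOpen g.val) Γ(M, X.basicOpen g.val) :=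
    fun g => IsScalarTower.of_algebraMap_smul fun _ _ => rfl
  have : ∀ g : t, IsLocalization.Away g.val Γ(X, X.basicOpen g.val) := fun g =>
    hU.isLocalization_basicOpen g.val
  let f : ∀ g : t, Γ(M, U) →ₗ[Γ(X, U)] Γ(M, X.basicOpen g.val) := fun g =>
    { toFun := fun m => resM M (X.basicOpen_le g.val) m
      map_add' := fun a b => map_add _ a b
      map_smul' := fun r m => resM_smul M _ r m }
  have : ∀ g : t, IsLocalizedModule.Away g.val (f g) := fun g =>
    isLocalizedModule_res M hU g.val (f g) fun _ => rfl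
  exact finitePresentation_of_localizationSpan t ht (fun g : t => Γ(M, X.basicOpen g.val))
    (fun g : t => Γ(X, X.basicOpen g.val)) f fun g => g.2

/-- The germ at a point of an affine open is the localisation at the corresponding prime. -/
theorem isLocalizedModule_germ (M : X.Modules) [Coh.IsQCoh M] {U : X.Opens} (hU : IsAffineOpen U)
    {x : X} (hx : x ∈ U) :
    letI := Module.compHom (M.presheaf.stalk x) (X.presheaf.germ U x hx).hom
    ∀ φ : Γ(M, U) →ₗ[Γ(X, U)] M.presheaf.stalk x,
      (∀ m, φ m = M.presheaf.germ U x hx m) →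
        IsLocalizedModule (hU.primeIdealOf ⟨x, hx⟩).asIdeal.primeCompl φ := by
  let _ := (X.presheaf.germ U x hx).hom.toAlgebra
  let _ := Module.compHom (M.presheaf.stalk x) (X.presheaf.germ U x hx).hom
  intro φ hφ
  have : IsScalarTower Γ(X, U) (X.presheaf.stalk x) (M.presheaf.stalk x) :=
    IsScalarTower.of_algebraMap_smul fun _ _ => rfl
  have hloc := hU.isLocalization_stalk ⟨x, hx⟩
  have hmem : ∀ f : Γ(X, U), x ∈ X.basicOpen f ↔
      f ∈ (hU.primeIdealOf ⟨x, hx⟩).asIdeal.primeCompl := fun f => by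
    rw [Scheme.mem_basicOpen _ _ _ hx]
    exact (IsLocalization.AtPrime.isUnit_to_map_iff (X.presheaf.stalk x)
      (hU.primeIdealOf ⟨x, hx⟩).asIdeal f)
  refine { map_units := ?_, surj := ?_, exists_of_eq := ?_ }
  · intro s
    exact map_units_of_tower (R' := X.presheaf.stalk x) _ s
  · intro z
    obtain ⟨f, m, hf, e⟩ := QCohLoc.exists_smul_stalk_eq_germ M hU hx z
    exact ⟨⟨m, ⟨f, (hmem f).1 hf⟩⟩, e.trans (hφ m).symm⟩
  · intro a b hab
    obtain ⟨f, hf, e⟩ := QCohLoc.exists_smul_eq_zero_of_germ M hU hx (a - b)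
      (by rw [map_sub, ← hφ, ← hφ, hab, sub_self])
    exact ⟨⟨f, (hmem f).1 hf⟩, sub_eq_zero.1 ((smul_sub _ a b).symm.trans e)⟩

end Groth.Agent.EGA43.QcohFP
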