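import Groth.Agent.EGA43.QcohFP
import Groth.Prelude.Def_FlatMod2
import Groth.Agent.EGA43.FlatDescent.Global
import Mathlib.AlgebraicGeometry.Morphisms.FinitePresentation
import Mathlib.RingTheory.Flat.Localization
import Mathlib.AlgebraicGeometry.AffineScheme

/-!
# Flatness of a quasi-coherent module at a point, read off on affine opens
-/

set_option autoImplicit false
set_option backward.isDefEq.respectTransparency false

universe u

open CategoryTheory AlgebraicGeometry Opposite TopologicalSpace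

namespace Groth.Agent.EGA43.QcohFlat

variable {X Y : Scheme.{u}}

/-- The module structure of `Γ(M, U)` over `Γ(Y, V)` along `f`. -/
noncomputable abbrev overModule (f : X ⟶ Y) (M : X.Modules) (V : Y.Opens) (U : X.Opens)
    (e : U ≤ f ⁻¹ᵁ V) : Module Γ(Y, V) Γ(M, U) :=
  Module.compHom Γ(M, U) (f.appLE V U e).hom

theorem isFlatOverAt_iff (f : X ⟶ Y) (M : X.Modules) [Coh.IsQCoh M] {V : Y.Opens}
    (hV : IsAffineOpen V) {U : X.Opens} (hU : IsAffineOpen U) (e : U ≤ f ⁻¹ᵁ V) {x : X}
    (hx : x ∈ U) :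
    letI := (f.appLE V U e).hom.toAlgebra
    letI := overModule f M V U e
    haveI : IsScalarTower Γ(Y, V) Γ(X, U) Γ(M, U) := IsScalarTower.of_algebraMap_smul fun _ _ => rfl
    FlatMod.IsFlatOverAt f M x ↔ Module.Flat Γ(Y, V)
      (LocalizedModule (hU.primeIdealOf ⟨x, hx⟩).asIdeal.primeCompl Γ(M, U)) := by
  let _ := (f.appLE V U e).hom.toAlgebra
  let _ := overModule f M V U e
  have htower : IsScalarTower Γ(Y, V) Γ(X, U) Γ(M, U) :=
    IsScalarTower.of_algebraMap_smul fun _ _ => rfl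
  let := FlatMod.moduleStalkOver f M x
  let := (X.presheaf.germ U x hx).hom.toAlgebra
  let := Module.compHom (M.presheaf.stalk x) (X.presheaf.germ U x hx).hom
  let := (Y.presheaf.germ V (f x) (e hx)).hom.toAlgebra
  let := Module.compHom (M.presheaf.stalk x)
    ((Y.presheaf.germ V (f x) (e hx)).hom : Γ(Y, V) →+* Y.presheaf.stalk (f x))
  have : IsScalarTower Γ(Y, V) (Y.presheaf.stalk (f x)) (M.presheaf.stalk x) :=
    IsScalarTower.of_algebraMap_smul fun _ _ => rfl
  have hgerm : (X.presheaf.germ U x hx).hom.comp (f.appLE V U e).hom =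
      (f.stalkMap x).hom.comp (Y.presheaf.germ V (f x) (e hx)).hom := by
    rw [← CommRingCat.hom_comp, ← CommRingCat.hom_comp]
    congr 1
    rw [Scheme.Hom.appLE, Category.assoc, TopCat.Presheaf.germ_res, Scheme.Hom.germ_stalkMap]
  have : IsScalarTower Γ(Y, V) Γ(X, U) (M.presheaf.stalk x) :=
    IsScalarTower.of_algebraMap_smul fun r z => by
      change (X.presheaf.germ U x hx).hom ((f.appLE V U e).hom r) • z =
        (f.stalkMap x).hom ((Y.presheaf.germ V (f x) (e hx)).hom r) • z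
      rw [← RingHom.comp_apply, hgerm, RingHom.comp_apply]
  let φ : Γ(M, U) →ₗ[Γ(X, U)] M.presheaf.stalk x :=
    { toFun := fun m => M.presheaf.germ U x hx m
      map_add' := fun a b => map_add _ a b
      map_smul' := fun r m => QCohLoc.germ_smul' M hx r m }
  have := QcohFP.isLocalizedModule_germ M hU hx φ fun _ => rfl
  let E := (IsLocalizedModule.iso (hU.primeIdealOf ⟨x, hx⟩).asIdeal.primeCompl φ).restrictScalars
    Γ(Y, V)
  have hloc := hV.isLocalization_stalk ⟨f x, e hx⟩
  unfold FlatMod.IsFlatOverAt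
  rw [Module.flat_iff_of_isLocalization (Y.presheaf.stalk (f x))
    (hV.primeIdealOf ⟨f x, e hx⟩).asIdeal.primeCompl (M.presheaf.stalk x)]
  exact Module.Flat.equiv_iff E |>.symm

/-- **Openness of the flat locus of a module of finite presentation** (EGA IV 11.3.1). -/
theorem isOpen_setOf_isFlatOverAt (f : X ⟶ Y) [LocallyOfFinitePresentation f] (M : X.Modules)
    [Coh.IsQCoh M] (hM : CohB1.IsFP M) : IsOpen {x : X | FlatMod.IsFlatOverAt f M x} := by
  rw [isOpen_iff_forall_mem_open]
  intro x hx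
  obtain ⟨V, hV, hfx, -⟩ := Opens.isBasis_iff_nbhd.mp Y.isBasis_affineOpens
    (Opens.mem_top (f x))
  obtain ⟨U, hU, hxU, e⟩ := Opens.isBasis_iff_nbhd.mp X.isBasis_affineOpens
    (show x ∈ f ⁻¹ᵁ V from hfx)
  let _ := (f.appLE V U e).hom.toAlgebra
  let _ := overModule f M V U e
  have htower : IsScalarTower Γ(Y, V) Γ(X, U) Γ(M, U) :=
    IsScalarTower.of_algebraMap_smul fun _ _ => rfl
  have : Algebra.FinitePresentation Γ(Y, V) Γ(X, U) :=
    HasRingHomProperty.appLE @LocallyOfFinitePresentation f inferInstance ⟨V, hV⟩ ⟨U, hU⟩ e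
  have := QcohFP.finitePresentation_sections M hM hU
  refine ⟨hU.fromSpec '' {q : PrimeSpectrum Γ(X, U) |
      Module.Flat Γ(Y, V) (LocalizedModule q.asIdeal.primeCompl Γ(M, U))}, ?_,
    hU.fromSpec.isOpenEmbedding.isOpenMap _ FlatDescent.isOpen_setOf_flat, ?_⟩
  · rintro _ ⟨q, hq, rfl⟩
    have hy : hU.fromSpec q ∈ U := by
      have : hU.fromSpec q ∈ Set.range hU.fromSpec := ⟨q, rfl⟩
      rwa [hU.range_fromSpec] at this
    refine (isFlatOverAt_iff f M hV hU e hy).2 ?_
    rwa [show hU.primeIdealOf ⟨_, hy⟩ = q from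
      hU.fromSpec.isOpenEmbedding.injective (hU.fromSpec_primeIdealOf _)]
  · exact ⟨hU.primeIdealOf ⟨x, hxU⟩, (isFlatOverAt_iff f M hV hU e hxU).1 hx,
      hU.fromSpec_primeIdealOf _⟩

end Groth.Agent.EGA43.QcohFlat
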