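import Groth.Agent.DimLib.Algebra
import Mathlib.RingTheory.NoetherNormalization
import Mathlib.RingTheory.Ideal.AssociatedPrime.Finiteness
import Mathlib.RingTheory.KrullDimension.NonZeroDivisors
import Mathlib.RingTheory.KrullDimension.Polynomial
import Mathlib.RingTheory.MvPolynomial.Localization
import Mathlib.RingTheory.Localization.Integral
import Mathlib.RingTheory.TensorProduct.Free
import Mathlib.RingTheory.Flat.Basic
import Mathlib.LinearAlgebra.TensorProduct.RightExactness
import Mathlib.RingTheory.Localization.Away.Basic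

/-!
# Generic freeness over Noetherian domains
-/

universe u

set_option autoImplicit false
set_option backward.isDefEq.respectTransparency false

open TensorProduct MvPolynomial

namespace Groth.Agent.EGA43.GenFree

variable (R : Type u) [CommRing R]

/-- `M` becomes free after inverting a nonzero element of `R`. -/
def GFree (M : Type u) [AddCommGroup M] [Module R M] : Prop :=
  ∃ f : R, f ≠ 0 ∧ Module.Free (Localization.Away f) (Localization.Away f ⊗[R] M)

variable {R}

theorem GFree.of_equiv {M N : Type u} [AddCommGroup M] [Module R M] [AddCommGroup N] [Module R N]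
    (e : M ≃ₗ[R] N) (h : GFree R M) : GFree R N := by
  obtain ⟨f, hf, h⟩ := h
  exact ⟨f, hf, .of_equiv (AlgebraTensorModule.congr (.refl (Localization.Away f) _) e)⟩

theorem free_refine (f g : R) (M : Type u) [AddCommGroup M] [Module R M]
    (h : Module.Free (Localization.Away f) (Localization.Away f ⊗[R] M)) :
    Module.Free (Localization.Away (f * g)) (Localization.Away (f * g) ⊗[R] M) := by
  let φ : Localization.Away f →+* Localization.Away (f * g) :=
    IsLocalization.Away.lift f (g := algebraMap R (Localization.Away (f * g)))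
      (isUnit_of_mul_isUnit_left
        (y := algebraMap R (Localization.Away (f * g)) g)
        (by rw [← map_mul]; exact IsLocalization.Away.algebraMap_isUnit (f * g)))
  algebraize [φ]
  have : IsScalarTower R (Localization.Away f) (Localization.Away (f * g)) :=
    .of_algebraMap_eq fun r => (IsLocalization.Away.lift_eq f _ r).symm
  exact .of_equiv (AlgebraTensorModule.cancelBaseChange R (Localization.Away f)
    (Localization.Away (f * g)) (Localization.Away (f * g)) M)

theorem free_refine' (f g : R) (M : Type u) [AddCommGroup M] [Module R M]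
    (h : Module.Free (Localization.Away g) (Localization.Away g ⊗[R] M)) :
    Module.Free (Localization.Away (f * g)) (Localization.Away (f * g) ⊗[R] M) := by
  rw [mul_comm]
  exact free_refine g f M h

variable [IsDomain R]

theorem GFree.of_subsingleton (M : Type u) [AddCommGroup M] [Module R M] [Subsingleton M] :
    GFree R M := by
  refine ⟨1, one_ne_zero, ?_⟩
  have : Subsingleton (Localization.Away (1 : R) ⊗[R] M) := by
    refine ⟨fun a b => ?_⟩
    suffices ∀ a : Localization.Away (1 : R) ⊗[R] M, a = 0 by rw [this a, this b]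
    intro a
    induction a using TensorProduct.induction_on with
    | zero => rfl
    | tmul r m => rw [Subsingleton.elim m 0, tmul_zero]
    | add a b ha hb => rw [ha, hb, add_zero]
  infer_instance

omit [IsDomain R] in
theorem GFree.of_killed {M : Type u} [AddCommGroup M] [Module R M] (c : R) (hc : c ≠ 0)
    (h : ∀ m : M, c • m = 0) : GFree R M := by
  refine ⟨c, hc, ?_⟩
  have h0 : ∀ a : Localization.Away c ⊗[R] M, a = 0 := by
    intro a
    induction a using TensorProduct.induction_on with
    | zero => rfl
    | tmul r m =>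
      obtain ⟨u, hu⟩ := IsLocalization.Away.algebraMap_isUnit (S := Localization.Away c) c
      calc r ⊗ₜ[R] m = (c • ((↑u⁻¹ : Localization.Away c) * r)) ⊗ₜ[R] m := by
            rw [Algebra.smul_def, ← hu, Units.mul_inv_cancel_left]
        _ = ((↑u⁻¹ : Localization.Away c) * r) ⊗ₜ[R] (c • m) := smul_tmul _ _ _
        _ = 0 := by rw [h, tmul_zero]
    | add a b ha hb => rw [ha, hb, add_zero]
  have : Subsingleton (Localization.Away c ⊗[R] M) := ⟨fun a b => by rw [h0 a, h0 b]⟩
  infer_instance

theorem GFree.exact {M₁ M₂ M₃ : Type u} [AddCommGroup M₁] [Module R M₁] [AddCommGroup M₂]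
    [Module R M₂] [AddCommGroup M₃] [Module R M₃] (f : M₁ →ₗ[R] M₂) (g : M₂ →ₗ[R] M₃)
    (hf : Function.Injective f) (hg : Function.Surjective g) (he : Function.Exact f g)
    (h₁ : GFree R M₁) (h₃ : GFree R M₃) : GFree R M₂ := by
  obtain ⟨a, ha, h₁⟩ := h₁
  obtain ⟨b, hb, h₃⟩ := h₃
  have := free_refine a b M₁ h₁
  have := free_refine' a b M₃ h₃
  have : Module.Flat R (Localization.Away (a * b)) :=
    IsLocalization.flat (Localization.Away (a * b)) (Submonoid.powers (a * b))
  refine ⟨a * b, mul_ne_zero ha hb, ?_⟩
  let F := f.baseChange (Localization.Away (a * b))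
  let G := g.baseChange (Localization.Away (a * b))
  have hF : Function.Injective F := by
    intro x y hxy
    exact Module.Flat.lTensor_preserves_injective_linearMap (M := Localization.Away (a * b)) f hf hxy
  have hG : Function.Surjective G := fun x => LinearMap.lTensor_surjective _ hg x
  have hFG : Function.Exact F G := fun x => lTensor_exact _ he hg x
  obtain ⟨s, hs⟩ := Module.projective_lifting_property G LinearMap.id hG
  obtain ⟨e, -, -⟩ := (hFG.splitSurjectiveEquiv hF ⟨s, hs⟩ :)
  exact .of_equiv e.symm

theorem GFree.of_range {N M : Type u} [AddCommGroup N] [Module R N] [AddCommGroup M] [Module R M]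
    (ι : N →ₗ[R] M) (hι : Function.Injective ι) (c : R) (hc : c ≠ 0)
    (h : ∀ m, ∃ k : ℕ, c ^ k • m ∈ LinearMap.range ι) (hN : GFree R N) : GFree R M := by
  obtain ⟨a, ha, hN⟩ := hN
  have := free_refine a c N hN
  refine ⟨a * c, mul_ne_zero ha hc, ?_⟩
  have : Module.Flat R (Localization.Away (a * c)) :=
    IsLocalization.flat (Localization.Away (a * c)) (Submonoid.powers (a * c))
  refine Module.Free.of_equiv (LinearEquiv.ofBijective (ι.baseChange (Localization.Away (a * c)))
    ⟨fun x y hxy =>
      Module.Flat.lTensor_preserves_injective_linearMap (M := Localization.Away (a * c)) ι hι hxy, ?_⟩)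
  intro z
  induction z using TensorProduct.induction_on with
  | zero => exact ⟨0, map_zero _⟩
  | add x y hx hy =>
    obtain ⟨x, rfl⟩ := hx
    obtain ⟨y, rfl⟩ := hy
    exact ⟨x + y, map_add _ _ _⟩
  | tmul r m =>
    obtain ⟨k, n, hn⟩ := h m
    obtain ⟨u, hu⟩ : IsUnit (algebraMap R (Localization.Away (a * c)) (c ^ k)) := by
      rw [map_pow]
      exact (isUnit_of_mul_isUnit_right (x := algebraMap R (Localization.Away (a * c)) a)
        (by rw [← map_mul]; exact IsLocalization.Away.algebraMap_isUnit (a * c))).pow k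
    refine ⟨((↑u⁻¹ : Localization.Away (a * c)) * r) ⊗ₜ n, ?_⟩
    rw [LinearMap.baseChange_tmul, hn, ← smul_tmul, Algebra.smul_def, ← hu,
      Units.mul_inv_cancel_left]

/-- A quotient of a polynomial ring over a field by a nonzero ideal receives an integral injective
map only from polynomial rings in fewer variables. -/
theorem lt_of_integral_inj {K : Type u} [Field K] {s n : ℕ} (J : Ideal (MvPolynomial (Fin n) K))
    (r : MvPolynomial (Fin n) K) (hr0 : r ≠ 0) (hr : r ∈ J)
    (g : MvPolynomial (Fin s) K →ₐ[K] MvPolynomial (Fin n) K ⧸ J)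
    (hg : Function.Injective g) (hgi : g.IsIntegral) : s < n := by
  have h₁ := ringKrullDim_succ_le_of_surjective (Ideal.Quotient.mk J)
    Ideal.Quotient.mk_surjective (mem_nonZeroDivisors_of_ne_zero hr0)
    (Ideal.Quotient.eq_zero_iff_mem.2 hr)
  algebraize [g.toRingHom]
  have : Algebra.IsIntegral (MvPolynomial (Fin s) K) (MvPolynomial (Fin n) K ⧸ J) := ⟨hgi⟩
  rw [← DimLib.ringKrullDim_eq_of_isIntegral (R := MvPolynomial (Fin s) K) hg,
    MvPolynomial.ringKrullDim_of_isNoetherianRing, MvPolynomial.ringKrullDim_of_isNoetherianRing,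
    ringKrullDim_eq_zero_of_field] at h₁
  simp only [Nat.card_eq_fintype_card, Fintype.card_fin, zero_add] at h₁
  exact_mod_cast h₁

/-- Noether normalisation over `R` up to denominators, with explicit fraction fields. -/
theorem exists_integral_multiples_aux {n : ℕ} (q : Ideal (MvPolynomial (Fin n) R)) (hq : q ≠ ⊥)
    {K L : Type u} [Field K] [Field L] [Algebra R K] [IsFractionRing R K]
    [Algebra (MvPolynomial (Fin n) R ⧸ q) L] [Algebra R L] [Algebra K L] [IsScalarTower R K L]
    [IsScalarTower R (MvPolynomial (Fin n) R ⧸ q) L]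
    (hBL : Function.Injective (algebraMap (MvPolynomial (Fin n) R ⧸ q) L))
    (hinj : Function.Injective (algebraMap R L)) :
    ∃ s < n, ∃ (a : Fin s → MvPolynomial (Fin n) R ⧸ q) (c : Fin n → R), (∀ i, c i ≠ 0) ∧
      ∀ i, (aeval (R := R) a).toRingHom.IsIntegralElem
        (c i • Ideal.Quotient.mk q (X i)) := by
  let B := MvPolynomial (Fin n) R ⧸ q
  let x : Fin n → L := fun i => algebraMap B L (Ideal.Quotient.mk q (X i))
  let φ : MvPolynomial (Fin n) K →ₐ[K] L := aeval x
  have hφR : ∀ p : MvPolynomial (Fin n) R,
      φ (MvPolynomial.map (algebraMap R K) p) = algebraMap B L (Ideal.Quotient.mk q p) := by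
    intro p
    rw [show φ (MvPolynomial.map (algebraMap R K) p) = aeval x p from aeval_map_algebraMap K x p]
    have : (aeval x : MvPolynomial (Fin n) R →ₐ[R] L) =
        (IsScalarTower.toAlgHom R B L).comp (Ideal.Quotient.mkₐ R q) := algHom_ext fun i => by
      simp [x]; rfl
    rw [this]
    rfl
  have hI : RingHom.ker φ ≠ ⊤ := RingHom.ker_ne_top _
  obtain ⟨s, hsn, g, hg, hgi⟩ := exists_integral_inj_algHom_of_quotient (RingHom.ker φ) hI
  have hlt : s < n := by
    obtain ⟨p, hp, hp0⟩ := Submodule.exists_mem_ne_zero_of_ne_bot hq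
    have h0 : MvPolynomial.map (algebraMap R K) p ≠ 0 := by
      intro h
      exact hp0 (MvPolynomial.map_injective _ (IsFractionRing.injective R K) (by rw [h, map_zero]))
    refine lt_of_integral_inj (RingHom.ker φ) _ h0 ?_ g hg hgi
    rw [RingHom.mem_ker, hφR, Ideal.Quotient.eq_zero_iff_mem.2 hp, map_zero]
  let ψ : MvPolynomial (Fin n) K ⧸ RingHom.ker φ →ₐ[K] L :=
    Ideal.Quotient.liftₐ _ φ fun _ h => h
  let g' := ψ.comp g
  -- clear the denominators of the images of the variables
  have hden : ∀ j : Fin s, ∃ (c : R) (a : B), c ≠ 0 ∧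
      algebraMap B L a = algebraMap R L c * g' (X j) := by
    intro j
    obtain ⟨P, hP⟩ := Ideal.Quotient.mk_surjective (g (X j))
    let _ := MvPolynomial.algebraMvPolynomial (R := R) (S := K) (σ := Fin n)
    obtain ⟨⟨p, ⟨_, c, hc, rfl⟩⟩, hpc⟩ :=
      IsLocalization.surj ((nonZeroDivisors R).map (C (σ := Fin n))) P
    refine ⟨c, Ideal.Quotient.mk q p, nonZeroDivisors.ne_zero hc, ?_⟩
    change P * MvPolynomial.map (algebraMap R K) (C c) = MvPolynomial.map (algebraMap R K) p at hpc
    rw [← hφR, ← hpc, map_mul, map_C]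
    show φ P * φ (C _) = _ * ψ (g (X j))
    rw [← hP]
    show φ P * φ (C _) = _ * φ P
    rw [show φ (C (algebraMap R K c)) = algebraMap K L (algebraMap R K c) from aeval_C _ _,
      ← IsScalarTower.algebraMap_apply, mul_comm]
  choose d a hd had using hden
  refine ⟨s, hlt, a, ?_⟩
  let h : MvPolynomial (Fin s) K →ₐ[K] L := aeval fun j => algebraMap B L (a j)
  have hint : ∀ i, h.toRingHom.IsIntegralElem (x i) := by
    intro i
    have hx : g'.toRingHom.IsIntegralElem (x i) := by
      obtain ⟨P, hP, hP'⟩ := hgi (Ideal.Quotient.mk (RingHom.ker φ) (X i))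
      refine ⟨P, hP, ?_⟩
      have := congrArg ψ hP'
      rw [map_zero] at this
      rw [← this, show ψ (Polynomial.eval₂ g.toRingHom _ P) = ψ.toRingHom _ from rfl,
        Polynomial.hom_eval₂]
      congr 1
      show x i = φ (X i)
      simp [φ]
    obtain ⟨P, hP, hP'⟩ := hx
    let sc : MvPolynomial (Fin s) K →ₐ[K] MvPolynomial (Fin s) K :=
      aeval fun j => C (algebraMap R K (d j))⁻¹ * X j
    have hsc : h.comp sc = g' := algHom_ext fun j => by
      have hne : algebraMap R L (d j) ≠ 0 := (map_ne_zero_iff _ hinj).2 (hd j)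
      simp only [AlgHom.comp_apply, sc, h, aeval_X, map_mul, aeval_C, map_inv₀,
        ← IsScalarTower.algebraMap_apply, had]
      rw [inv_mul_cancel_left₀ hne]
    refine ⟨P.map sc.toRingHom, hP.map _, ?_⟩
    rw [Polynomial.eval₂_map]
    exact (congrArg (fun t => Polynomial.eval₂ t (x i) P) (congrArg AlgHom.toRingHom hsc)).trans hP'
  have H : ∀ i, ∃ c : R, c ≠ 0 ∧
      (aeval (R := R) a).toRingHom.IsIntegralElem (c • Ideal.Quotient.mk q (X i)) := by
    intro i
    let _ := MvPolynomial.algebraMvPolynomial (R := R) (S := K) (σ := Fin s)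
    algebraize [(aeval (R := R) a).toRingHom, h.toRingHom]
    let _ : Algebra (MvPolynomial (Fin s) R) L :=
      ((algebraMap B L).comp (aeval (R := R) a).toRingHom).toAlgebra
    have : IsScalarTower (MvPolynomial (Fin s) R) B L := .of_algebraMap_eq fun _ => rfl
    have : IsScalarTower (MvPolynomial (Fin s) R) (MvPolynomial (Fin s) K) L := by
      refine .of_algebraMap_eq' (MvPolynomial.ringHom_ext (fun r => ?_) fun j => ?_)
      · show algebraMap B L (aeval a (C r)) = h (MvPolynomial.map (algebraMap R K) (C r))
        rw [aeval_C, map_C, show h (C (algebraMap R K r)) = algebraMap K L (algebraMap R K r)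
          from aeval_C _ _, ← IsScalarTower.algebraMap_apply, ← IsScalarTower.algebraMap_apply]
      · show algebraMap B L (aeval a (X j)) = h (MvPolynomial.map (algebraMap R K) (X j))
        simp [h]
    obtain ⟨⟨_, c, hc, rfl⟩, hm⟩ :=
      IsIntegral.exists_multiple_integral_of_isLocalization
        ((nonZeroDivisors R).map (C (σ := Fin s))) (Rₘ := MvPolynomial (Fin s) K) (x i) (hint i)
    refine ⟨c, nonZeroDivisors.ne_zero hc, ?_⟩
    refine (isIntegral_algebraMap_iff (R := MvPolynomial (Fin s) R) hBL).1 ?_
    have e : algebraMap B L (c • Ideal.Quotient.mk q (X i)) = algebraMap B L (aeval a (C c)) * x i := by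
      rw [aeval_C]
      exact (congrArg (algebraMap B L) (Algebra.smul_def c (Ideal.Quotient.mk q (X i)))).trans
        (map_mul _ _ _)
    exact (congrArg (IsIntegral (MvPolynomial (Fin s) R)) e).mpr hm
  choose c hc hci using H
  exact ⟨c, hc, hci⟩

/-- Noether normalisation over `R` up to denominators, for a proper prime quotient of a polynomial
ring meeting `R` only in zero. -/
theorem exists_integral_multiples {n : ℕ}
    (q : Ideal (MvPolynomial (Fin n) R)) [q.IsPrime] (hq : q ≠ ⊥) (hqR : ∀ r : R, C r ∈ q → r = 0) :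
    ∃ s < n, ∃ (a : Fin s → MvPolynomial (Fin n) R ⧸ q) (c : Fin n → R), (∀ i, c i ≠ 0) ∧
      ∀ i, (aeval (R := R) a).toRingHom.IsIntegralElem
        (c i • Ideal.Quotient.mk q (X i)) := by
  have hinj : Function.Injective
      (algebraMap R (FractionRing (MvPolynomial (Fin n) R ⧸ q))) := by
    rw [IsScalarTower.algebraMap_eq R (MvPolynomial (Fin n) R ⧸ q)
      (FractionRing (MvPolynomial (Fin n) R ⧸ q))]
    refine (IsFractionRing.injective (MvPolynomial (Fin n) R ⧸ q)
      (FractionRing (MvPolynomial (Fin n) R ⧸ q))).comp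
      ((injective_iff_map_eq_zero (algebraMap R (MvPolynomial (Fin n) R ⧸ q))).2 fun r hr => ?_)
    exact hqR r (Ideal.Quotient.eq_zero_iff_mem.1 hr)
  have : FaithfulSMul R (FractionRing (MvPolynomial (Fin n) R ⧸ q)) :=
    (faithfulSMul_iff_algebraMap_injective R _).2 hinj
  let _ : Algebra (FractionRing R) (FractionRing (MvPolynomial (Fin n) R ⧸ q)) :=
    FractionRing.liftAlgebra R _
  have := FractionRing.isScalarTower_liftAlgebra R (FractionRing (MvPolynomial (Fin n) R ⧸ q))
  exact exists_integral_multiples_aux q hq (K := FractionRing R)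
    (L := FractionRing (MvPolynomial (Fin n) R ⧸ q)) (IsFractionRing.injective _ _) hinj

set_option maxHeartbeats 1000000 in
/-- Generic freeness for finite modules over polynomial rings. -/
theorem gFree_mvPolynomial [IsNoetherianRing R] : ∀ (n : ℕ) (M : Type u) [AddCommGroup M]
    [Module (MvPolynomial (Fin n) R) M] [Module R M] [IsScalarTower R (MvPolynomial (Fin n) R) M]
    [Module.Finite (MvPolynomial (Fin n) R) M], GFree R M := by
  intro n
  induction n using Nat.strong_induction_on with
  | _ n ih =>
  intro M _ _ _ _ hM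
  suffices H : ∀ (N : Type u) [AddCommGroup N] [Module (MvPolynomial (Fin n) R) N]
      [Module.Finite (MvPolynomial (Fin n) R) N],
      let _ := Module.compHom N (algebraMap R (MvPolynomial (Fin n) R))
      GFree R N by
    have h := H M
    let _ : Module R M := ‹Module R M›
    convert h using 1
    refine Module.ext' _ _ fun r m => ?_
    exact (algebraMap_smul (MvPolynomial (Fin n) R) r m).symm
  intro N _ _ _
  refine IsNoetherianRing.induction_on_isQuotientEquivQuotientPrime (MvPolynomial (Fin n) R) ‹_›
    (motive := fun N _ _ _ => letI := Module.compHom N (algebraMap R (MvPolynomial (Fin n) R))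
      GFree R N) ?_ ?_ ?_
  · intro N _ _ _ _
    let _ := Module.compHom N (algebraMap R (MvPolynomial (Fin n) R))
    exact GFree.of_subsingleton N
  · intro N _ _ _ p e
    let _ := Module.compHom N (algebraMap R (MvPolynomial (Fin n) R))
    have : IsScalarTower R (MvPolynomial (Fin n) R) N :=
      IsScalarTower.of_algebraMap_smul fun _ _ => rfl
    refine GFree.of_equiv (e.restrictScalars R).symm ?_
    by_cases hker : ∀ r : R, C r ∈ p.asIdeal → r = 0
    swap
    · push Not at hker
      obtain ⟨r, hr, hr0⟩ := hker
      refine GFree.of_killed r hr0 fun m => ?_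
      obtain ⟨m, rfl⟩ := Ideal.Quotient.mk_surjective m
      rw [Algebra.smul_def, ← Ideal.Quotient.mk_algebraMap, ← map_mul,
        Ideal.Quotient.eq_zero_iff_mem]
      exact p.asIdeal.mul_mem_right _ hr
    by_cases hp : p.asIdeal = ⊥
    · refine GFree.of_equiv ((Submodule.quotEquivOfEqBot _ hp).restrictScalars R).symm
        ⟨1, one_ne_zero, inferInstance⟩
    · obtain ⟨s, hs, a, c, hc, hci⟩ := exists_integral_multiples p.asIdeal hp hker
      algebraize [(aeval (R := R) a).toRingHom]
      have : IsScalarTower R (MvPolynomial (Fin s) R) (MvPolynomial (Fin n) R ⧸ p.asIdeal) :=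
        .of_algebraMap_eq fun r => ((aeval (R := R) a).commutes r).symm
      let T := Algebra.adjoin (MvPolynomial (Fin s) R)
        (Set.range fun i => c i • Ideal.Quotient.mk p.asIdeal (X i))
      have : Module.Finite (MvPolynomial (Fin s) R) T :=
        Algebra.finite_adjoin_of_finite_of_isIntegral (Set.finite_range _)
          (by rintro _ ⟨i, rfl⟩; exact hci i)
      refine GFree.of_range (R := R) (N := T) ((T.val.restrictScalars R).toLinearMap)
        Subtype.val_injective (∏ i, c i) (Finset.prod_ne_zero_iff.2 fun i _ => hc i) ?_ (ih s hs T)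
      intro m
      obtain ⟨P, rfl⟩ := Ideal.Quotient.mk_surjective m
      suffices ∃ k : ℕ, (∏ i, c i) ^ k • Ideal.Quotient.mk p.asIdeal P ∈ T by
        obtain ⟨k, hk⟩ := this
        exact ⟨k, ⟨_, hk⟩, rfl⟩
      induction P using MvPolynomial.induction_on with
      | C r =>
        refine ⟨0, ?_⟩
        rw [pow_zero, one_smul]
        exact (IsScalarTower.algebraMap_apply R (MvPolynomial (Fin s) R)
          (MvPolynomial (Fin n) R ⧸ p.asIdeal) r) ▸ T.algebraMap_mem _
      | add P Q hP hQ =>
        obtain ⟨k, hk⟩ := hP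
        obtain ⟨l, hl⟩ := hQ
        refine ⟨k + l, ?_⟩
        rw [map_add, smul_add]
        refine T.add_mem ?_ ?_
        · rw [add_comm, pow_add, mul_smul]
          exact (T.restrictScalars R).smul_mem hk _
        · rw [pow_add, mul_smul]
          exact (T.restrictScalars R).smul_mem hl _
      | mul_X P i hP =>
        obtain ⟨k, hk⟩ := hP
        refine ⟨k + 1, ?_⟩
        have : (∏ i, c i) • Ideal.Quotient.mk p.asIdeal (X i) ∈ T := by
          rw [← Finset.prod_erase_mul _ _ (Finset.mem_univ i), mul_smul]
          exact (T.restrictScalars R).smul_mem (Algebra.subset_adjoin ⟨i, rfl⟩) _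
        rw [map_mul, pow_succ, ← smul_mul_smul_comm]
        exact T.mul_mem hk this
  · intro N₁ _ _ _ N₂ _ _ _ N₃ _ _ _ f g hf hg he h₁ h₃
    let _ := Module.compHom N₁ (algebraMap R (MvPolynomial (Fin n) R))
    let _ := Module.compHom N₂ (algebraMap R (MvPolynomial (Fin n) R))
    let _ := Module.compHom N₃ (algebraMap R (MvPolynomial (Fin n) R))
    have : IsScalarTower R (MvPolynomial (Fin n) R) N₁ :=
      IsScalarTower.of_algebraMap_smul fun _ _ => rfl
    have : IsScalarTower R (MvPolynomial (Fin n) R) N₂ :=
      IsScalarTower.of_algebraMap_smul fun _ _ => rfl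
    have : IsScalarTower R (MvPolynomial (Fin n) R) N₃ :=
      IsScalarTower.of_algebraMap_smul fun _ _ => rfl
    exact GFree.exact (f.restrictScalars R) (g.restrictScalars R) hf hg he h₁ h₃

set_option maxHeartbeats 1000000 in
/-- **Generic freeness** over a Noetherian domain. -/
theorem gFree [IsNoetherianRing R] {S : Type u} [CommRing S] [Algebra R S]
    [Algebra.FiniteType R S] (M : Type u) [AddCommGroup M] [Module S M] [Module R M]
    [IsScalarTower R S M] [Module.Finite S M] : GFree R M := by
  obtain ⟨n, φ, hφ⟩ := Algebra.FiniteType.iff_quotient_mvPolynomial''.1 ‹Algebra.FiniteType R S›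
  let _ : Algebra (MvPolynomial (Fin n) R) S := φ.toRingHom.toAlgebra
  have : IsScalarTower R (MvPolynomial (Fin n) R) S :=
    .of_algebraMap_eq fun r => (φ.commutes r).symm
  let _ : Module (MvPolynomial (Fin n) R) M := Module.compHom M φ.toRingHom
  have : IsScalarTower (MvPolynomial (Fin n) R) S M :=
    IsScalarTower.of_algebraMap_smul fun _ _ => rfl
  have : IsScalarTower R (MvPolynomial (Fin n) R) M :=
    IsScalarTower.of_algebraMap_smul fun r m => by
      show φ (algebraMap R _ r) • m = r • m
      rw [φ.commutes, algebraMap_smul]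
  obtain ⟨t, ht⟩ := (Module.Finite.fg_top : (⊤ : Submodule S M).FG)
  have : Module.Finite (MvPolynomial (Fin n) R) M := ⟨⟨t, by
    rw [← Submodule.restrictScalars_span (MvPolynomial (Fin n) R) S hφ, ht,
      Submodule.restrictScalars_top]⟩⟩
  exact gFree_mvPolynomial n M

end Groth.Agent.EGA43.GenFree
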