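import Groth.Agent.EGA43.FlatDescent.Model
import Groth.Agent.EGA43.FlatDescent.Main
import Mathlib.Algebra.Module.FinitePresentation
import Mathlib.RingTheory.TensorProduct.MvPolynomial
import Mathlib.RingTheory.Flat.Equalizer
import Mathlib.RingTheory.Polynomial.Basic

/-!
# Kernels onto flat modules of finite presentation are of finite presentation

`A → S` of finite presentation, `C` a finitely presented `S`-module, flat over `A`: the kernel of
an epimorphism from a finitely presented module onto `C` is finitely presented.
-/

universe u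

set_option autoImplicit false
set_option backward.isDefEq.respectTransparency false

open TensorProduct Function

namespace Groth.Agent.EGA43.FlatSyzygy

section Schanuel

variable {R P P' N : Type u} [CommRing R] [AddCommGroup P] [Module R P] [AddCommGroup P']
  [Module R P'] [AddCommGroup N] [Module R N]

/-- The kernel of `(p, p')` when `p'` factors through `p`. -/
noncomputable def kerShear (p : P →ₗ[R] N) (p' : P' →ₗ[R] N) (h : P' →ₗ[R] P) (hh : p ∘ₗ h = p') :
    LinearMap.ker (p.coprod p') ≃ₗ[R] LinearMap.ker p × P' where
  toFun x := (⟨x.1.1 + h x.1.2, by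
    have := x.2
    rw [LinearMap.mem_ker, LinearMap.coprod_apply] at this
    rw [LinearMap.mem_ker, map_add, ← LinearMap.comp_apply, hh, this]⟩, x.1.2)
  map_add' x y := by ext <;> simp [add_add_add_comm]
  map_smul' c x := by ext <;> simp
  invFun y := ⟨(y.1.1 - h y.2, y.2), by
    rw [LinearMap.mem_ker, LinearMap.coprod_apply, map_sub, LinearMap.mem_ker.1 y.1.2,
      ← LinearMap.comp_apply, hh, zero_sub, neg_add_cancel]⟩
  left_inv x := by ext <;> simp
  right_inv y := by ext <;> simp

/-- Schanuel: finite presentation of the kernel does not depend on the projective cover. -/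
theorem finitePresentation_ker_congr [Module.Projective R P] [Module.Projective R P']
    [Module.FinitePresentation R P] [Module.FinitePresentation R P'] (p : P →ₗ[R] N)
    (hp : Surjective p) (p' : P' →ₗ[R] N) (hp' : Surjective p')
    (H : Module.FinitePresentation R (LinearMap.ker p')) :
    Module.FinitePresentation R (LinearMap.ker p) := by
  obtain ⟨h, hh⟩ := Module.projective_lifting_property p p' hp
  obtain ⟨h', hh'⟩ := Module.projective_lifting_property p' p hp'
  let sw : LinearMap.ker (p.coprod p') ≃ₗ[R] LinearMap.ker (p'.coprod p) :=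
    (LinearEquiv.prodComm R P P').ofSubmodules _ _ (by
      ext x
      simp [LinearMap.mem_ker, add_comm])
  let e : (LinearMap.ker p' × P) ≃ₗ[R] (LinearMap.ker p × P') :=
    (sw.trans (kerShear p' p h' hh')).symm.trans (kerShear p p' h hh)
  refine Module.finitePresentation_of_surjective
    ((LinearMap.fst R (LinearMap.ker p) P') ∘ₗ e.toLinearMap)
    (fun x => ⟨e.symm (x, 0), by simp⟩) ?_
  suffices hmap : Submodule.map (e.symm : (LinearMap.ker p × P') →ₗ[R] (LinearMap.ker p' × P))
      (LinearMap.ker (LinearMap.fst R (LinearMap.ker p) P')) =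
      LinearMap.ker (LinearMap.fst R (LinearMap.ker p) P' ∘ₗ e.toLinearMap) by
    rw [← hmap]
    refine Submodule.FG.map _ ?_
    rw [LinearMap.ker_fst, ← Submodule.map_top]
    exact Submodule.FG.map _ (Module.Finite.fg_top (R := R) (M := P'))
  ext x
  constructor
  · rintro ⟨y, hy, rfl⟩
    show (e (e.symm y)).1 = 0
    rw [e.apply_symm_apply]
    exact hy
  · intro hx
    exact ⟨e x, hx, e.symm_apply_apply x⟩

end Schanuel

/-- Base change of a presentation of a flat module along a pushout of rings. -/
theorem exists_ker_baseChange {B A SB SA M : Type u} [CommRing B] [CommRing A] [Algebra B A]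
    [CommRing SB] [Algebra B SB] [CommRing SA] [Algebra A SA] [Algebra SB SA] [Algebra B SA]
    [IsScalarTower B A SA] [IsScalarTower B SB SA] [Algebra.IsPushout B A SB SA]
    [IsNoetherianRing SB] [AddCommGroup M] [Module B M] [Module SB M] [IsScalarTower B SB M]
    [Module.Finite SB M] [Module.Flat B M] :
    ∃ (k : ℕ) (p : (Fin k → SA) →ₗ[SA] SA ⊗[SB] M), Surjective p ∧
      Module.FinitePresentation SA (LinearMap.ker p) := by
  obtain ⟨k, q, hq⟩ := Module.Finite.exists_fin' SB M
  have : Module.FinitePresentation SB (LinearMap.ker q) := Module.finitePresentation_of_finite _ _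
  have hexact : Exact (q.ker.subtype) q := LinearMap.exact_subtype_ker_map q
  have hinjA : Injective ((q.ker.subtype.restrictScalars B).lTensor A) :=
    LinearMap.lTensor_injective_of_exact_of_flat (q.restrictScalars B) hq
      (q.ker.subtype.restrictScalars B) (Submodule.injective_subtype _) hexact A
  have hinj : Injective (q.ker.subtype.baseChange SA) := by
    let cK := Algebra.IsPushout.cancelBaseChange B A SB SA (LinearMap.ker q)
    let cV := Algebra.IsPushout.cancelBaseChange B A SB SA (Fin k → SB)
    have : ∀ z, q.ker.subtype.baseChange SA (cK.symm z) =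
        cV.symm ((q.ker.subtype.restrictScalars B).lTensor A z) := fun z => by
      induction z using TensorProduct.induction_on with
      | zero => simp
      | add u v hu hv => simp only [map_add, hu, hv]
      | tmul a x => simp [cK, cV]
    intro x y hxy
    apply cK.injective
    apply hinjA
    apply cV.symm.injective
    rw [← this, ← this, cK.symm_apply_apply, cK.symm_apply_apply, hxy]
  let eV : (Fin k → SA) ≃ₗ[SA] SA ⊗[SB] (Fin k → SB) :=
    (TensorProduct.piScalarRight SB SA SA (Fin k)).symm
  refine ⟨k, q.baseChange SA ∘ₗ eV.toLinearMap,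
    (LinearMap.lTensor_surjective SA hq).comp eV.surjective, ?_⟩
  have hex : LinearMap.range (q.ker.subtype.baseChange SA) = LinearMap.ker (q.baseChange SA) := by
    ext x
    exact ((lTensor_exact SA hexact hq) x).symm
  have : Module.FinitePresentation SA (LinearMap.ker (q.baseChange SA)) := by
    rw [← hex]
    exact Module.FinitePresentation.of_equiv (R := SA) (M := SA ⊗[SB] LinearMap.ker q)
      (N := LinearMap.range (q.ker.subtype.baseChange SA)) (LinearEquiv.ofInjective _ hinj)
  exact Module.FinitePresentation.of_equiv (R := SA) (M := LinearMap.ker (q.baseChange SA))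
    (eV.symm.ofSubmodules (LinearMap.ker (q.baseChange SA))
    (LinearMap.ker (q.baseChange SA ∘ₗ eV.toLinearMap)) (by
      rw [LinearMap.ker_comp, ← Submodule.map_equiv_eq_comap_symm]
      rfl))

open FlatDescent MvPolynomial

attribute [local instance] FlatDescent.bcModule MvPolynomial.algebraMvPolynomial

theorem finite_quot {Q : Type u} [CommRing Q] {k : ℕ} (K₀ : Submodule Q (Fin k → Q)) :
    Module.Finite Q ((Fin k → Q) ⧸ K₀) := inferInstance

set_option maxHeartbeats 800000 in
/-- A flat module with a Noetherian model has a cover with finitely presented kernel. -/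
theorem exists_ker_of_model {R₀ A M₀ N : Type u} [CommRing R₀] [IsNoetherianRing R₀] [CommRing A]
    [Algebra R₀ A] {n : ℕ} [AddCommGroup M₀] [Module R₀ M₀]
    [Module (MvPolynomial (Fin n) R₀) M₀] [IsScalarTower R₀ (MvPolynomial (Fin n) R₀) M₀]
    [Module.Finite (MvPolynomial (Fin n) R₀) M₀] [AddCommGroup N] [Module A N]
    [Module (MvPolynomial (Fin n) A) N] [IsScalarTower A (MvPolynomial (Fin n) A) N]
    [Module (MvPolynomial (Fin n) R₀) N]
    [IsScalarTower (MvPolynomial (Fin n) R₀) (MvPolynomial (Fin n) A) N]
    [Module.Flat A N] (e : A ⊗[R₀] M₀ ≃ₗ[A] N)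
    (he : ∀ (t : A ⊗[R₀] MvPolynomial (Fin n) R₀) x, e (t • x) = algebraTensorAlgEquiv R₀ A t • e x) :
    ∃ (l : ℕ) (p : (Fin l → MvPolynomial (Fin n) A) →ₗ[MvPolynomial (Fin n) A] N),
      Surjective p ∧ Module.FinitePresentation (MvPolynomial (Fin n) A) (LinearMap.ker p) := by
  have : Module.Flat A (A ⊗[R₀] M₀) := Module.Flat.of_linearEquiv e
  obtain ⟨B, hB, hBflat⟩ := exists_stage_flat (R := R₀) (A := A) (P := MvPolynomial (Fin n) R₀)
    (M := M₀)
  have := FlatDescent.isNoetherianRing_of_fg hB
  have : Module.Flat B (MvPolynomial (Fin n) B ⊗[MvPolynomial (Fin n) R₀] M₀) :=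
    Module.Flat.of_linearEquiv
      (Algebra.IsPushout.cancelBaseChange R₀ B (MvPolynomial (Fin n) R₀) (MvPolynomial (Fin n) B) M₀)
  have htower : IsScalarTower (MvPolynomial (Fin n) R₀) (MvPolynomial (Fin n) B)
      (MvPolynomial (Fin n) A) := IsScalarTower.of_algebraMap_eq fun p => by
    show MvPolynomial.map (algebraMap R₀ A) p =
      MvPolynomial.map (algebraMap B A) (MvPolynomial.map (algebraMap R₀ B) p)
    rw [MvPolynomial.map_map, ← IsScalarTower.algebraMap_eq]
  obtain ⟨l, p, hp, hker⟩ := exists_ker_baseChange (B := B) (A := A) (SB := MvPolynomial (Fin n) B)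
    (SA := MvPolynomial (Fin n) A) (M := MvPolynomial (Fin n) B ⊗[MvPolynomial (Fin n) R₀] M₀)
  let g : M₀ →ₗ[MvPolynomial (Fin n) R₀] N :=
    { toFun := fun m => e ((1 : A) ⊗ₜ[R₀] m)
      map_add' := fun a b => by rw [TensorProduct.tmul_add, map_add]
      map_smul' := fun p m => by
        have h1 : ((1 : A) ⊗ₜ[R₀] p) • ((1 : A) ⊗ₜ[R₀] m) = (1 : A) ⊗ₜ[R₀] (p • m) := by
          rw [bc_smul_tmul, one_mul]
        show e ((1 : A) ⊗ₜ[R₀] (p • m)) = p • e ((1 : A) ⊗ₜ[R₀] m)
        rw [← h1, he, algebraTensorAlgEquiv_tmul, one_smul]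
        exact algebraMap_smul (MvPolynomial (Fin n) A) p _ }
  let L := g.liftBaseChange (MvPolynomial (Fin n) A)
  let c := Algebra.IsPushout.cancelBaseChange R₀ A (MvPolynomial (Fin n) R₀)
    (MvPolynomial (Fin n) A) M₀
  have hL : ∀ z, L (c.symm z) = e z := fun z => by
    induction z using TensorProduct.induction_on with
    | zero => simp
    | add u v hu hv => simp only [map_add, hu, hv]
    | tmul a m =>
      rw [Algebra.IsPushout.cancelBaseChange_symm_tmul, LinearMap.liftBaseChange_tmul,
        algebraMap_smul]
      show a • e ((1 : A) ⊗ₜ[R₀] m) = _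
      rw [← map_smul, TensorProduct.smul_tmul', smul_eq_mul, mul_one]
  have hLbij : Bijective L := by
    have : (L : _ → _) = e ∘ c := funext fun x => by rw [Function.comp_apply, ← hL, c.symm_apply_apply]
    rw [this]
    exact e.bijective.comp c.bijective
  let L' := (AlgebraTensorModule.cancelBaseChange (MvPolynomial (Fin n) R₀) (MvPolynomial (Fin n) B)
    (MvPolynomial (Fin n) A) (MvPolynomial (Fin n) A) M₀).trans (LinearEquiv.ofBijective L hLbij)
  have hker' : Module.FinitePresentation (MvPolynomial (Fin n) A)
      (LinearMap.ker (L'.toLinearMap ∘ₗ p)) := by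
    rwa [LinearEquiv.ker_comp]
  exact ⟨l, L'.toLinearMap ∘ₗ p, L'.surjective.comp hp, hker'⟩

theorem finitePresentation_ker_mvPolynomial {A : Type u} [CommRing A] {n k : ℕ}
    (K : Submodule (MvPolynomial (Fin n) A) (Fin k → MvPolynomial (Fin n) A)) (hK : K.FG)
    [Module.Flat A ((Fin k → MvPolynomial (Fin n) A) ⧸ K)] :
    Module.FinitePresentation (MvPolynomial (Fin n) A) K := by
  obtain ⟨R₀, hR₀, K₀, e, he⟩ := exists_model K hK
  have : Module.Finite (MvPolynomial (Fin n) R₀) ((Fin k → MvPolynomial (Fin n) R₀) ⧸ K₀) :=
    finite_quot K₀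
  obtain ⟨l, p, hp, hker⟩ := exists_ker_of_model e he
  have := finitePresentation_ker_congr K.mkQ K.mkQ_surjective p hp hker
  rwa [K.ker_mkQ] at this

/-- Finite presentation over a quotient ring. -/
theorem finitePresentation_of_surjective_algebraMap {Q S N : Type u} [CommRing Q] [CommRing S]
    [Algebra Q S] [AddCommGroup N] [Module S N] [Module Q N] [IsScalarTower Q S N]
    (hS : Surjective (algebraMap Q S)) [Module.FinitePresentation Q N] :
    Module.FinitePresentation S N := by
  have : Module.Finite S N := Module.Finite.of_restrictScalars_finite Q S N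
  obtain ⟨l, p, hp⟩ := Module.Finite.exists_fin' S N
  refine Module.finitePresentation_of_surjective p hp ?_
  have : Module.Finite Q S := Module.Finite.of_surjective (Algebra.linearMap Q S) hS
  have hfg : (LinearMap.ker (p.restrictScalars Q)).FG :=
    Module.FinitePresentation.fg_ker _ hp
  have := Module.Finite.iff_fg.2 hfg
  have : Module.Finite Q (LinearMap.ker p) := this
  exact Module.Finite.iff_fg.1 (Module.Finite.of_restrictScalars_finite Q S (LinearMap.ker p))

theorem finitePresentation_ker_aux {A Q S N C : Type u} [CommRing A] [CommRing Q] [Algebra A Q]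
    [CommRing S] [Algebra Q S] [AddCommGroup N] [Module S N] [Module Q N] [IsScalarTower Q S N]
    [Module.FinitePresentation Q N] [AddCommGroup C] [Module S C] [Module Q C] [Module A C]
    [IsScalarTower A Q C] [IsScalarTower Q S C] [Module.FinitePresentation Q C] [Module.Flat A C]
    (hπ : Surjective (algebraMap Q S))
    (H : ∀ (k : ℕ) (K : Submodule Q (Fin k → Q)), K.FG → Module.Flat A ((Fin k → Q) ⧸ K) →
      Module.FinitePresentation Q K)
    (v : N →ₗ[S] C) (hv : Surjective v) : Module.FinitePresentation S (LinearMap.ker v) := by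
  obtain ⟨k, r, hr⟩ := Module.Finite.exists_fin' Q N
  let w : (Fin k → Q) →ₗ[Q] C := v.restrictScalars Q ∘ₗ r
  have hw : Surjective w := hv.comp hr
  have : Module.Flat A ((Fin k → Q) ⧸ LinearMap.ker w) :=
    Module.Flat.of_linearEquiv ((LinearMap.quotKerEquivOfSurjective w hw).restrictScalars A)
  have : Module.FinitePresentation Q (LinearMap.ker w) :=
    H _ _ (Module.FinitePresentation.fg_ker w hw) this
  let t : LinearMap.ker w →ₗ[Q] LinearMap.ker (v.restrictScalars Q) :=
    r.restrict fun x hx => hx
  have ht : Surjective t := fun y => by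
    obtain ⟨x, hx⟩ := hr y.1
    exact ⟨⟨x, by show v (r x) = 0; rw [hx]; exact y.2⟩, Subtype.ext hx⟩
  have : Module.FinitePresentation Q (LinearMap.ker (v.restrictScalars Q)) := by
    refine Module.finitePresentation_of_surjective t ht ?_
    apply Submodule.fg_of_fg_map_injective _ (LinearMap.ker w).injective_subtype
    suffices h : Submodule.map (LinearMap.ker w).subtype (LinearMap.ker t) = LinearMap.ker r by
      rw [h]
      exact Module.FinitePresentation.fg_ker r hr
    ext x
    constructor
    · rintro ⟨y, hy, rfl⟩
      exact congrArg Subtype.val hy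
    · intro hx
      exact ⟨⟨x, by show v (r x) = 0; rw [LinearMap.mem_ker.1 hx, map_zero]⟩, Subtype.ext hx, rfl⟩
  have : Module.FinitePresentation Q (LinearMap.ker v) := this
  exact finitePresentation_of_surjective_algebraMap (Q := Q) hπ

/-- The kernel of a map onto a flat module of finite presentation is of finite presentation. -/
theorem finitePresentation_ker {A S N C : Type u} [CommRing A] [CommRing S] [Algebra A S]
    [Algebra.FinitePresentation A S] [AddCommGroup N] [Module S N] [Module.FinitePresentation S N]
    [AddCommGroup C] [Module S C] [Module A C] [IsScalarTower A S C]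
    [Module.FinitePresentation S C] [Module.Flat A C] (v : N →ₗ[S] C) (hv : Surjective v) :
    Module.FinitePresentation S (LinearMap.ker v) := by
  obtain ⟨n, π, hπ, hπker⟩ := ‹Algebra.FinitePresentation A S›.out
  let _ : Algebra (MvPolynomial (Fin n) A) S := π.toRingHom.toAlgebra
  let _ := Module.compHom C π.toRingHom
  let _ := Module.compHom N π.toRingHom
  have : IsScalarTower (MvPolynomial (Fin n) A) S C := .of_algebraMap_smul fun _ _ => rfl
  have : IsScalarTower (MvPolynomial (Fin n) A) S N := .of_algebraMap_smul fun _ _ => rfl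
  have : IsScalarTower A (MvPolynomial (Fin n) A) C := .of_algebraMap_smul fun a x => by
    change π (algebraMap A (MvPolynomial (Fin n) A) a) • x = a • x
    rw [π.commutes, algebraMap_smul]
  have hQS : Module.FinitePresentation (MvPolynomial (Fin n) A) S :=
    Module.finitePresentation_of_surjective (Algebra.linearMap (MvPolynomial (Fin n) A) S) hπ
      (by exact hπker)
  have := Module.FinitePresentation.trans (MvPolynomial (Fin n) A) N S
  have := Module.FinitePresentation.trans (MvPolynomial (Fin n) A) C S
  exact finitePresentation_ker_aux (A := A) (Q := MvPolynomial (Fin n) A) hπ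
    (fun k K hK _ => finitePresentation_ker_mvPolynomial K hK) v hv

/-- The kernel of a map with flat cokernel of finite presentation is of finite type. -/
theorem fg_ker_of_flat_quotient {A S N N' : Type u} [CommRing A] [CommRing S] [Algebra A S]
    [Algebra.FinitePresentation A S] [AddCommGroup N] [Module S N] [Module A N]
    [IsScalarTower A S N] [Module.FinitePresentation S N] [AddCommGroup N'] [Module S N']
    [Module.Finite S N'] (u : N' →ₗ[S] N) [Module.Flat A (N ⧸ LinearMap.range u)] :
    (LinearMap.ker u).FG := by
  have hfg : (LinearMap.range u).FG := Module.Finite.iff_fg.1 inferInstance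
  have : Module.FinitePresentation S (N ⧸ LinearMap.range u) :=
    Module.finitePresentation_of_surjective _ (LinearMap.range u).mkQ_surjective
      (by rwa [Submodule.ker_mkQ])
  have := finitePresentation_ker (A := A) (LinearMap.range u).mkQ
    (LinearMap.range u).mkQ_surjective
  rw [Submodule.ker_mkQ] at this
  have := Module.FinitePresentation.fg_ker u.rangeRestrict u.surjective_rangeRestrict
  rwa [LinearMap.ker_rangeRestrict] at this

end Groth.Agent.EGA43.FlatSyzygy
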