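import Groth.Agent.EGA43.QcohFlat
import Groth.Agent.EGA43.FlatSyzygy
import Groth.Agent.Coherent.QcohOps

/-!
# Modules of finite presentation on schemes from sections; kernels onto flat modules (EGA IV 11.3.9)
-/

set_option autoImplicit false
set_option backward.isDefEq.respectTransparency false

universe u

open CategoryTheory CategoryTheory.Limits AlgebraicGeometry Opposite TopologicalSpace
open Groth.Agent.Coherent

namespace Groth.Agent.EGA43.FPKernel

variable {X Y : Scheme.{u}}

theorem finitePresentation_restrict_top (M : X.Modules) (U : X.Opens)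
    [h : Module.FinitePresentation Γ(X, U) Γ(M, U)] :
    Module.FinitePresentation Γ(U.toScheme, ⊤) Γ(M.restrict U.ι, ⊤) := by
  have h' : Module.FinitePresentation Γ(X, U.ι ''ᵁ ⊤) Γ(M, U.ι ''ᵁ ⊤) := by
    rw [Scheme.Opens.ι_image_top]
    exact h
  let ψ : Γ(X, U.ι ''ᵁ ⊤) →+* Γ(U.toScheme, ⊤) := (U.ι.appIso ⊤).hom.hom
  have hψ : Function.Surjective ψ :=
    (ConcreteCategory.bijective_of_isIso (U.ι.appIso ⊤).hom).2
  let _ := ψ.toAlgebra
  let _ := Module.compHom Γ(M.restrict U.ι, ⊤) ψ
  have : IsScalarTower Γ(X, U.ι ''ᵁ ⊤) Γ(U.toScheme, ⊤) Γ(M.restrict U.ι, ⊤) :=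
    IsScalarTower.of_algebraMap_smul fun _ _ => rfl
  let l : Γ(M.restrict U.ι, ⊤) ≃ₗ[Γ(X, U.ι ''ᵁ ⊤)] Γ(M, U.ι ''ᵁ ⊤) :=
    { (M.restrictAppIso U.ι ⊤).addCommGroupIsoToAddEquiv with
      map_smul' := fun r m => by
        change (M.restrictAppIso U.ι _).hom (ψ r • m) = r • (M.restrictAppIso U.ι _).hom m
        rw [Scheme.Modules.smul_restrictAppIso_hom_apply]
        congr 1
        exact (U.ι.appIso ⊤).hom_inv_id_apply r }
  have := Module.FinitePresentation.of_equiv l.symm
  exact FlatSyzygy.finitePresentation_of_surjective_algebraMap (Q := Γ(X, U.ι ''ᵁ ⊤)) hψ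

/-- A quasi-coherent module with finitely presented sections on an affine cover is of finite
presentation. -/
theorem isFP_of_forall_exists_affine (M : X.Modules) [Coh.IsQCoh M]
    (h : ∀ x : X, ∃ U : X.Opens, IsAffineOpen U ∧ x ∈ U ∧ Module.FinitePresentation Γ(X, U) Γ(M, U)) :
    CohB1.IsFP M := by
  choose U hU hx hfp using h
  have key : ∀ x, ∃ p : SheafOfModules.Presentation.{u} (R := (U x).toScheme.ringCatSheaf)
      (M.restrict (U x).ι), p.IsFinite := fun x => by
    have : IsAffine (U x).toScheme := hU x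
    have := hfp x
    exact exists_finite_presentation (M.restrict (U x).ι) (finitePresentation_restrict_top M (U x))
  choose p hp using key
  refine isFP_of_finite_presentations M U ?_ p hp
  rw [IsOpenCover, eq_top_iff]
  exact fun x _ => Opens.mem_iSup.2 ⟨x, hx x⟩

/-- The kernel of an epimorphism onto a flat module of finite presentation is of finite
presentation. -/
theorem isFP_kernel (f : X ⟶ Y) [LocallyOfFinitePresentation f] {G H : X.Modules} [Coh.IsQCoh G]
    [Coh.IsQCoh H] (hG : CohB1.IsFP G) (hH : CohB1.IsFP H) (hflat : FlatMod.IsFlatOver f H)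
    (p : G ⟶ H) [Epi p] : CohB1.IsFP (kernel p) := by
  have hK : Coh.IsQCoh (kernel p) := isQCoh_kernel p
  refine isFP_of_forall_exists_affine _ fun x => ?_
  obtain ⟨V, hV, hfx, -⟩ := exists_isAffineOpen_mem_and_subset (x := f x) (U := ⊤) trivial
  obtain ⟨U, hU, hxU, e⟩ := exists_isAffineOpen_mem_and_subset (x := x) (U := f ⁻¹ᵁ V) hfx
  refine ⟨U, hU, hxU, ?_⟩
  let _ := (f.appLE V U e).hom.toAlgebra
  let _ := QcohFlat.overModule f H V U e
  have : IsScalarTower Γ(Y, V) Γ(X, U) Γ(H, U) := IsScalarTower.of_algebraMap_smul fun _ _ => rfl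
  have : Algebra.FinitePresentation Γ(Y, V) Γ(X, U) := f.finitePresentation_appLE hV hU e
  have := QcohFP.finitePresentation_sections G hG hU
  have := QcohFP.finitePresentation_sections H hH hU
  have : Module.Flat Γ(Y, V) Γ(H, U) := by
    refine Module.flat_of_isLocalized_maximal (S := Γ(X, U)) _
      (fun P _ => LocalizedModule P.primeCompl Γ(H, U))
      (fun P _ => LocalizedModule.mkLinearMap P.primeCompl _) fun P hP => ?_
    have hy : hU.fromSpec ⟨P, hP.isPrime⟩ ∈ U := hU.range_fromSpec.le ⟨_, rfl⟩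
    have := (QcohFlat.isFlatOverAt_iff f H hV hU e hy).1 (hflat _)
    rwa [show hU.primeIdealOf ⟨_, hy⟩ = ⟨P, hP.isPrime⟩ from
      hU.fromSpec.isOpenEmbedding.injective (hU.fromSpec_primeIdealOf _)] at this
  let S : ShortComplex X.Modules := ShortComplex.mk (kernel.ι p) p (kernel.condition p)
  have hS : S.ShortExact := { exact := S.exact_of_f_is_kernel (kernelIsKernel p) }
  have : Coh.IsQCoh S.X₁ := hK
  have hsurj : Function.Surjective (appLin p U) := sections_surjective hS hU
  have := FlatSyzygy.finitePresentation_ker (A := Γ(Y, V)) (appLin p U) hsurj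
  have hrange : LinearMap.range (appLin (kernel.ι p) U) = LinearMap.ker (appLin p U) := by
    ext x
    exact ⟨fun ⟨y, hy⟩ => hy ▸ kernel_ι_app_zero p U y, fun hx => kernel_sections_exact p x hx⟩
  exact Module.FinitePresentation.of_equiv ((LinearEquiv.ofInjective (appLin (kernel.ι p) U)
    (app_injective_of_mono _ _)).trans (LinearEquiv.ofEq _ _ hrange)).symm

end Groth.Agent.EGA43.FPKernel
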