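import Groth.Agent.EGA43.QcohFlat
import Groth.Agent.EGA43.FlatSyzygy
import Groth.Agent.Coherent.QcohOps

/-!
# Openness of the locus where a map is injective with flat cokernel (EGA IV 11.3.7)
-/

set_option autoImplicit false
set_option backward.isDefEq.respectTransparency false

universe u

open CategoryTheory CategoryTheory.Limits AlgebraicGeometry Opposite TopologicalSpace
open Groth.Agent.Coherent

namespace Groth.Agent.EGA43.InjCokerFlat

variable {X Y : Scheme.{u}} {F F' : X.Modules}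

/-- The map on stalks. -/
noncomputable abbrev stalkMapOf (u : F' ⟶ F) (x : X) :
    F'.presheaf.stalk x ⟶ F.presheaf.stalk x :=
  (TopCat.Presheaf.stalkFunctor Ab x).map (Scheme.Modules.Hom.mapPresheaf u)

theorem stalkMapOf_germ (u : F' ⟶ F) {U : X.Opens} {x : X} (hx : x ∈ U) (m : Γ(F', U)) :
    stalkMapOf u x (F'.presheaf.germ U x hx m) = F.presheaf.germ U x hx (u.app U m) :=
  TopCat.Presheaf.stalkFunctor_map_germ_apply U x hx _ m

theorem stalkMapOf_smul (u : F' ⟶ F) (x : X) (r : X.presheaf.stalk x)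
    (z : F'.presheaf.stalk x) : stalkMapOf u x (r • z) = r • stalkMapOf u x z := by
  obtain ⟨U, hxU, a, rfl⟩ := X.presheaf.exists_germ_eq r
  obtain ⟨V, hxV, m, rfl⟩ := F'.presheaf.exists_germ_eq z
  have hx : x ∈ U ⊓ V := ⟨hxU, hxV⟩
  rw [← TopCat.Presheaf.germ_res_apply X.presheaf (homOfLE (inf_le_left : U ⊓ V ≤ U)) x hx a,
    ← TopCat.Presheaf.germ_res_apply F'.presheaf (homOfLE (inf_le_right : U ⊓ V ≤ V)) x hx m,
    ← QCohLoc.germ_smul', stalkMapOf_germ, stalkMapOf_germ, Scheme.Modules.Hom.app_smul,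
    QCohLoc.germ_smul']

/-- On an affine open the kernel on sections detects injectivity of the stalk maps. -/
theorem injective_stalkMapOf_of_smul_eq_zero [Coh.IsQCoh F'] [Coh.IsQCoh F] (u : F' ⟶ F)
    {U : X.Opens} (hU : IsAffineOpen U) {x : X} (hx : x ∈ U)
    (H : ∀ m : Γ(F', U), u.app U m = 0 → ∃ g : Γ(X, U), x ∈ X.basicOpen g ∧ g • m = 0) :
    Function.Injective (stalkMapOf u x) := by
  refine (injective_iff_map_eq_zero (stalkMapOf u x).hom).2 fun z hz => ?_
  have hunit : ∀ g : Γ(X, U), x ∈ X.basicOpen g → IsUnit (X.presheaf.germ U x hx g) := fun g hg =>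
    (X.mem_basicOpen g x hx).1 hg
  obtain ⟨f, m, hf, e⟩ := QCohLoc.exists_smul_stalk_eq_germ F' hU hx z
  have h0 : F.presheaf.germ U x hx (u.app U m) = 0 := by
    rw [← stalkMapOf_germ, ← e, stalkMapOf_smul]
    exact (congrArg _ hz).trans (smul_zero _)
  obtain ⟨f', hf', e'⟩ := QCohLoc.exists_smul_eq_zero_of_germ F hU hx _ h0
  obtain ⟨g, hg, e''⟩ := H (f' • m) (by rw [Scheme.Modules.Hom.app_smul, e'])
  have := congrArg (F'.presheaf.germ U x hx) e''
  rw [QCohLoc.germ_smul', QCohLoc.germ_smul', map_zero, ← e] at this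
  rwa [(hunit g hg).smul_eq_zero, (hunit f' hf').smul_eq_zero, (hunit f hf).smul_eq_zero] at this

theorem exists_smul_eq_zero_of_injective [Coh.IsQCoh F'] (u : F' ⟶ F) {U : X.Opens}
    (hU : IsAffineOpen U) {x : X} (hx : x ∈ U) (hinj : Function.Injective (stalkMapOf u x))
    (m : Γ(F', U)) (hm : u.app U m = 0) : ∃ g : Γ(X, U), x ∈ X.basicOpen g ∧ g • m = 0 := by
  refine QCohLoc.exists_smul_eq_zero_of_germ F' hU hx m (hinj ?_)
  rw [stalkMapOf_germ, hm, map_zero, map_zero]

/-- **EGA IV 11.3.7**: the locus where a map is injective with flat cokernel is open. -/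
theorem isOpen_setOf (f : X ⟶ Y) [LocallyOfFinitePresentation f] [Coh.IsQCoh F] [Coh.IsQCoh F']
    (hF : CohB1.IsFP F) (hF' : CohB1.IsFP F') (u : F' ⟶ F) :
    IsOpen {x : X | Function.Injective (stalkMapOf u x) ∧
      FlatMod.IsFlatOverAt f (cokernel u) x} := by
  rw [isOpen_iff_forall_mem_open]
  rintro x ⟨hinj, hflat⟩
  obtain ⟨V, hV, hfx, -⟩ := Opens.isBasis_iff_nbhd.mp Y.isBasis_affineOpens
    (Opens.mem_top (f x))
  obtain ⟨U₀, hU₀, hxU₀, e₀⟩ := Opens.isBasis_iff_nbhd.mp X.isBasis_affineOpens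
    (show x ∈ f ⁻¹ᵁ V from hfx)
  have hC : Coh.IsQCoh (cokernel u) := isQCoh_cokernel u
  have hI : Coh.IsQCoh (kernel (cokernel.π u)) := isQCoh_kernel _
  -- sections of the cokernel
  have key : ∀ W : X.Opens, IsAffineOpen W → Function.Surjective (appLin (cokernel.π u) W) ∧
      LinearMap.ker (appLin (cokernel.π u) W) = LinearMap.range (appLin u W) := by
    intro W hW
    let S : ShortComplex X.Modules :=
      ShortComplex.mk (kernel.ι (cokernel.π u)) (cokernel.π u) (kernel.condition _)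
    have hS : S.ShortExact := { exact := S.exact_of_f_is_kernel (kernelIsKernel _) }
    have : Coh.IsQCoh S.X₁ := hI
    refine ⟨sections_surjective hS hW, le_antisymm (fun a ha => ?_) ?_⟩
    · obtain ⟨k, hk⟩ := kernel_sections_exact (cokernel.π u) a ha
      let p := Abelian.factorThruImage u
      let T : ShortComplex X.Modules := ShortComplex.mk (kernel.ι p) p (kernel.condition p)
      have hT : T.ShortExact := { exact := T.exact_of_f_is_kernel (kernelIsKernel p) }
      have : Coh.IsQCoh T.X₁ := isQCoh_kernel p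
      obtain ⟨b, hb⟩ := sections_surjective hT hW k
      refine ⟨b, ?_⟩
      rw [← hk, ← hb]
      exact (ConcreteCategory.congr_hom (congrArg (fun φ : F' ⟶ F => φ.app W)
        (Abelian.image.fac u)) b).symm
    · rintro _ ⟨b, rfl⟩
      exact ConcreteCategory.congr_hom
        (congrArg (fun φ : F' ⟶ cokernel u => φ.app W) (cokernel.condition u)) b
  -- shrink to where the cokernel is flat
  have hfp₀ : Module.FinitePresentation Γ(X, U₀) Γ(cokernel u, U₀) := by
    have := QcohFP.finitePresentation_sections F hF hU₀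
    have := QcohFP.finitePresentation_sections F' hF' hU₀
    refine Module.finitePresentation_of_surjective _ (key U₀ hU₀).1 ?_
    rw [(key U₀ hU₀).2]
    exact Module.Finite.iff_fg.1 (Module.Finite.range _)
  have hO : IsOpen {q : PrimeSpectrum Γ(X, U₀) |
      letI := (f.appLE V U₀ e₀).hom.toAlgebra
      letI := QcohFlat.overModule f (cokernel u) V U₀ e₀
      haveI : IsScalarTower Γ(Y, V) Γ(X, U₀) Γ(cokernel u, U₀) :=
        IsScalarTower.of_algebraMap_smul fun _ _ => rfl
      Module.Flat Γ(Y, V) (LocalizedModule q.asIdeal.primeCompl Γ(cokernel u, U₀))} := by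
    let _ := (f.appLE V U₀ e₀).hom.toAlgebra
    let _ := QcohFlat.overModule f (cokernel u) V U₀ e₀
    have : IsScalarTower Γ(Y, V) Γ(X, U₀) Γ(cokernel u, U₀) :=
      IsScalarTower.of_algebraMap_smul fun _ _ => rfl
    have : Algebra.FinitePresentation Γ(Y, V) Γ(X, U₀) :=
      HasRingHomProperty.appLE @LocallyOfFinitePresentation f inferInstance ⟨V, hV⟩ ⟨U₀, hU₀⟩ e₀
    exact FlatDescent.isOpen_setOf_flat
  obtain ⟨U, hU, hxU, e, hUflat⟩ : ∃ (U : X.Opens) (_ : IsAffineOpen U) (_ : x ∈ U)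
      (_ : U ≤ f ⁻¹ᵁ V), ∀ y ∈ U, FlatMod.IsFlatOverAt f (cokernel u) y := by
    let O : X.Opens := ⟨_, hU₀.fromSpec.isOpenEmbedding.isOpenMap _ hO⟩
    have hxO : x ∈ O := ⟨hU₀.primeIdealOf ⟨x, hxU₀⟩,
      (QcohFlat.isFlatOverAt_iff f _ hV hU₀ e₀ hxU₀).1 hflat, hU₀.fromSpec_primeIdealOf _⟩
    obtain ⟨U, hU, hxU, hUO⟩ := Opens.isBasis_iff_nbhd.mp X.isBasis_affineOpens hxO
    have hOU₀ : O ≤ U₀ := by
      rintro _ ⟨q, -, rfl⟩
      have : hU₀.fromSpec q ∈ Set.range hU₀.fromSpec := ⟨q, rfl⟩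
      rwa [hU₀.range_fromSpec] at this
    refine ⟨U, hU, hxU, (hUO.trans hOU₀).trans e₀, fun y hy => ?_⟩
    have hy₀ := hOU₀ (hUO hy)
    refine (QcohFlat.isFlatOverAt_iff f _ hV hU₀ e₀ hy₀).2 ?_
    obtain ⟨q, hq, hqy⟩ := hUO hy
    rwa [show hU₀.primeIdealOf ⟨y, hy₀⟩ = q from
      hU₀.fromSpec.isOpenEmbedding.injective ((hU₀.fromSpec_primeIdealOf _).trans hqy.symm)]
  let _ := (f.appLE V U e).hom.toAlgebra
  let _ := QcohFlat.overModule f (cokernel u) V U e
  let _ := QcohFlat.overModule f F V U e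
  have : IsScalarTower Γ(Y, V) Γ(X, U) Γ(cokernel u, U) :=
    IsScalarTower.of_algebraMap_smul fun _ _ => rfl
  have : IsScalarTower Γ(Y, V) Γ(X, U) Γ(F, U) :=
    IsScalarTower.of_algebraMap_smul fun _ _ => rfl
  have : Algebra.FinitePresentation Γ(Y, V) Γ(X, U) :=
    HasRingHomProperty.appLE @LocallyOfFinitePresentation f inferInstance ⟨V, hV⟩ ⟨U, hU⟩ e
  have := QcohFP.finitePresentation_sections F hF hU
  have := QcohFP.finitePresentation_sections F' hF' hU
  have : Module.Flat Γ(Y, V) Γ(cokernel u, U) := by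
    refine Module.flat_of_isLocalized_maximal (S := Γ(X, U)) _
      (fun P _ => LocalizedModule P.primeCompl Γ(cokernel u, U))
      (fun P _ => LocalizedModule.mkLinearMap P.primeCompl _) fun P hP => ?_
    have hy : hU.fromSpec ⟨P, hP.isPrime⟩ ∈ U := by
      have : hU.fromSpec ⟨P, hP.isPrime⟩ ∈ Set.range hU.fromSpec := ⟨_, rfl⟩
      rwa [hU.range_fromSpec] at this
    have h := (QcohFlat.isFlatOverAt_iff f _ hV hU e hy).1 (hUflat _ hy)
    rwa [show hU.primeIdealOf ⟨_, hy⟩ = ⟨P, hP.isPrime⟩ from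
      hU.fromSpec.isOpenEmbedding.injective (hU.fromSpec_primeIdealOf _)] at h
  have : Module.Flat Γ(Y, V) (Γ(F, U) ⧸ LinearMap.range (appLin u U)) :=
    Module.Flat.of_linearEquiv
      (((Submodule.quotEquivOfEq _ _ (key U hU).2.symm).trans
        (LinearMap.quotKerEquivOfSurjective (appLin (cokernel.π u) U) (key U hU).1)).restrictScalars
          Γ(Y, V))
  obtain ⟨s, hs⟩ := FlatSyzygy.fg_ker_of_flat_quotient (A := Γ(Y, V)) (appLin u U)
  have hs0 : ∀ m ∈ s, u.app U m = 0 := fun m hm => by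
    have : m ∈ LinearMap.ker (appLin u U) := hs ▸ Submodule.subset_span hm
    exact this
  choose g hxg hgm using fun m : s =>
    exists_smul_eq_zero_of_injective u hU hxU hinj m.1 (hs0 _ m.2)
  let h : Γ(X, U) := ∏ m : s, g m
  have hxh : x ∈ X.basicOpen h := by
    rw [X.mem_basicOpen _ _ hxU, map_prod, IsUnit.prod_iff]
    exact fun m _ => (X.mem_basicOpen _ _ hxU).1 (hxg m)
  refine ⟨(X.basicOpen h : X.Opens), fun y hy => ?_, (X.basicOpen h).isOpen, hxh⟩
  have hyU : y ∈ U := X.basicOpen_le h hy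
  refine ⟨injective_stalkMapOf_of_smul_eq_zero u hU hyU fun m hm => ⟨h, hy, ?_⟩, hUflat y hyU⟩
  have hm' : m ∈ Submodule.span Γ(X, U) (s : Set Γ(F', U)) := hs.symm ▸ hm
  clear hm
  classical
  induction hm' using Submodule.span_induction with
  | mem z hz =>
    show h • z = 0
    rw [show h = (∏ m' ∈ Finset.univ.erase (⟨z, hz⟩ : s), g m') * g ⟨z, hz⟩ from
      (Finset.prod_erase_mul _ _ (Finset.mem_univ _)).symm, mul_smul, hgm, smul_zero]
  | zero => exact smul_zero _
  | add a b _ _ ha hb => rw [smul_add, ha, hb, add_zero]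
  | smul c a _ ha => rw [smul_comm, ha, smul_zero]

end Groth.Agent.EGA43.InjCokerFlat
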