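import Groth.Agent.EGA43.GenFree
import Groth.Agent.FlatCrit.Tor
import Groth.Agent.H8Top.Noetherian
import Mathlib.RingTheory.Localization.BaseChange
import Mathlib.RingTheory.Flat.Stability
import Mathlib.RingTheory.FiniteStability
import Mathlib.RingTheory.Spectrum.Prime.Topology
import Mathlib.RingTheory.Ideal.Quotient.Noetherian

/-!
# Openness of the flat locus over Noetherian rings
-/

universe u

set_option autoImplicit false
set_option backward.isDefEq.respectTransparency false

open TensorProduct Function

namespace Groth.Agent.EGA43.FlatOpen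

variable {R S : Type u} [CommRing R] [CommRing S] [Algebra R S]
  {M : Type u} [AddCommGroup M] [Module R M] [Module S M] [IsScalarTower R S M]

/-- Injectivity of `i ⊗ M` after localisation, tested on kernel elements. -/
theorem rTensor_injective_localized {A B : Type u} [AddCommGroup A] [Module R A] [AddCommGroup B]
    [Module R B] (i : A →ₗ[R] B) (T : Submonoid S)
    (h : ∀ x : M ⊗[R] A, AlgebraTensorModule.lTensor S M i x = 0 → ∃ t ∈ T, t • x = 0) :
    Injective (i.rTensor (LocalizedModule T M)) := by
  let ι := LocalizedModule.mkLinearMap T M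
  let ιA : M ⊗[R] A →ₗ[S] LocalizedModule T M ⊗[R] A := AlgebraTensorModule.rTensor R A ι
  let ιB : M ⊗[R] B →ₗ[S] LocalizedModule T M ⊗[R] B := AlgebraTensorModule.rTensor R B ι
  have hA : IsLocalizedModule T ιA := inferInstanceAs (IsLocalizedModule T (AlgebraTensorModule.rTensor R A ι))
  have hB : IsLocalizedModule T ιB := inferInstanceAs (IsLocalizedModule T (AlgebraTensorModule.rTensor R B ι))
  rw [← LinearMap.lTensor_inj_iff_rTensor_inj, injective_iff_map_eq_zero]
  intro y hy
  obtain ⟨⟨x, t⟩, hx⟩ := IsLocalizedModule.surj T ιA y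
  have hsq : ιB (AlgebraTensorModule.lTensor S M i x) =
      AlgebraTensorModule.lTensor S (LocalizedModule T M) i (ιA x) := by
    show (AlgebraTensorModule.rTensor R B ι ∘ₗ AlgebraTensorModule.lTensor S M i) x =
      (AlgebraTensorModule.lTensor S (LocalizedModule T M) i ∘ₗ AlgebraTensorModule.rTensor R A ι) x
    congr 1
    ext m a
    simp
  have h0 : ιB (AlgebraTensorModule.lTensor S M i x) = ιB 0 := by
    rw [hsq, ← hx, map_zero, Submonoid.smul_def, map_smul]
    rw [show AlgebraTensorModule.lTensor S (LocalizedModule T M) i y =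
      i.lTensor (LocalizedModule T M) y from rfl, hy, smul_zero]
  obtain ⟨t₁, ht₁⟩ := (IsLocalizedModule.eq_iff_exists T ιB).1 h0
  obtain ⟨t₂, ht₂, h₂⟩ := h ((t₁ : S) • x) (by
    rw [map_smul]
    simpa [Submonoid.smul_def] using ht₁)
  have h3 : ((⟨t₂, ht₂⟩ : T) * t₁ * t) • y = 0 := by
    rw [mul_smul, hx, Submonoid.smul_def, ← map_smul]
    rw [Submonoid.coe_mul, mul_smul, h₂, map_zero]
  exact (IsLocalizedModule.smul_injective ιA _) (h3.trans (smul_zero _).symm)

/-- Kernel elements of `i ⊗ M` die in `S` away from `q` when `M_q` is flat. -/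
theorem exists_smul_eq_zero_of_flat {A B : Type u} [AddCommGroup A] [Module R A] [AddCommGroup B]
    [Module R B] (i : A →ₗ[R] B) (hi : Injective i) (T : Submonoid S)
    [Module.Flat R (LocalizedModule T M)] (x : M ⊗[R] A)
    (hx : AlgebraTensorModule.lTensor S M i x = 0) : ∃ t ∈ T, t • x = 0 := by
  let ι := LocalizedModule.mkLinearMap T M
  let ιA : M ⊗[R] A →ₗ[S] LocalizedModule T M ⊗[R] A := AlgebraTensorModule.rTensor R A ι
  have hA : IsLocalizedModule T ιA := inferInstanceAs (IsLocalizedModule T (AlgebraTensorModule.rTensor R A ι))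
  have h0 : ιA x = ιA 0 := by
    rw [map_zero]
    apply (injective_iff_map_eq_zero _).1
      (Module.Flat.lTensor_preserves_injective_linearMap (M := LocalizedModule T M) i hi)
    have hsq : AlgebraTensorModule.rTensor R B ι (AlgebraTensorModule.lTensor S M i x) =
        AlgebraTensorModule.lTensor S (LocalizedModule T M) i (ιA x) := by
      show (AlgebraTensorModule.rTensor R B ι ∘ₗ AlgebraTensorModule.lTensor S M i) x =
        (AlgebraTensorModule.lTensor S (LocalizedModule T M) i ∘ₗ AlgebraTensorModule.rTensor R A ι) x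
      congr 1
      ext m a
      simp
    rw [hx, map_zero] at hsq
    exact hsq.symm
  obtain ⟨t, ht⟩ := (IsLocalizedModule.eq_iff_exists T ιA).1 h0
  exact ⟨t, t.2, by simpa [Submonoid.smul_def] using ht⟩

/-- Kernel elements are killed by powers of `f` when the module is flat after inverting `f`. -/
theorem exists_pow_smul_eq_zero_core {R' : Type u} [CommRing R'] {N : Type u} [AddCommGroup N]
    [Module R' N] (f : R')
    (hfree : Module.Flat (Localization.Away f) (Localization.Away f ⊗[R'] N))
    {A B : Type u} [AddCommGroup A] [Module R' A] [AddCommGroup B] [Module R' B]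
    (i : A →ₗ[R'] B) (hi : Injective i) (y : A ⊗[R'] N) (hy : i.rTensor N y = 0) :
    ∃ n : ℕ, f ^ n • y = 0 := by
  have : Module.Flat R' (Localization.Away f) := IsLocalization.flat _ (Submonoid.powers f)
  have : Module.Flat R' (Localization.Away f ⊗[R'] N) :=
    Module.Flat.trans R' (Localization.Away f) _
  let ι : N →ₗ[R'] Localization.Away f ⊗[R'] N := TensorProduct.mk R' (Localization.Away f) N 1
  have : IsLocalizedModule (Submonoid.powers f) ι :=
    (isLocalizedModule_iff_isBaseChange (Submonoid.powers f) (Localization.Away f) ι).2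
      (TensorProduct.isBaseChange R' N (Localization.Away f))
  let ιA : A ⊗[R'] N →ₗ[R'] A ⊗[R'] (Localization.Away f ⊗[R'] N) := ι.lTensor A
  have hA : IsLocalizedModule (Submonoid.powers f) ιA := by
    have e : ιA = ((TensorProduct.comm R' (Localization.Away f ⊗[R'] N) A).toLinearMap ∘ₗ
        AlgebraTensorModule.rTensor R' A ι) ∘ₗ
        (TensorProduct.comm R' A N).toLinearMap := by
      ext u v; rfl
    rw [e]
    infer_instance
  have h0 : ιA y = ιA 0 := by
    rw [map_zero]
    apply (injective_iff_map_eq_zero _).1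
      (Module.Flat.rTensor_preserves_injective_linearMap (M := Localization.Away f ⊗[R'] N) i hi)
    rw [← LinearMap.comp_apply, LinearMap.rTensor_comp_lTensor, ← LinearMap.lTensor_comp_rTensor,
      LinearMap.comp_apply, hy, map_zero]
  obtain ⟨⟨_, n, rfl⟩, hn⟩ :=
    (IsLocalizedModule.eq_iff_exists (Submonoid.powers f) ιA).1 h0
  exact ⟨n, by simpa [Submonoid.smul_def] using hn⟩

/-- Transport of the previous lemma along base change to `R'`. -/
theorem exists_pow_smul_eq_zero_baseChange {R' : Type u} [CommRing R'] [Algebra R R'] (a : R)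
    (hfree : Module.Flat (Localization.Away (algebraMap R R' a))
      (Localization.Away (algebraMap R R' a) ⊗[R'] (R' ⊗[R] M)))
    {A B : Type u} [AddCommGroup A] [Module R A] [Module R' A] [IsScalarTower R R' A]
    [AddCommGroup B] [Module R B] [Module R' B] [IsScalarTower R R' B]
    (i : A →ₗ[R'] B) (hi : Injective i)
    (x : A ⊗[R] M) (hx : (i.restrictScalars R).rTensor M x = 0) : ∃ n : ℕ, a ^ n • x = 0 := by
  let eA : A ⊗[R'] (R' ⊗[R] M) ≃ₗ[R'] A ⊗[R] M :=
    AlgebraTensorModule.cancelBaseChange R R' R' A M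
  let eB : B ⊗[R'] (R' ⊗[R] M) ≃ₗ[R'] B ⊗[R] M :=
    AlgebraTensorModule.cancelBaseChange R R' R' B M
  obtain ⟨y, rfl⟩ := eA.surjective x
  have hy : i.rTensor (R' ⊗[R] M) y = 0 := by
    apply eB.injective
    rw [map_zero, ← hx]
    clear hx
    induction y using TensorProduct.induction_on with
    | zero => simp
    | add u v hu hv => simp only [map_add, hu, hv]
    | tmul u v =>
      induction v using TensorProduct.induction_on with
      | zero => simp
      | add v w hv hw => simp only [tmul_add, map_add, hv, hw]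
      | tmul r m =>
        simp only [eA, eB, LinearMap.rTensor_tmul]
        exact (congrArg (· ⊗ₜ[R] m) (map_smul i r u)).symm
  obtain ⟨n, hn⟩ := exists_pow_smul_eq_zero_core (algebraMap R R' a) hfree i hi y hy
  refine ⟨n, ?_⟩
  rw [← algebraMap_smul R' (a ^ n), map_pow, ← map_smul, hn, map_zero]

/-- A generically free reduction kills the relevant kernels after inverting one element. -/
theorem exists_pow_smul_eq_zero (p : Ideal R) (a : R)
    (hfree : Module.Flat (Localization.Away (Ideal.Quotient.mk p a))
      (Localization.Away (Ideal.Quotient.mk p a) ⊗[R ⧸ p] ((R ⧸ p) ⊗[R] M)))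
    {A B : Type u} [AddCommGroup A] [Module R A] [AddCommGroup B] [Module R B]
    (i : A →ₗ[R] B) (hB : ∀ r ∈ p, ∀ b : B, r • b = 0) (hi : Injective i)
    (x : A ⊗[R] M) (hx : i.rTensor M x = 0) : ∃ n : ℕ, a ^ n • x = 0 := by
  have hBt : Module.IsTorsionBySet R B p := fun b r => hB r r.2 b
  have hAt : Module.IsTorsionBySet R A p := fun b r =>
    hi (by rw [map_smul, map_zero]; exact hB r r.2 (i b))
  let _ := hBt.module
  let _ := hAt.module
  have : IsScalarTower R (R ⧸ p) A := hAt.isScalarTower
  have : IsScalarTower R (R ⧸ p) B := hBt.isScalarTower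
  let i' : A →ₗ[R ⧸ p] B :=
    { toFun := i
      map_add' := map_add i
      map_smul' := fun r v => by
        obtain ⟨r, rfl⟩ := Ideal.Quotient.mk_surjective r
        exact map_smul i r v }
  exact exists_pow_smul_eq_zero_baseChange (R' := R ⧸ p) a hfree i' hi x hx

variable (R S M)

/-- The flat locus is stable under generalisation. -/
theorem flat_of_le {q q' : Ideal S} [q.IsPrime] [q'.IsPrime] (hle : q' ≤ q)
    [Module.Flat R (LocalizedModule q.primeCompl M)] :
    Module.Flat R (LocalizedModule q'.primeCompl M) := by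
  rw [Module.Flat.iff_rTensor_preserves_injective_linearMap]
  intro A B _ _ _ _ i hi
  refine rTensor_injective_localized i _ fun x hx => ?_
  obtain ⟨t, ht, htx⟩ := exists_smul_eq_zero_of_flat i hi q.primeCompl x hx
  exact ⟨t, fun h => ht (hle h), htx⟩

/-- Generic freeness of a base change to a Noetherian domain. -/
theorem gFree_baseChange (R' : Type u) [CommRing R'] [IsDomain R'] [IsNoetherianRing R']
    [Algebra R R'] [Algebra.FiniteType R S] [Module.Finite S M] :
    GenFree.GFree R' (R' ⊗[R] M) := by
  let ψ : S →ₐ[R] Module.End R (R' ⊗[R] M) :=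
    (Module.End.lTensorAlgHom R M R').comp (Algebra.lsmul R R M)
  let _ : Module S (R' ⊗[R] M) := Module.compHom (R' ⊗[R] M) ψ.toRingHom
  have hψ : ∀ (s : S) (x : R' ⊗[R] M), s • x = ψ s x := fun _ _ => rfl
  have htm : ∀ (s : S) (r : R') (m : M), s • (r ⊗ₜ[R] m) = r ⊗ₜ[R] (s • m) := fun _ _ _ => rfl
  have : IsScalarTower R S (R' ⊗[R] M) := IsScalarTower.of_algebraMap_smul fun r x => by
    rw [hψ, ψ.commutes]; rfl
  have : SMulCommClass R' S (R' ⊗[R] M) := ⟨fun r s x => by
    induction x using TensorProduct.induction_on with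
    | zero => simp
    | add u v hu hv => simp only [smul_add, hu, hv]
    | tmul u v => simp only [htm, TensorProduct.smul_tmul']⟩
  let _ : Module (R' ⊗[R] S) (R' ⊗[R] M) := TensorProduct.Algebra.module
  have hsm : ∀ (r : R') (s : S) (x : R' ⊗[R] M), (r ⊗ₜ[R] s) • x = r • s • x := fun r s x =>
    TensorProduct.Algebra.smul_def r s x
  have : IsScalarTower R' (R' ⊗[R] S) (R' ⊗[R] M) := IsScalarTower.of_algebraMap_smul fun r x => by
    rw [Algebra.TensorProduct.algebraMap_apply, Algebra.algebraMap_self, RingHom.id_apply, hsm,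
      one_smul]
  obtain ⟨t, ht⟩ := (Module.Finite.fg_top : (⊤ : Submodule S M).FG)
  classical
  have : Module.Finite (R' ⊗[R] S) (R' ⊗[R] M) := by
    refine ⟨⟨t.image fun m => (1 : R') ⊗ₜ[R] m, Submodule.eq_top_iff'.2 fun x => ?_⟩⟩
    induction x using TensorProduct.induction_on with
    | zero => exact zero_mem _
    | add u v hu hv => exact add_mem hu hv
    | tmul r m =>
      have hm : m ∈ Submodule.span S (t : Set M) := ht ▸ Submodule.mem_top
      induction hm using Submodule.span_induction generalizing r with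
      | mem y hy =>
        have : r ⊗ₜ[R] y = (r ⊗ₜ[R] (1 : S)) • ((1 : R') ⊗ₜ[R] y) := by
          rw [hsm, one_smul, TensorProduct.smul_tmul', smul_eq_mul, mul_one]
        rw [this]
        exact Submodule.smul_mem _ _ (Submodule.subset_span (Finset.mem_image_of_mem _ hy))
      | zero => rw [tmul_zero]; exact zero_mem _
      | add y z _ _ hy hz => rw [tmul_add]; exact add_mem (hy r) (hz r)
      | smul s y _ hy =>
        have : r ⊗ₜ[R] (s • y) = ((1 : R') ⊗ₜ[R] s) • (r ⊗ₜ[R] y) := by
          rw [hsm, one_smul, htm]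
        rw [this]
        exact Submodule.smul_mem _ _ (hy r)
  have : Algebra.FiniteType R' (R' ⊗[R] S) := Algebra.FiniteType.baseChange (A := S) R'
  exact GenFree.gFree (S := R' ⊗[R] S) (R' ⊗[R] M)

/-- Near a point of the flat locus, on its closure, everything is flat. -/
theorem exists_flat_nhd [IsNoetherianRing R] [Algebra.FiniteType R S] [Module.Finite S M]
    (q : Ideal S) [q.IsPrime] [Module.Flat R (LocalizedModule q.primeCompl M)] :
    ∃ c ∉ q, ∀ (q' : Ideal S) [q'.IsPrime], q ≤ q' → c ∉ q' →
      Module.Flat R (LocalizedModule q'.primeCompl M) := by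
  classical
  have : IsNoetherianRing S := Algebra.FiniteType.isNoetherianRing R S
  let p := q.comap (algebraMap R S)
  let K := LinearMap.ker (AlgebraTensorModule.lTensor S M (p.subtype : p →ₗ[R] R))
  have : Module.Finite S (M ⊗[R] p) :=
    Module.Finite.equiv
      (AlgebraTensorModule.cancelBaseChange R S S M p)
  obtain ⟨s, hs⟩ := (IsNoetherian.noetherian K : K.FG)
  have H : ∀ x : s, ∃ t : S, t ∉ q ∧ t • (x : M ⊗[R] p) = 0 := fun x => by
    have hxK : (x : M ⊗[R] p) ∈ K := hs ▸ Submodule.subset_span x.2
    obtain ⟨t, ht, htx⟩ := exists_smul_eq_zero_of_flat p.subtype Subtype.val_injective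
      q.primeCompl (x : M ⊗[R] p) hxK
    exact ⟨t, ht, htx⟩
  choose t ht htx using H
  have hK : ∀ x ∈ K, (∏ y, t y) • x = 0 := by
    intro x hx
    rw [← hs] at hx
    induction hx using Submodule.span_induction with
    | mem x hx =>
      rw [← Finset.prod_erase_mul _ _ (Finset.mem_univ (⟨x, hx⟩ : s)), mul_smul, htx, smul_zero]
    | zero => rw [smul_zero]
    | add x y _ _ hx hy => rw [smul_add, hx, hy, add_zero]
    | smul r x _ hx => rw [smul_comm, hx, smul_zero]
  obtain ⟨f, hf0, hfree⟩ := gFree_baseChange R S M (R ⧸ p)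
  obtain ⟨a, rfl⟩ := Ideal.Quotient.mk_surjective f
  have ha : algebraMap R S a ∉ q := fun h => hf0 (Ideal.Quotient.eq_zero_iff_mem.2 h)
  refine ⟨algebraMap R S a * ∏ y, t y, ?_, ?_⟩
  · exact fun h => (‹q.IsPrime›.mem_or_mem h).elim ha fun h' => by
      obtain ⟨y, -, hy⟩ := (Ideal.IsPrime.prod_mem_iff).1 h'
      exact ht y hy
  · intro q' _ hle hc
    have : IsNoetherianRing (Localization.AtPrime q') :=
      IsLocalization.isNoetherianRing q'.primeCompl _ inferInstance
    have : Module.Finite (Localization.AtPrime q') (LocalizedModule q'.primeCompl M) :=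
      Module.Finite.of_isLocalizedModule q'.primeCompl (LocalizedModule.mkLinearMap q'.primeCompl M)
    refine FlatCrit.flat_of_rTensor_injective (S := Localization.AtPrime q') p ?_ ?_ ?_
    · rw [IsLocalRing.jacobson_eq_maximalIdeal ⊥ bot_ne_top, IsScalarTower.algebraMap_eq R S
        (Localization.AtPrime q'), ← Ideal.map_map, ← Localization.AtPrime.map_eq_maximalIdeal]
      exact Ideal.map_mono ((Ideal.map_le_iff_le_comap.2 le_rfl).trans hle)
    · exact rTensor_injective_localized p.subtype _ fun x hx =>
        ⟨∏ y, t y, fun h => hc (q'.mul_mem_left _ h), hK x hx⟩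
    · intro A B _ _ _ _ i hB hi
      refine rTensor_injective_localized i _ fun x hx => ?_
      obtain ⟨n, hn⟩ := exists_pow_smul_eq_zero p a inferInstance i hB hi
        (TensorProduct.comm R M A x) (by
          show i.rTensor M (TensorProduct.comm R M A x) = 0
          rw [show i.rTensor M (TensorProduct.comm R M A x) = TensorProduct.comm R M B (i.lTensor M x)
            from congr($(LinearMap.rTensor_comp_comm i) x)]
          rw [show i.lTensor M x = 0 from hx, map_zero])
      refine ⟨algebraMap R S (a ^ n), fun h => hc (q'.mul_mem_right _ ?_), ?_⟩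
      · rw [map_pow] at h
        exact ‹q'.IsPrime›.mem_of_pow_mem n h
      · rw [← map_smul, ← map_zero (TensorProduct.comm R M A)] at hn
        rw [algebraMap_smul]
        exact (TensorProduct.comm R M A).injective hn

/-- **Openness of the flat locus** over a Noetherian ring. -/
theorem isOpen_flatLocus [IsNoetherianRing R] [Algebra.FiniteType R S] [Module.Finite S M] :
    IsOpen {q : PrimeSpectrum S | Module.Flat R (LocalizedModule q.asIdeal.primeCompl M)} := by
  have : IsNoetherianRing S := Algebra.FiniteType.isNoetherianRing R S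
  set U := {q : PrimeSpectrum S | Module.Flat R (LocalizedModule q.asIdeal.primeCompl M)}
  have hgen : StableUnderGeneralization U := fun q q' h (hq : Module.Flat R _) =>
    flat_of_le R S M ((PrimeSpectrum.le_iff_specializes q' q).2 h)
  refine H8Top.isOpen_of_isConstructible_of_stableUnderGeneralization ?_ hgen
  refine (H8Top.isConstructible_iff_forall_irreducible_closed U).2 fun Y hY hYi => ?_
  obtain ⟨q, hq⟩ := QuasiSober.sober hYi hY
  have hsp : ∀ y, y ∈ Y ↔ q ⤳ y := fun y => by
    rw [specializes_iff_mem_closure, hq]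
  by_cases hqU : q ∈ U
  · have : Module.Flat R (LocalizedModule q.asIdeal.primeCompl M) := hqU
    obtain ⟨c, hc, H⟩ := exists_flat_nhd R S M q.asIdeal
    refine Or.inr ⟨PrimeSpectrum.basicOpen c, PrimeSpectrum.isOpen_basicOpen,
      ⟨q, hc, (hsp q).2 specializes_rfl⟩, fun y hy => H y.asIdeal ?_ hy.1⟩
    exact (PrimeSpectrum.le_iff_specializes q y).2 ((hsp y).1 hy.2)
  · refine Or.inl ?_
    have : (Subtype.val ⁻¹' U : Set Y) = ∅ :=
      Set.eq_empty_iff_forall_notMem.2 fun y hy => hqU (hgen ((hsp y.1).1 y.2) hy)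
    rw [this]
    exact isNowhereDense_empty

end Groth.Agent.EGA43.FlatOpen
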