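import Groth.Agent.EGA43.RectDepth
import Groth.Agent.EGA43.FibDepth.Scheme
import Groth.Agent.CAlgH3.CMPolynomial
import Groth.Agent.CAlgH3.RegularHom
import Mathlib.RingTheory.RegularLocalRing.Polynomial

/-!
# Rectified depth over a regular Jacobson base (EGA IV 11.8 / 10.6)

Near every point the rectified depth `depth F_x + dim cl{x}` can only go up, and it is constant
along specialisations.
-/

set_option autoImplicit false
set_option backward.isDefEq.respectTransparency false

universe u

open CategoryTheory AlgebraicGeometry TopologicalSpace IsLocalRing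

namespace Groth.Agent.EGA43.RectDepth

open Groth.Agent DimFormula

theorem isUniversallyCatenary_of_regular {R : Type u} [CommRing R] [IsRegularRing R] :
    CAlg.IsUniversallyCatenary R := by
  haveI : _root_.LocCoh.IsCohenMacaulayRing R := ⟨fun q _ => by
    haveI : IsRegularLocalRing (Localization.AtPrime q) := IsRegularRing.isRegularLocalRing_localization q
    exact CAlgH3.isCohenMacaulayLocalRing_of_regular _⟩
  exact CAlgH3.isUniversallyCatenary_of_cm

theorem isUniversallyCatenary_stalk {S : Scheme.{u}} (hreg : ∀ s : S, IsRegularLocalRing (S.presheaf.stalk s))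
    (s : S) : CAlg.IsUniversallyCatenary (S.presheaf.stalk s) := by
  have := hreg s
  have := CAlgH3.isRegularRing_of_isRegularLocalRing (R := S.presheaf.stalk s)
  exact isUniversallyCatenary_of_regular

/-- On a regular scheme lft over such a base, `dim cl{y} + dim O_y` is locally constant. -/
theorem exists_dim_nhd {Z S : Scheme.{u}} [IsLocallyNoetherian S] [JacobsonSpace S]
    (hregS : ∀ s : S, IsRegularLocalRing (S.presheaf.stalk s))
    (h3 : ∀ S' ∈ irreducibleComponents (S : Type u), ∀ s ∈ S', IsClosed ({s} : Set S) →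
      topologicalKrullDim (↥S' : Type u) = topologicalKrullDim ↥{t : S | t ∈ S' ∧ t ⤳ s})
    (p : Z ⟶ S) [LocallyOfFiniteType p] (hregZ : ∀ z : Z, IsRegularLocalRing (Z.presheaf.stalk z))
    (z : Z) :
    ∃ (U : Set Z) (_ : IsOpen U) (_ : z ∈ U) (d : ℕ), ∀ y ∈ U,
      (topologicalKrullDim ↥(closure ({y} : Set Z)) + ringKrullDim (Z.presheaf.stalk y) = d) ∧
      ∃ c : ℕ, topologicalKrullDim ↥(closure ({y} : Set Z)) = c := by
  have : IsLocallyNoetherian Z := LocallyOfFiniteType.isLocallyNoetherian p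
  have : JacobsonSpace Z := LocallyOfFiniteType.jacobsonSpace p
  have h2 := isUniversallyCatenary_stalk hregS
  have hdom : ∀ w : Z, IsDomain (Z.presheaf.stalk w) := fun w =>
    haveI := hregZ w; CAlgH3.isDomain_of_isRegularLocalRing (Z.presheaf.stalk w)
  have hC := irreducibleComponent_mem_irreducibleComponents z
  have hopen : IsOpen (irreducibleComponent z) := by
    refine Props12.isOpen_component hdom (fun w => ?_) hC
    obtain ⟨V, hV, hwV, -⟩ := exists_isAffineOpen_mem_and_subset (x := w) (U := ⊤) (Set.mem_univ _)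
    haveI : IsAffine V.toScheme := hV
    haveI : IsNoetherian V.toScheme := { }
    refine ⟨V, hwV, ?_⟩
    refine ((TopologicalSpace.NoetherianSpace.finite_irreducibleComponents (α := V.toScheme)).image
      fun C => closure (V.ι '' C)).subset ?_
    rintro C ⟨hCc, hne⟩
    obtain ⟨c, hcC, hcV⟩ := hne
    refine ⟨V.ι ⁻¹' C, preimage_mem_irreducibleComponents hCc V.ι.isOpenEmbedding
      ⟨c, hcC, ⟨⟨c, hcV⟩, rfl⟩⟩, ?_⟩
    show closure (V.ι '' (V.ι ⁻¹' C)) = C
    rw [Set.image_preimage_eq_inter_range]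
    refine subset_antisymm (closure_minimal Set.inter_subset_left
      (isClosed_of_mem_irreducibleComponents C hCc)) ?_
    exact subset_closure_inter_of_isPreirreducible_of_isOpen hCc.1.2 V.ι.isOpenEmbedding.isOpen_range
      ⟨c, hcC, ⟨⟨c, hcV⟩, rfl⟩⟩
  refine ⟨irreducibleComponent z, hopen, mem_irreducibleComponent, ?_⟩
  have key : ∀ y ∈ irreducibleComponent z,
      topologicalKrullDim ↥(closure ({y} : Set Z)) + ringKrullDim (Z.presheaf.stalk y) =
        topologicalKrullDim ↥(irreducibleComponent z) := by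
    intro y hy
    obtain ⟨e1, e2, -⟩ := localDim_formula h2 h3 p y
    rw [← e1, e2]
    haveI := hdom y
    refine le_antisymm (iSup₂_le fun C hC' => ?_) (le_iSup₂_of_le _ ⟨hC, hy⟩ le_rfl)
    rw [Props12.component_unique_of_isDomain hC'.1 hC hC'.2 hy]
  have hc : ∀ y : Z, ∃ c : ℕ, topologicalKrullDim ↥(closure ({y} : Set Z)) = c := fun y => by
    obtain ⟨c, hc, hcc⟩ := nonempty_inter_closedPoints (Z := closure ({y} : Set Z))
      ⟨_, subset_closure rfl⟩ isClosed_closure.isLocallyClosed
    exact ⟨_, dim_closure_lft h2 h3 p (specializes_iff_mem_closure.2 hc) hcc⟩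
  obtain ⟨c₀, hc₀⟩ := hc z
  refine ⟨c₀ + dimAt z, fun y hy => ⟨?_, hc y⟩⟩
  rw [key y hy, ← key z mem_irreducibleComponent, hc₀, dimAt_eq]
  push_cast
  rfl

/-- The rectified depth of a stalk. -/
noncomputable def rect {X : Scheme.{u}} (F : X.Modules) (x : X) : WithBot ℕ∞ :=
  ((LocCoh.depth ↑(X.presheaf.stalk x) ↑(F.presheaf.stalk x) : ℕ∞) : WithBot ℕ∞) +
    topologicalKrullDim ↥(closure ({x} : Set X))

section Ring

variable {P : Type u} [CommRing P] (M : Type u) [AddCommGroup M] [Module P M]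

/-- The rectified depth of a localised module. -/
noncomputable def rectP (q : PrimeSpectrum P) : WithBot ℕ∞ :=
  ((LocCoh.depth (Localization.AtPrime q.asIdeal) (LocalizedModule q.asIdeal.primeCompl M) : ℕ∞) : WithBot ℕ∞) +
    topologicalKrullDim ↥(closure ({q} : Set (PrimeSpectrum P)))

theorem rectP_eq_top [IsNoetherianRing P] {q : PrimeSpectrum P} (h : Subsingleton (LocalizedModule q.asIdeal.primeCompl M)) :
    rectP M q = ((⊤ : ℕ∞) : WithBot ℕ∞) := by
  rw [rectP, CAlgH3.depth_eq_top_of_subsingleton]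
  have h0 : (0 : WithBot ℕ∞) ≤ topologicalKrullDim ↥(closure ({q} : Set (PrimeSpectrum P))) := by
    rw [topologicalKrullDim, Order.krullDim_nonneg_iff]
    exact ⟨⟨irreducibleComponent (⟨q, subset_closure rfl⟩ : ↥(closure ({q} : Set (PrimeSpectrum P)))),
      isIrreducible_irreducibleComponent, isClosed_irreducibleComponent⟩⟩
  revert h0
  generalize topologicalKrullDim ↥(closure ({q} : Set (PrimeSpectrum P))) = a
  intro h0
  induction a with
  | bot => simp at h0
  | coe a => rw [← WithBot.coe_add, top_add]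

theorem exists_nhd_rectP [IsRegularRing P] [Module.Finite P M]
    {S : Scheme.{u}} [IsLocallyNoetherian S] [JacobsonSpace S]
    (hregS : ∀ s : S, IsRegularLocalRing (S.presheaf.stalk s))
    (h3 : ∀ S' ∈ irreducibleComponents (S : Type u), ∀ s ∈ S', IsClosed ({s} : Set S) →
      topologicalKrullDim (↥S' : Type u) = topologicalKrullDim ↥{t : S | t ∈ S' ∧ t ⤳ s})
    (p : Spec (CommRingCat.of P) ⟶ S) [LocallyOfFiniteType p] (q : PrimeSpectrum P) :
    ∃ (U : Set (PrimeSpectrum P)) (_ : IsOpen U), q ∈ U ∧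
      ∀ y ∈ U, rectP M q ≤ rectP M y ∧ (q ⤳ y → rectP M y = rectP M q) := by
  by_cases hq : q ∈ Module.support P M
  swap
  · refine ⟨(Module.support P M)ᶜ, (Module.isClosed_support).isOpen_compl, hq, fun y hy => ?_⟩
    rw [rectP_eq_top M (Module.notMem_support_iff.1 hy), rectP_eq_top M (Module.notMem_support_iff.1 hq)]
    exact ⟨le_rfl, fun _ => rfl⟩
  have hloc : ∀ y : Spec (CommRingCat.of P), ∃ _ :
      Localization.AtPrime y.asIdeal ≃+* (Spec (CommRingCat.of P)).presheaf.stalk y, True := fun y =>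
    ⟨(IsLocalization.algEquiv y.asIdeal.primeCompl (Localization.AtPrime y.asIdeal)
      ((Spec.structureSheaf P).presheaf.stalk y)).toRingEquiv, trivial⟩
  have hregZ : ∀ z : Spec (CommRingCat.of P),
      IsRegularLocalRing ((Spec (CommRingCat.of P)).presheaf.stalk z) := fun z => by
    obtain ⟨e, -⟩ := hloc z
    exact IsRegularLocalRing.of_ringEquiv e
  obtain ⟨U, hU, hqU, d, hd⟩ := exists_dim_nhd hregS h3 p hregZ q
  have main : ∀ y ∈ U, y ∈ Module.support P M → ∃ δ c e : ℕ,
      rectP M y = ((δ + c : ℕ) : WithBot ℕ∞) ∧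
      projectiveDimension (ModuleCat.of (Localization.AtPrime y.asIdeal)
        (LocalizedModule y.asIdeal.primeCompl M)) = e ∧ δ + c + e = d := by
    intro y hy hys
    haveI : Nontrivial (LocalizedModule y.asIdeal.primeCompl M) := Module.mem_support_iff.1 hys
    haveI : IsRegularLocalRing (Localization.AtPrime y.asIdeal) :=
      IsRegularRing.isRegularLocalRing_localization y.asIdeal
    obtain ⟨e, he, δ, hδ, hsum⟩ := exists_pd_eq (R := Localization.AtPrime y.asIdeal)
      (LocalizedModule y.asIdeal.primeCompl M)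
    obtain ⟨hdy, c, hc⟩ := hd y hy
    obtain ⟨eq', -⟩ := hloc y
    rw [← ringKrullDim_eq_of_ringEquiv eq', ← hsum, hc] at hdy
    refine ⟨δ, c, e, ?_, he, ?_⟩
    · rw [rectP, hδ]
      change (δ : WithBot ℕ∞) + topologicalKrullDim ↥(closure ({y} : Set (Spec (CommRingCat.of P)))) = _
      rw [hc]
      push_cast
      rfl
    · have : ((c + (δ + e) : ℕ) : WithBot ℕ∞) = (d : WithBot ℕ∞) := by
        push_cast at hdy ⊢
        exact hdy
      have : c + (δ + e) = d := by exact_mod_cast this
      omega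
  obtain ⟨δ, c, e, h1, h2, h4⟩ := main q hqU hq
  let W := {y : PrimeSpectrum P | CommAlg6.PdLE (Localization.AtPrime y.asIdeal)
    (LocalizedModule y.asIdeal.primeCompl M) e}
  refine ⟨U ∩ W, hU.inter (CommAlg6.isOpen_pdLE_locus e M),
    ⟨hqU, (CommAlg6.projectiveDimension_le_iff_pdLE e).1 h2.le⟩, fun y hy => ?_⟩
  by_cases hys : y ∈ Module.support P M
  swap
  · rw [rectP_eq_top M (Module.notMem_support_iff.1 hys), h1]
    refine ⟨WithBot.coe_le_coe.2 (le_top : ((δ + c : ℕ) : ℕ∞) ≤ ⊤), fun hqy => absurd ?_ hys⟩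
    exact hqy.mem_closed Module.isClosed_support hq
  obtain ⟨δ', c', e', g1, g2, g4⟩ := main y hy.1 hys
  have hle : e' ≤ e := by
    have h := (CommAlg6.projectiveDimension_le_iff_pdLE e).2 hy.2
    rw [g2] at h
    exact_mod_cast h
  rw [h1, g1]
  refine ⟨by exact_mod_cast (show δ + c ≤ δ' + c' by omega), fun hqy => ?_⟩
  have hge : e ≤ e' := by
    have hy' : y ∈ {y : PrimeSpectrum P | CommAlg6.PdLE (Localization.AtPrime y.asIdeal)
      (LocalizedModule y.asIdeal.primeCompl M) e'} := (CommAlg6.projectiveDimension_le_iff_pdLE e').1 g2.le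
    have hq' := (CommAlg6.projectiveDimension_le_iff_pdLE e').2
      (hqy.mem_open (CommAlg6.isOpen_pdLE_locus e' M) hy')
    rw [h2] at hq'
    exact_mod_cast hq'
  exact congrArg Nat.cast (show δ' + c' = δ + c by omega)

end Ring

theorem dim_closure_embedding {A B : Type u} [TopologicalSpace A] [TopologicalSpace B] (j : A → B)
    (hj : Topology.IsOpenEmbedding j) (a : A) :
    topologicalKrullDim ↥(closure ({a} : Set A)) =
      topologicalKrullDim ↥(Set.range j ∩ closure ({j a} : Set B)) := by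
  refine (topologicalKrullDim_eq_of_range (j ∘ Subtype.val)
    (hj.isEmbedding.comp Topology.IsEmbedding.subtypeVal) _ ?_).symm
  rw [Set.range_comp, Subtype.range_coe_subtype, Set.ofPred_mem_eq]
  conv_lhs => rw [← Set.preimage_image_eq {a} hj.injective, Set.image_singleton,
    ← hj.isOpenMap.preimage_closure_eq_closure_preimage hj.continuous, Set.image_preimage_eq_inter_range]
  exact Set.inter_comm _ _

theorem isRegularRing_sections {S : Scheme.{u}} [IsLocallyNoetherian S]
    (hregS : ∀ s : S, IsRegularLocalRing (S.presheaf.stalk s)) {V : S.Opens} (hV : IsAffineOpen V) :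
    IsRegularRing Γ(S, V) := by
  have : IsNoetherianRing Γ(S, V) := IsLocallyNoetherian.component_noetherian ⟨V, hV⟩
  refine isRegularRing_iff.2 fun q hq => ?_
  have hmem : hV.fromSpec ⟨q, hq⟩ ∈ V := by
    have : hV.fromSpec ⟨q, hq⟩ ∈ Set.range hV.fromSpec := ⟨_, rfl⟩
    rwa [hV.range_fromSpec] at this
  let _ := (S.presheaf.germ V (hV.fromSpec ⟨q, hq⟩) hmem).hom.toAlgebra
  have := hV.isLocalization_stalk' ⟨q, hq⟩ hmem
  haveI := hregS (hV.fromSpec ⟨q, hq⟩)
  exact IsRegularLocalRing.of_ringEquiv (IsLocalization.algEquiv q.primeCompl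
    (S.presheaf.stalk (hV.fromSpec ⟨q, hq⟩)) (Localization.AtPrime q)).toRingEquiv

/-- Near `x` the rectified depth can only go up, and is constant on specialisations of `x`. -/
theorem exists_nhd_rect {X S : Scheme.{u}} [IsLocallyNoetherian S] [JacobsonSpace S]
    (hregS : ∀ s : S, IsRegularLocalRing (S.presheaf.stalk s))
    (h3 : ∀ S' ∈ irreducibleComponents (S : Type u), ∀ s ∈ S', IsClosed ({s} : Set S) →
      topologicalKrullDim (↥S' : Type u) = topologicalKrullDim ↥{t : S | t ∈ S' ∧ t ⤳ s})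
    (g : X ⟶ S) [LocallyOfFiniteType g] (F : X.Modules) (hF : Coh.IsCoh F) (x : X) :
    ∃ U : X.Opens, x ∈ U ∧ ∀ y ∈ U, rect F x ≤ rect F y ∧ (x ⤳ y → rect F y = rect F x) := by
  have : IsLocallyNoetherian X := LocallyOfFiniteType.isLocallyNoetherian g
  haveI := hF.1
  obtain ⟨V, hV, hxV, -⟩ := exists_isAffineOpen_mem_and_subset (x := g x) (U := ⊤) (Set.mem_univ _)
  obtain ⟨U, hU, hxU, hUV⟩ := exists_isAffineOpen_mem_and_subset (x := x) (U := g ⁻¹ᵁ V) hxV
  have : IsNoetherianRing Γ(X, U) := IsLocallyNoetherian.component_noetherian ⟨U, hU⟩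
  have : Module.Finite Γ(X, U) Γ(F, U) := ((Coherent.isCoh_iff_finite_sections F).1 hF).2 U hU
  have hft : (g.appLE V U hUV).hom.FiniteType := g.finiteType_appLE hV hU hUV
  let _ := (g.appLE V U hUV).hom.toAlgebra
  obtain ⟨n, π₀, hπ₀⟩ := Algebra.FiniteType.iff_quotient_mvPolynomial''.1 hft
  let P : Type u := MvPolynomial (Fin n) Γ(S, V)
  haveI := isRegularRing_sections hregS hV
  haveI : IsRegularRing P := MvPolynomial.isRegularRing_of_isRegularRing _
  let π : P →+* Γ(X, U) := π₀.toRingHom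
  have hπ : Function.Surjective π := hπ₀
  let _ : Algebra P Γ(X, U) := π.toAlgebra
  let _ : Module P Γ(F, U) := Module.compHom _ π
  haveI : IsScalarTower P Γ(X, U) Γ(F, U) := IsScalarTower.of_algebraMap_smul fun _ _ => rfl
  haveI : Module.Finite P Γ(X, U) := Module.Finite.of_surjective (Algebra.linearMap P Γ(X, U)) hπ
  haveI : Module.Finite P Γ(F, U) := Module.Finite.trans Γ(X, U) _
  let p : Spec (CommRingCat.of P) ⟶ S :=
    Spec.map (CommRingCat.ofHom (algebraMap Γ(S, V) P)) ≫ hV.fromSpec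
  haveI : LocallyOfFiniteType (Spec.map (CommRingCat.ofHom (algebraMap Γ(S, V) P))) := by
    rw [HasRingHomProperty.Spec_iff (P := @LocallyOfFiniteType), CommRingCat.hom_ofHom,
      RingHom.finiteType_algebraMap]
    infer_instance
  haveI : LocallyOfFiniteType p := inferInstance
  let j : U.toScheme ⟶ Spec (CommRingCat.of P) := hU.isoSpec.hom ≫ Spec.map (CommRingCat.ofHom π)
  haveI : IsClosedImmersion (Spec.map (CommRingCat.ofHom π)) := IsClosedImmersion.spec_of_surjective _ hπ
  haveI : IsClosedImmersion j := inferInstance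
  have hj : ∀ y : U, j y = (PrimeSpectrum.comap π (hU.primeIdealOf y) : PrimeSpectrum P) :=
    fun y => rfl
  have key : ∀ y : U, rect F y.1 = rectP Γ(F, U) (j y) := by
    rintro ⟨y, hy⟩
    show _ + _ = _ + _
    congr 1
    · rw [hj]
      set 𝔮 := hU.primeIdealOf ⟨y, hy⟩ with h𝔮
      set q : PrimeSpectrum P := PrimeSpectrum.comap π 𝔮 with hq
      let _ : Algebra Γ(X, U) (X.presheaf.stalk y) := (X.presheaf.germ U y hy).hom.toAlgebra
      let _ : Module Γ(X, U) (F.presheaf.stalk y) := Module.compHom _ (X.presheaf.germ U y hy).hom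
      haveI : IsScalarTower Γ(X, U) (X.presheaf.stalk y) (F.presheaf.stalk y) :=
        IsScalarTower.of_algebraMap_smul fun _ _ => rfl
      let φ : Γ(F, U) →ₗ[Γ(X, U)] F.presheaf.stalk y :=
        { toFun := fun m => F.presheaf.germ U y hy m
          map_add' := fun a b => map_add _ a b
          map_smul' := fun r m => QCohLoc.germ_smul' F hy r m }
      have hlocM := EGA43.QcohFP.isLocalizedModule_germ F hU hy φ fun _ => rfl
      have hlocR := hU.isLocalization_stalk ⟨y, hy⟩
      let _ : Algebra P (X.presheaf.stalk y) := ((algebraMap Γ(X, U) (X.presheaf.stalk y)).comp π).toAlgebra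
      let _ : Module P (F.presheaf.stalk y) := Module.compHom _ π
      haveI : IsScalarTower P Γ(X, U) (F.presheaf.stalk y) :=
        IsScalarTower.of_algebraMap_smul fun _ _ => rfl
      haveI : IsScalarTower P Γ(X, U) (X.presheaf.stalk y) := IsScalarTower.of_algebraMap_eq fun _ => rfl
      haveI : IsScalarTower P (X.presheaf.stalk y) (F.presheaf.stalk y) :=
        IsScalarTower.of_algebraMap_smul fun r z => by
          show algebraMap Γ(X, U) (X.presheaf.stalk y) (π r) • z = π r • z
          rw [algebraMap_smul]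
      have hlocP : IsLocalizedModule q.asIdeal.primeCompl (φ.restrictScalars P) :=
        FibDepth.isLocalizedModule_restrictScalars_of_surjective hπ 𝔮.asIdeal.primeCompl φ
      have hunits : ∀ s : q.asIdeal.primeCompl, IsUnit (algebraMap P (X.presheaf.stalk y) s) := fun s =>
        IsLocalization.map_units (X.presheaf.stalk y) (⟨π s, s.2⟩ : 𝔮.asIdeal.primeCompl)
      let l : Localization.AtPrime q.asIdeal →+* X.presheaf.stalk y :=
        IsLocalization.lift (M := q.asIdeal.primeCompl) hunits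
      let _ : Algebra (Localization.AtPrime q.asIdeal) (X.presheaf.stalk y) := l.toAlgebra
      have hl : Function.Surjective (algebraMap (Localization.AtPrime q.asIdeal) (X.presheaf.stalk y)) := by
        intro z
        obtain ⟨⟨b, t⟩, hz⟩ := IsLocalization.surj 𝔮.asIdeal.primeCompl z
        obtain ⟨a, ha⟩ := hπ b
        obtain ⟨s, hs⟩ := hπ t.1
        have hsq : s ∈ q.asIdeal.primeCompl := fun h => t.2 (hs ▸ h)
        refine ⟨IsLocalization.mk' _ a (⟨s, hsq⟩ : q.asIdeal.primeCompl), ?_⟩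
        show IsLocalization.lift hunits _ = z
        rw [IsLocalization.lift_mk'_spec]
        show algebraMap Γ(X, U) _ (π a) = algebraMap Γ(X, U) _ (π s) * z
        rw [ha, hs, mul_comm]
        exact hz.symm
      let _ : Module (Localization.AtPrime q.asIdeal) (F.presheaf.stalk y) := Module.compHom _ l
      haveI : IsScalarTower (Localization.AtPrime q.asIdeal) (X.presheaf.stalk y) (F.presheaf.stalk y) :=
        IsScalarTower.of_algebraMap_smul fun _ _ => rfl
      haveI : IsScalarTower P (Localization.AtPrime q.asIdeal) (F.presheaf.stalk y) :=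
        IsScalarTower.of_algebraMap_smul fun r z => by
          show l (algebraMap P _ r) • z = r • z
          rw [show l (algebraMap P _ r) = algebraMap P (X.presheaf.stalk y) r from IsLocalization.lift_eq _ r,
            algebraMap_smul]
      rw [CAlgH3.depth_of_surjective hl,
        ← CAlgH3.depth_congr (LinearEquiv.extendScalarsOfIsLocalization q.asIdeal.primeCompl
          (Localization.AtPrime q.asIdeal) (IsLocalizedModule.iso q.asIdeal.primeCompl (φ.restrictScalars P)))]
    · change topologicalKrullDim ↥(closure ({y} : Set X)) =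
        topologicalKrullDim ↥(closure ({j ⟨y, hy⟩} : Set (Spec (CommRingCat.of P))))
      rw [closure_dim_eq j ⟨y, hy⟩, dim_closure_embedding U.ι U.ι.isOpenEmbedding ⟨y, hy⟩,
        Scheme.Opens.range_ι]
      exact (dim_open_inter_closure_lft (isUniversallyCatenary_stalk hregS) h3 g U hy).symm
  obtain ⟨W, hW, hxW, hWr⟩ := exists_nhd_rectP Γ(F, U) hregS h3 p (j ⟨x, hxU⟩)
  refine ⟨U.ι ''ᵁ ⟨j ⁻¹' W, hW.preimage j.continuous⟩, ⟨⟨x, hxU⟩, hxW, rfl⟩, ?_⟩
  rintro _ ⟨y, hyW, rfl⟩
  rw [key ⟨x, hxU⟩]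
  refine ⟨le_of_le_of_eq (hWr _ hyW).1 (key y).symm, fun hxy => (key y).trans ((hWr _ hyW).2 ?_)⟩
  have h : (⟨x, hxU⟩ : U.toScheme) ⤳ y := U.ι.isOpenEmbedding.isInducing.specializes_iff.1 hxy
  exact h.map j.continuous

theorem isOpen_le_rect {X S : Scheme.{u}} [IsLocallyNoetherian S] [JacobsonSpace S]
    (hregS : ∀ s : S, IsRegularLocalRing (S.presheaf.stalk s))
    (h3 : ∀ S' ∈ irreducibleComponents (S : Type u), ∀ s ∈ S', IsClosed ({s} : Set S) →
      topologicalKrullDim (↥S' : Type u) = topologicalKrullDim ↥{t : S | t ∈ S' ∧ t ⤳ s})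
    (g : X ⟶ S) [LocallyOfFiniteType g] (F : X.Modules) (hF : Coh.IsCoh F) (a : WithBot ℕ∞) :
    IsOpen {x : X | a ≤ rect F x} := by
  rw [isOpen_iff_forall_mem_open]
  intro x hx
  obtain ⟨U, hxU, hU⟩ := exists_nhd_rect hregS h3 g F hF x
  exact ⟨U, fun y hy => le_trans hx (hU y hy).1, U.2, hxU⟩

theorem rect_of_isClosed {X : Scheme.{u}} (F : X.Modules) {x : X} (hx : IsClosed ({x} : Set X)) :
    rect F x = ((LocCoh.depth ↑(X.presheaf.stalk x) ↑(F.presheaf.stalk x) : ℕ∞) : WithBot ℕ∞) := by
  rw [rect, hx.closure_eq]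
  have : topologicalKrullDim ↥({x} : Set X) = 0 := by
    rw [topologicalKrullDim]
    haveI : Unique (IrreducibleCloseds ↥({x} : Set X)) :=
      { default := ⟨Set.univ, ⟨⟨⟨x, rfl⟩, trivial⟩,
          fun u v _ _ ⟨a, _, ha⟩ ⟨b, _, hb⟩ => ⟨a, trivial, ha, (Subsingleton.elim b a) ▸ hb⟩⟩, isClosed_univ⟩
        uniq := fun C => IrreducibleCloseds.ext (Set.eq_univ_of_forall fun a =>
          C.2.nonempty.elim fun b hb => (Subsingleton.elim b a) ▸ hb) }
    exact Order.krullDim_eq_zero
  rw [this, add_zero]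

theorem rect_iff {X S : Scheme.{u}} [IsLocallyNoetherian S] [JacobsonSpace S]
    (hregS : ∀ s : S, IsRegularLocalRing (S.presheaf.stalk s))
    (h3 : ∀ S' ∈ irreducibleComponents (S : Type u), ∀ s ∈ S', IsClosed ({s} : Set S) →
      topologicalKrullDim (↥S' : Type u) = topologicalKrullDim ↥{t : S | t ∈ S' ∧ t ⤳ s})
    (g : X ⟶ S) [LocallyOfFiniteType g] (F : X.Modules) (hF : Coh.IsCoh F) (x : X) (n : ℕ∞) :
    (∃ U : X.Opens, x ∈ U ∧ ∀ x' : ↥U, (x' : X) ∈ closure ({x} : Set X) → IsClosed ({x'} : Set ↥U) →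
        LocCoh.depth ↑(X.presheaf.stalk (x' : X)) ↑(F.presheaf.stalk (x' : X)) = n) ↔
      ((n : WithBot ℕ∞) = rect F x) := by
  have : JacobsonSpace X := LocallyOfFiniteType.jacobsonSpace g
  have : IsLocallyNoetherian X := LocallyOfFiniteType.isLocallyNoetherian g
  obtain ⟨V, hxV, hV⟩ := exists_nhd_rect hregS h3 g F hF x
  constructor
  · rintro ⟨U, hxU, hUn⟩
    obtain ⟨c, ⟨⟨hcU, hcV⟩, hcx⟩, hc⟩ := nonempty_inter_closedPoints
      (Z := ((U : Set X) ∩ V) ∩ closure ({x} : Set X)) ⟨x, ⟨hxU, hxV⟩, subset_closure rfl⟩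
      ((U.isOpen.inter V.isOpen).isLocallyClosed.inter isClosed_closure.isLocallyClosed)
    have h := hUn ⟨c, hcU⟩ hcx (by
      convert hc.preimage (continuous_subtype_val : Continuous (Subtype.val : ↥U → X))
      ext a; exact Subtype.ext_iff)
    rw [← (hV c hcV).2 (specializes_iff_mem_closure.2 hcx), rect_of_isClosed F hc]
    exact congrArg _ h.symm
  · intro h
    refine ⟨V, hxV, fun c hcx hc => ?_⟩
    have hc' : IsClosed ({(c : X)} : Set X) :=
      V.ι.closePoints_subset_preimage_closedPoints (a := (c : V.toScheme)) hc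
    have h2 := (hV c c.2).2 (specializes_iff_mem_closure.2 hcx)
    rw [rect_of_isClosed F hc', ← h] at h2
    exact WithBot.coe_injective h2

end Groth.Agent.EGA43.RectDepth
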