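import Groth.Prelude.Def_EGA43
import Mathlib.AlgebraicGeometry.PullbackCarrier
import Mathlib.Topology.Maps.Basic
import Mathlib.Topology.LocallyFinite
import Mathlib.AlgebraicGeometry.Morphisms.UnderlyingMap
import Mathlib.AlgebraicGeometry.Morphisms.UniversallyClosed
import Mathlib.AlgebraicGeometry.Morphisms.ClosedImmersion

/-!
# Openness at a point and universal openness at a point
-/

universe u

set_option autoImplicit false

open CategoryTheory AlgebraicGeometry Topology Filter Set

namespace Groth.Agent.EGA43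

section Top

variable {α β γ δ : Type*} [TopologicalSpace α] [TopologicalSpace β] [TopologicalSpace γ]
  [TopologicalSpace δ]

theorem isOpenAt_comp {f : α → β} {g : β → γ} {x : α} (hf : EGA43.IsOpenAt f x)
    (hg : EGA43.IsOpenAt g (f x)) : EGA43.IsOpenAt (g ∘ f) x := by
  intro U hU
  rw [image_comp]
  exact hg _ (hf U hU)

theorem isOpenAt_of_comp {f : α → β} {g : β → γ} {x : α} (hfc : ContinuousAt f x)
    (h : EGA43.IsOpenAt (g ∘ f) x) : EGA43.IsOpenAt g (f x) := by
  intro U hU
  refine mem_of_superset (h _ (hfc hU)) ?_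
  rw [image_comp]
  exact image_mono (image_preimage_subset f U)

theorem isOpenAt_restrictPreimage {f : α → β} {x : α} (h : EGA43.IsOpenAt f x) {s : Set β}
    (hx : f x ∈ s) : EGA43.IsOpenAt (s.restrictPreimage f) ⟨x, hx⟩ := by
  intro U hU
  rw [nhds_subtype_eq_comap, mem_comap] at hU ⊢
  obtain ⟨V, hV, hVU⟩ := hU
  refine ⟨f '' V, h V hV, ?_⟩
  rintro ⟨y, hy⟩ ⟨v, hv, rfl⟩
  exact ⟨⟨v, hy⟩, hVU hv, rfl⟩

theorem isClosed_setOf_isOpenAt (f : α → β) (y : β) :
    IsClosed {x : ↥(f ⁻¹' {y}) | EGA43.IsOpenAt f x.1} := by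
  rw [← isOpen_compl_iff, isOpen_iff_mem_nhds]
  rintro ⟨x, hx⟩ hnot
  simp only [mem_compl_iff, mem_ofPred_eq, EGA43.IsOpenAt, not_forall] at hnot
  obtain ⟨U, hU, hfU⟩ := hnot
  rw [nhds_subtype_eq_comap, mem_comap]
  refine ⟨interior U, interior_mem_nhds.2 hU, ?_⟩
  rintro ⟨x', hx'⟩ hx'U h
  have := h U (mem_interior_iff_mem_nhds.1 hx'U)
  have e1 : f x' = y := hx'
  have e2 : f x = y := hx
  simp only [e1] at this
  rw [e2] at hfU
  exact hfU this

/-- If the square `f ∘ j = i ∘ q` commutes, `i` is inducing and `q` is open at `t`, then near `f (j t)`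
the image under `f` of a neighbourhood of `j t` contains the trace of the range of `i`. -/
theorem exists_nhds_inter_range_subset {f : α → β} {j : γ → α} {i : δ → β} {q : γ → δ}
    (hi : IsInducing i) (hj : Continuous j) (hcomm : f ∘ j = i ∘ q) {t : γ}
    (h : EGA43.IsOpenAt q t) {U : Set α} (hU : U ∈ 𝓝 (j t)) :
    ∃ W ∈ 𝓝 (f (j t)), W ∩ range i ⊆ f '' U := by
  have := h _ (hj.continuousAt hU)
  rw [hi.nhds_eq_comap, mem_comap] at this
  obtain ⟨W, hW, hWsub⟩ := this
  refine ⟨W, ?_, ?_⟩
  · have := congr_fun hcomm t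
    simp only [Function.comp_apply] at this
    rwa [this]
  rintro _ ⟨hb, d, rfl⟩
  obtain ⟨c, hc, rfl⟩ := hWsub hb
  exact ⟨j c, hc, congr_fun hcomm c⟩

theorem isOpenAt_of_locallyFinite {ι : Type*} {f : α → β} {x : α} {Y : ι → Set β}
    (hY : LocallyFinite Y) (hcl : ∀ i, IsClosed (Y i)) (hcov : ⋃ i, Y i = univ)
    (h : ∀ i, f x ∈ Y i → ∀ U ∈ 𝓝 x, ∃ W ∈ 𝓝 (f x), W ∩ Y i ⊆ f '' U) :
    EGA43.IsOpenAt f x := by
  classical
  intro U hU
  have hfin : {i | f x ∈ Y i}.Finite := hY.point_finite (f x)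
  choose W hW hWsub using h
  let C : Set β := ⋃ i : {i // f x ∉ Y i}, Y i.1
  have hC : IsClosed C := (hY.comp_injective Subtype.val_injective).isClosed_iUnion fun i => hcl _
  have hCx : Cᶜ ∈ 𝓝 (f x) := hC.isOpen_compl.mem_nhds (by simp [C])
  have hI : (⋂ i ∈ {i | f x ∈ Y i}, (if h : f x ∈ Y i then W i h U hU else univ)) ∈ 𝓝 (f x) := by
    rw [biInter_mem hfin]
    intro i hi
    rw [dif_pos (show f x ∈ Y i from hi)]
    exact hW i hi U hU
  filter_upwards [hCx, hI] with z hzC hzI
  obtain ⟨i, hi⟩ := mem_iUnion.1 (hcov.ge (mem_univ z))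
  have hxi : f x ∈ Y i := by
    by_contra hc
    exact hzC (mem_iUnion.2 ⟨⟨i, hc⟩, hi⟩)
  have := mem_iInter₂.1 hzI i hxi
  rw [dif_pos hxi] at this
  exact hWsub i hxi U hU ⟨this, hi⟩

end Top

section Scheme

variable {X Y Z : Scheme.{u}}

theorem isOpenAt_of_isIso {X Y : Scheme.{u}} (e : X ⟶ Y) [IsIso e] (x : X) :
    EGA43.IsOpenAt e.base x :=
  fun _ hU => e.isOpenEmbedding.isOpenMap.image_mem_nhds hU

theorem continuous_base {X Y : Scheme.{u}} (f : X ⟶ Y) : Continuous f.base :=
  f.continuous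

theorem base_comp {X Y Z : Scheme.{u}} (f : X ⟶ Y) (g : Y ⟶ Z) (x : X) :
    (f ≫ g).base x = g.base (f.base x) := rfl

theorem isOpenAt_of_isPullback {f : X ⟶ Y} {x : X} (h : EGA43.IsUnivOpenAt f x)
    {P Y' : Scheme.{u}} {p : P ⟶ X} {q : P ⟶ Y'} {g : Y' ⟶ Y} (sq : IsPullback p q f g)
    {x' : P} (hx : p.base x' = x) : EGA43.IsOpenAt q.base x' := by
  have h1 : EGA43.IsOpenAt (Limits.pullback.snd f g).base (sq.isoPullback.hom.base x') := by
    apply h Y' g
    rw [← base_comp, sq.isoPullback_hom_fst, hx]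
  have := isOpenAt_comp (isOpenAt_of_isIso sq.isoPullback.hom x') h1
  have e : q = sq.isoPullback.hom ≫ Limits.pullback.snd f g := sq.isoPullback_hom_snd.symm
  rw [e]
  show EGA43.IsOpenAt ((Limits.pullback.snd f g).base ∘ sq.isoPullback.hom.base) x'
  exact this

theorem isUnivOpenAt_comp {f : X ⟶ Y} {g : Y ⟶ Z} {x : X} (hf : EGA43.IsUnivOpenAt f x)
    (hg : EGA43.IsUnivOpenAt g (f.base x)) : EGA43.IsUnivOpenAt (f ≫ g) x := by
  intro Z' h x' hx'
  let m : Limits.pullback (f ≫ g) h ⟶ Limits.pullback g h :=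
    Limits.pullback.lift (Limits.pullback.fst _ _ ≫ f) (Limits.pullback.snd _ _)
      (by rw [Category.assoc, Limits.pullback.condition])
  have sq : IsPullback (Limits.pullback.fst (f ≫ g) h) m f (Limits.pullback.fst g h) := by
    refine IsPullback.of_bot ?_ (Limits.pullback.lift_fst _ _ _).symm
      (IsPullback.of_hasPullback g h)
    rw [Limits.pullback.lift_snd]
    exact IsPullback.of_hasPullback _ _
  have h1 : EGA43.IsOpenAt m.base x' := isOpenAt_of_isPullback hf sq hx'
  have h2 : EGA43.IsOpenAt (Limits.pullback.snd g h).base (m.base x') := by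
    apply hg Z' h
    rw [← base_comp, Limits.pullback.lift_fst, base_comp, hx']
  have e : Limits.pullback.snd (f ≫ g) h = m ≫ Limits.pullback.snd g h :=
    (Limits.pullback.lift_snd _ _ _).symm
  rw [e]
  show EGA43.IsOpenAt ((Limits.pullback.snd g h).base ∘ m.base) x'
  exact isOpenAt_comp h1 h2

theorem isUnivOpenAt_right_of_comp {f : X ⟶ Y} {g : Y ⟶ Z} {x : X}
    (hfg : EGA43.IsUnivOpenAt (f ≫ g) x) : EGA43.IsUnivOpenAt g (f.base x) := by
  intro Z' h y' hy'
  let m : Limits.pullback (f ≫ g) h ⟶ Limits.pullback g h :=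
    Limits.pullback.lift (Limits.pullback.fst _ _ ≫ f) (Limits.pullback.snd _ _)
      (by rw [Category.assoc, Limits.pullback.condition])
  have sq : IsPullback (Limits.pullback.fst (f ≫ g) h) m f (Limits.pullback.fst g h) := by
    refine IsPullback.of_bot ?_ (Limits.pullback.lift_fst _ _ _).symm
      (IsPullback.of_hasPullback g h)
    rw [Limits.pullback.lift_snd]
    exact IsPullback.of_hasPullback _ _
  obtain ⟨z, hz1, hz2⟩ := Scheme.Pullback.exists_preimage_pullback (f := f)
    (g := Limits.pullback.fst g h) x y' hy'.symm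
  let w : (Limits.pullback (f ≫ g) h : Scheme.{u}) := sq.isoPullback.inv.base z
  have hw1 : (Limits.pullback.fst (f ≫ g) h).base w = x := by
    rw [← base_comp, sq.isoPullback_inv_fst]; exact hz1
  have hw2 : m.base w = y' := by
    rw [← base_comp, sq.isoPullback_inv_snd]; exact hz2
  have h1 := hfg Z' h w hw1
  have e : Limits.pullback.snd (f ≫ g) h = m ≫ Limits.pullback.snd g h :=
    (Limits.pullback.lift_snd _ _ _).symm
  rw [e] at h1
  have := isOpenAt_of_comp (f := m.base) (g := (Limits.pullback.snd g h).base)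
    (continuous_base m).continuousAt h1
  rwa [hw2] at this

theorem isUnivOpenAt_of_isPullback {f : X ⟶ Y} {x : X} (h : EGA43.IsUnivOpenAt f x)
    {P Y' : Scheme.{u}} {p : P ⟶ X} {q : P ⟶ Y'} {g : Y' ⟶ Y} (sq : IsPullback p q f g)
    {x' : P} (hx : p.base x' = x) : EGA43.IsUnivOpenAt q x' := by
  intro Y'' g' x'' hx''
  have sq' := (IsPullback.of_hasPullback q g').paste_horiz sq
  refine isOpenAt_of_isPullback h sq' ?_
  rw [base_comp, hx'', hx]

theorem isOpenAt_of_closedMap_surjective {X Y Y₁ P : Scheme.{u}} {v : Y₁ ⟶ Y}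
    (hv : IsClosedMap v.base) (hs : Function.Surjective v.base) {f : X ⟶ Y}
    {p : P ⟶ X} {q : P ⟶ Y₁} (sq : IsPullback p q f v) {x : X}
    (h : ∀ x₁ : P, p.base x₁ = x → EGA43.IsOpenAt q.base x₁) :
    EGA43.IsOpenAt f.base x := by
  intro U hU
  have key : ∀ y₁ : Y₁, v.base y₁ = f.base x → v.base ⁻¹' (f.base '' U) ∈ 𝓝 y₁ := by
    intro y₁ hy₁
    obtain ⟨z, hz1, hz2⟩ := Scheme.Pullback.exists_preimage_pullback (f := f) (g := v) x y₁ hy₁.symm
    let w : P := sq.isoPullback.inv.base z
    have hw1 : p.base w = x := by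
      rw [← base_comp, sq.isoPullback_inv_fst]; exact hz1
    have hw2 : q.base w = y₁ := by
      rw [← base_comp, sq.isoPullback_inv_snd]; exact hz2
    have hpre : p.base ⁻¹' U ∈ 𝓝 w := (continuous_base p).continuousAt (by rwa [hw1])
    have := h w hw1 _ hpre
    rw [hw2] at this
    refine mem_of_superset this ?_
    rintro _ ⟨c, hc, rfl⟩
    refine ⟨p.base c, hc, ?_⟩
    rw [← base_comp, sq.w, base_comp]
  have hW : IsOpen (v.base '' (interior (v.base ⁻¹' (f.base '' U)))ᶜ)ᶜ :=
    (hv _ isOpen_interior.isClosed_compl).isOpen_compl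
  refine mem_of_superset (hW.mem_nhds ?_) ?_
  · rintro ⟨y₁, hy₁, e⟩
    exact hy₁ (mem_interior_iff_mem_nhds.2 (key y₁ e))
  · intro y hy
    obtain ⟨y₁, rfl⟩ := hs y
    by_contra hne
    exact hy ⟨y₁, fun hin => hne ((interior_subset hin : y₁ ∈ v.base ⁻¹' (f.base '' U))), rfl⟩

theorem isUnivOpenAt_of_universallyClosed_surjective {X Y Y₁ : Scheme.{u}} (v : Y₁ ⟶ Y)
    [UniversallyClosed v] [Surjective v] (f : X ⟶ Y) (x : X)
    (h : ∀ x₁ : ↥(Limits.pullback f v), (Limits.pullback.fst f v).base x₁ = x →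
      EGA43.IsUnivOpenAt (Limits.pullback.snd f v) x₁) :
    EGA43.IsUnivOpenAt f x := by
  intro Y' g x' hx'
  let v' := Limits.pullback.fst g v
  refine isOpenAt_of_closedMap_surjective (v := v') v'.isClosedMap v'.surjective
    (IsPullback.of_hasPullback (Limits.pullback.snd f g) v') ?_
  intro x₁ hx₁
  let P := Limits.pullback (Limits.pullback.snd f g) v'
  let m : P ⟶ Limits.pullback f v :=
    Limits.pullback.lift (Limits.pullback.fst _ _ ≫ Limits.pullback.fst f g)
      (Limits.pullback.snd _ _ ≫ Limits.pullback.snd g v)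
      (by rw [Category.assoc, Category.assoc, Limits.pullback.condition (f := f) (g := g),
        ← Limits.pullback.condition (f := g) (g := v), Limits.pullback.condition_assoc])
  have sq : IsPullback m (Limits.pullback.snd (Limits.pullback.snd f g) v')
      (Limits.pullback.snd f v) (Limits.pullback.snd g v) := by
    refine IsPullback.of_right ?_ (Limits.pullback.lift_snd _ _ _)
      (IsPullback.of_hasPullback f v)
    rw [Limits.pullback.lift_fst]
    have := (IsPullback.of_hasPullback (Limits.pullback.snd f g) v').paste_horiz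
      (IsPullback.of_hasPullback f g)
    rwa [Limits.pullback.condition] at this
  refine isOpenAt_of_isPullback (h (m.base x₁) ?_) sq rfl
  rw [← base_comp, Limits.pullback.lift_fst, base_comp, hx₁, hx']

theorem isUnivOpenAt_of_finite_closed_cover {X Y : Scheme.{u}} (f : X ⟶ Y) (x : X) {ι : Type*}
    [Finite ι] (T : ι → Scheme.{u}) (g : ∀ i, T i ⟶ Y) [∀ i, IsClosedImmersion (g i)]
    (hcov : ⋃ i, Set.range (g i).base = Set.univ)
    (h : ∀ i, ∀ x' : ↥(Limits.pullback f (g i)), (Limits.pullback.fst f (g i)).base x' = x →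
      EGA43.IsUnivOpenAt (Limits.pullback.snd f (g i)) x') :
    EGA43.IsUnivOpenAt f x := by
  intro Y' k x' hx'
  refine isOpenAt_of_locallyFinite (Y := fun i => range (Limits.pullback.fst k (g i)).base)
    (locallyFinite_of_finite _) ?_ ?_ ?_
  · exact fun i => (Limits.pullback.fst k (g i)).isClosedEmbedding.isClosed_range
  · simp only [Scheme.Pullback.range_fst, ← preimage_iUnion]
    rw [show (⋃ i, range (g i)) = univ from hcov, preimage_univ]
  · intro i hi U hU
    obtain ⟨y₁, hy₁⟩ := hi
    let k' := Limits.pullback.fst k (g i)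
    obtain ⟨t, ht1, ht2⟩ := Scheme.Pullback.exists_preimage_pullback
      (f := Limits.pullback.snd f k) (g := k') x' y₁ hy₁.symm
    let P := Limits.pullback (Limits.pullback.snd f k) k'
    let m : P ⟶ Limits.pullback f (g i) :=
      Limits.pullback.lift (Limits.pullback.fst _ _ ≫ Limits.pullback.fst f k)
        (Limits.pullback.snd _ _ ≫ Limits.pullback.snd k (g i))
        (by rw [Category.assoc, Category.assoc, Limits.pullback.condition (f := f) (g := k),
          ← Limits.pullback.condition (f := k) (g := g i), Limits.pullback.condition_assoc])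
    have sq : IsPullback m (Limits.pullback.snd (Limits.pullback.snd f k) k')
        (Limits.pullback.snd f (g i)) (Limits.pullback.snd k (g i)) := by
      refine IsPullback.of_right ?_ (Limits.pullback.lift_snd _ _ _)
        (IsPullback.of_hasPullback f (g i))
      rw [Limits.pullback.lift_fst]
      have := (IsPullback.of_hasPullback (Limits.pullback.snd f k) k').paste_horiz
        (IsPullback.of_hasPullback f k)
      rwa [Limits.pullback.condition] at this
    have hm : (Limits.pullback.fst f (g i)).base (m.base t) = x := by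
      rw [← base_comp, Limits.pullback.lift_fst, base_comp]
      exact (congrArg _ ht1).trans hx'
    have ho := isOpenAt_of_isPullback (h i _ hm) sq (x' := t) rfl
    have hxt : (Limits.pullback.fst (Limits.pullback.snd f k) k').base t = x' := ht1
    obtain ⟨W, hW, hWs⟩ := exists_nhds_inter_range_subset
      (f := (Limits.pullback.snd f k).base)
      (j := (Limits.pullback.fst (Limits.pullback.snd f k) k').base) (i := k'.base)
      (q := (Limits.pullback.snd (Limits.pullback.snd f k) k').base)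
      k'.isClosedEmbedding.isInducing
      (continuous_base _) (funext fun c => by
        simp only [Function.comp_apply, ← base_comp, Limits.pullback.condition])
      ho (U := U) (by rwa [hxt])
    rw [hxt] at hW
    exact ⟨W, hW, hWs⟩

end Scheme

end Groth.Agent.EGA43
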