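import Mathlib.AlgebraicGeometry.Morphisms.Flat
import Mathlib.AlgebraicGeometry.Morphisms.Separated
import Mathlib.AlgebraicGeometry.Morphisms.ClosedImmersion
import Mathlib.AlgebraicGeometry.AffineSpace
import Mathlib.AlgebraicGeometry.Restrict
import Mathlib.AlgebraicGeometry.Properties

/-!
# Schematically dominant families
-/

universe u

set_option autoImplicit false

open AlgebraicGeometry CategoryTheory Limits Set TopologicalSpace

namespace Groth.Agent.EGA43

/-- A family of morphisms is schematically dominant. -/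
def SchDom {X : Scheme.{u}} {ι : Type*} {Z : ι → Scheme.{u}} (f : ∀ i, Z i ⟶ X) : Prop :=
  ∀ (V : X.Opens) (t : Γ(X, V)), (∀ i, (f i).app V t = 0) → t = 0

variable {X : Scheme.{u}} {ι : Type*} {Z : ι → Scheme.{u}} {f : ∀ i, Z i ⟶ X}

theorem app_map {X Y : Scheme.{u}} (f : X ⟶ Y) {U V : Y.Opens} (h : U ≤ V) (t : Γ(Y, V)) :
    f.app U (Y.presheaf.map (homOfLE h).op t) =
      X.presheaf.map ((Opens.map f.base).map (homOfLE h)).op (f.app V t) := by
  rw [← CommRingCat.comp_apply, f.naturality]
  rfl

theorem SchDom.restrict (h : SchDom f) (U : X.Opens) : SchDom (fun i => f i ∣_ U) := by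
  intro V t ht
  refine h (U.ι ''ᵁ V) t fun i => ?_
  have := ht i
  simp only [morphismRestrict_app, ConcreteCategory.comp_apply] at this
  exact (ConcreteCategory.bijective_of_isIso ((Z i).presheaf.map
    (eqToHom (image_morphismRestrict_preimage (f i) U V)).op)).1 (this.trans (map_zero _).symm)

theorem SchDom.dense (h : SchDom f) : Dense (⋃ i, Set.range (f i)) := by
  rw [dense_iff_inter_open]
  intro V hV hne
  by_contra hc
  rw [Set.not_nonempty_iff_eq_empty] at hc
  obtain ⟨x, hx⟩ := hne
  let V' : X.Opens := ⟨V, hV⟩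
  have h1 : (1 : Γ(X, V')) = 0 := by
    refine h V' 1 fun i => ?_
    have he : (f i) ⁻¹ᵁ V' = ⊥ := by
      refine SetLike.ext' (Set.eq_empty_iff_forall_notMem.2 fun z hz => ?_)
      exact (Set.eq_empty_iff_forall_notMem.1 hc _) ⟨hz, Set.mem_iUnion.2 ⟨i, z, rfl⟩⟩
    have : Subsingleton Γ(Z i, (f i) ⁻¹ᵁ V') := by rw [he]; infer_instance
    exact Subsingleton.elim _ _
  have := congrArg (X.presheaf.germ V' x hx) h1
  rw [map_one, map_zero] at this
  exact one_ne_zero this

theorem schDom_of_dense [IsReduced X] (h : Dense (⋃ i, Set.range (f i))) : SchDom f := by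
  intro V t ht
  rw [← basicOpen_eq_bot_iff]
  by_contra hne
  have hne' : ((X.basicOpen t : X.Opens) : Set X).Nonempty := by
    rw [Set.nonempty_iff_ne_empty]
    exact fun e => hne (SetLike.ext' e)
  obtain ⟨z, hz, hzi⟩ := h.inter_open_nonempty _ (X.basicOpen t).isOpen hne'
  obtain ⟨i, w, rfl⟩ := Set.mem_iUnion.1 hzi
  have : w ∈ (f i) ⁻¹ᵁ X.basicOpen t := hz
  rw [Scheme.preimage_basicOpen, ht i, Scheme.basicOpen_zero] at this
  exact this

theorem app_injective_of_flat_surjective {X' X : Scheme.{u}} (g : X' ⟶ X) [Flat g] [Surjective g]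
    (V : X.Opens) : Function.Injective (g.app V) := by
  rw [injective_iff_map_eq_zero]
  intro t ht
  refine TopCat.Presheaf.section_ext X.sheaf V t 0 fun x hx => ?_
  obtain ⟨x', rfl⟩ := g.surjective x
  change X.presheaf.germ V _ hx t = X.presheaf.germ V _ hx 0
  rw [map_zero]
  algebraize [(g.stalkMap x').hom]
  have : Module.FaithfullyFlat (X.presheaf.stalk (g x')) (X'.presheaf.stalk x') :=
    @Module.FaithfullyFlat.of_flat_of_isLocalHom _ _ _ _ _ _ _
      (Flat.stalkMap g x') (g.toLRSHom.prop x')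
  refine (‹RingHom.FaithfullyFlat _›.injective : Function.Injective (g.stalkMap x').hom) ?_
  rw [map_zero]
  show (g.stalkMap x') (X.presheaf.germ V _ hx t) = 0
  rw [← CommRingCat.comp_apply, g.germ_stalkMap, CommRingCat.comp_apply, ht, map_zero]

theorem schDom_of_baseChange {X' : Scheme.{u}} (g : X' ⟶ X) [Flat g] [Surjective g]
    (h : SchDom (fun i => pullback.snd (f i) g)) : SchDom f := by
  intro V t ht
  apply app_injective_of_flat_surjective g V
  rw [map_zero]
  refine h _ _ fun i => ?_
  have hc := Scheme.Hom.congr_app (pullback.condition (f := f i) (g := g)) V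
  have := congrArg (fun φ : Γ(X, V) ⟶ _ => φ t) hc
  simp only [Scheme.Hom.comp_app] at this
  erw [ConcreteCategory.comp_apply, ConcreteCategory.comp_apply, ConcreteCategory.comp_apply, ht i,
    map_zero] at this
  exact (ConcreteCategory.bijective_of_isIso ((pullback (f i) g).presheaf.map (eqToHom _).op)).1
    (this.symm.trans (map_zero _).symm)

theorem SchDom.isIso_of_factor (h : SchDom f) {Y : Scheme.{u}} (j : Y ⟶ X) [IsClosedImmersion j]
    (hg : ∀ i, ∃ g : Z i ⟶ Y, g ≫ j = f i) : IsIso j := by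
  rw [IsClosedImmersion.isIso_iff_ker_eq_bot]
  refine Scheme.IdealSheafData.ext (funext fun V => ?_)
  rw [Scheme.Hom.ker_apply, Scheme.IdealSheafData.ideal_bot, Pi.bot_apply, eq_bot_iff]
  intro t ht
  rw [RingHom.mem_ker] at ht
  rw [Ideal.mem_bot]
  refine h _ t fun i => ?_
  obtain ⟨g, hg⟩ := hg i
  rw [← hg, Scheme.Hom.comp_app]
  erw [ConcreteCategory.comp_apply, ht, map_zero]

theorem SchDom.eq_of_separated {U S X' : Scheme.{u}} {ι : Type*} {W : ι → Scheme.{u}}
    {g : ∀ i, W i ⟶ U} (h : SchDom g) (q : X' ⟶ S) [IsSeparated q] (u v : U ⟶ X')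
    (huv : u ≫ q = v ≫ q) (he : ∀ i, g i ≫ u = g i ≫ v) : u = v := by
  let w : U ⟶ pullback q q := pullback.lift u v huv
  have : IsClosedImmersion (pullback.fst w (pullback.diagonal q)) :=
    (IsClosedImmersion.isStableUnderBaseChange).of_isPullback (IsPullback.of_hasPullback w (pullback.diagonal q)).flip
      (IsSeparated.isClosedImmersion_diagonal)
  have hiso : IsIso (pullback.fst w (pullback.diagonal q)) := by
    refine h.isIso_of_factor _ fun i => ⟨pullback.lift (g i) (g i ≫ u) ?_, pullback.lift_fst _ _ _⟩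
    ext
    · simp only [w, Category.assoc, pullback.diagonal_fst, Category.comp_id, pullback.lift_fst]
    · simp only [w, Category.assoc, pullback.diagonal_snd, Category.comp_id, pullback.lift_snd, he i]
  rw [← cancel_epi (pullback.fst w (pullback.diagonal q))]
  have h1 := congrArg (· ≫ pullback.fst q q) (pullback.condition (f := w) (g := pullback.diagonal q))
  have h2 := congrArg (· ≫ pullback.snd q q) (pullback.condition (f := w) (g := pullback.diagonal q))
  simp only [w, Category.assoc, pullback.diagonal_fst, pullback.diagonal_snd, Category.comp_id,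
    pullback.lift_fst, pullback.lift_snd] at h1 h2
  rw [h1, h2]

theorem comp_appTop_apply {A B C : Scheme.{u}} (a : A ⟶ B) (b : B ⟶ C) (x : Γ(C, ⊤)) :
    (a ≫ b).appTop x = a.appTop (b.appTop x) := rfl

theorem restrict_appTop_topIso_inv {X' X : Scheme.{u}} (f : X' ⟶ X) (V : X.Opens) (t : Γ(X, V))
    (ht : f.app V t = 0) : (f ∣_ V).appTop (V.topIso.inv t) = 0 := by
  rw [morphismRestrict_appTop]
  erw [ConcreteCategory.comp_apply]
  have h0 : f.app (V.ι ''ᵁ ⊤) (X.presheaf.map (homOfLE V.ι_image_top.le).op t) = 0 := by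
    rw [app_map, ht, map_zero]
  erw [h0, map_zero]

theorem schDom_of_forall_separated {S : Scheme.{u}} (p : X ⟶ S)
    (h : ∀ (X' : Scheme.{u}) (q : X' ⟶ S), IsSeparated q → ∀ (U : X.Opens)
      (u v : (U : Scheme.{u}) ⟶ X'), u ≫ q = U.ι ≫ p → v ≫ q = U.ι ≫ p →
      (∀ i, ((f i) ∣_ U) ≫ u = ((f i) ∣_ U) ≫ v) → u = v) : SchDom f := by
  intro V t ht
  let n : Type u := PUnit
  have hsep : IsSeparated (𝔸(n; S) ↘ S) := inferInstance
  have := h _ _ hsep V (AffineSpace.homOfVector (V.ι ≫ p) fun _ => V.topIso.inv t)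
    (AffineSpace.homOfVector (V.ι ≫ p) fun _ => 0) (AffineSpace.homOfVector_over _ _)
    (AffineSpace.homOfVector_over _ _) (fun i => by
      apply AffineSpace.hom_ext
      · simp
      · intro k
        rw [comp_appTop_apply, comp_appTop_apply, AffineSpace.homOfVector_appTop_coord,
          AffineSpace.homOfVector_appTop_coord, map_zero]
        exact restrict_appTop_topIso_inv (f i) V t (ht i))
  have h2 := congrArg (fun φ : (V : Scheme.{u}) ⟶ 𝔸(n; S) => φ.appTop (AffineSpace.coord S PUnit.unit)) this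
  simp only [AffineSpace.homOfVector_appTop_coord] at h2
  exact (ConcreteCategory.bijective_of_isIso V.topIso.inv).1 (h2.trans (map_zero _).symm)

end Groth.Agent.EGA43
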