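import Groth.Agent.FlatCrit.Tor
import Groth.Agent.FlatCrit.Inj
import Mathlib.LinearAlgebra.DirectSum.Finsupp
import Mathlib.RingTheory.Flat.FaithfullyFlat.Basic
import Mathlib.RingTheory.Nakayama
import Mathlib.LinearAlgebra.Dimension.Free
import Mathlib.LinearAlgebra.FreeModule.Basic

/-!
# Small algebra facts of EGA IV §11
-/

universe u

set_option autoImplicit false

open TensorProduct

namespace Groth.Agent.EGA43

theorem iInf_ker_rTensor_eq_bot {A : Type u} [CommRing A]
    {M : Type u} [AddCommGroup M] [Module A M] {ι : Type*} (M' : ι → Type u)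
    [∀ i, AddCommGroup (M' i)] [∀ i, Module A (M' i)] (u : ∀ i, M →ₗ[A] M' i)
    (hu : ⨅ i, LinearMap.ker (u i) = ⊥)
    (N : Type u) [AddCommGroup N] [Module A N] [Module.Projective A N] :
    ⨅ i, LinearMap.ker ((u i).rTensor N) = ⊥ := by
  classical
  obtain ⟨s, hs⟩ := ‹Module.Projective A N›.out
  rw [eq_bot_iff]
  intro x hx
  rw [Submodule.mem_iInf] at hx
  let ev (φ : N →ₗ[A] A) : M ⊗[A] N →ₗ[A] M := (TensorProduct.rid A M).toLinearMap ∘ₗ φ.lTensor M
  have hev : ∀ φ : N →ₗ[A] A, ev φ x = 0 := by
    intro φ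
    rw [← Submodule.mem_bot A, ← hu, Submodule.mem_iInf]
    intro i
    have hcomm : (u i) ∘ₗ ev φ = ((TensorProduct.rid A (M' i)).toLinearMap ∘ₗ φ.lTensor (M' i)) ∘ₗ
        (u i).rTensor N :=
      TensorProduct.ext' fun m n => by simp [ev]
    have := LinearMap.congr_fun hcomm x
    simp only [LinearMap.comp_apply, LinearMap.mem_ker.1 (hx i), map_zero] at this
    exact this
  have hinj : Function.Injective (s.lTensor M) :=
    Function.LeftInverse.injective (g := (Finsupp.linearCombination A id).lTensor M) fun y => by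
      rw [← LinearMap.comp_apply, ← LinearMap.lTensor_comp,
        show Finsupp.linearCombination A id ∘ₗ s = LinearMap.id from LinearMap.ext hs,
        LinearMap.lTensor_id, LinearMap.id_apply]
  rw [Submodule.mem_bot]
  refine hinj ((TensorProduct.finsuppScalarRight A A M N).injective (Finsupp.ext fun n => ?_))
  have := hev ((Finsupp.lapply n) ∘ₗ s)
  have hcomm : (Finsupp.lapply n) ∘ₗ (TensorProduct.finsuppScalarRight A A M N).toLinearMap ∘ₗ
      s.lTensor M = ev ((Finsupp.lapply n) ∘ₗ s) :=
    TensorProduct.ext' fun m y => by simp [ev]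
  rw [map_zero, map_zero, Finsupp.zero_apply, ← this, ← LinearMap.congr_fun hcomm x]
  rfl

theorem flat_of_flat_of_flat_mod_nilpotent {A B : Type u} [CommRing A] [CommRing B] [Algebra A B]
    (J : Ideal A) (hJ : IsNilpotent J) (M : Type u) [AddCommGroup M] [Module B M] [Module A M]
    [IsScalarTower A B M] [Module.Flat A M]
    (hc2 : Module.Flat (B ⧸ J.map (algebraMap A B)) ((B ⧸ J.map (algebraMap A B)) ⊗[B] M)) :
    Module.Flat B M := by
  refine FlatCrit.flat_of_isNilpotent (I := J.map (algebraMap A B)) ?_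
    (FlatCrit.quotFlat_of_flat _ hc2) ?_
  · exact FlatCrit.rTensor_map_injective (Module.Flat.rTensor_preserves_injective_linearMap _
      J.subtype_injective)
  · obtain ⟨n, hn⟩ := hJ
    exact ⟨n, by rw [← Ideal.map_pow, hn]; exact Ideal.map_bot⟩

theorem flat_of_flat_and_flat_mod_nilpotent {A B : Type u} [CommRing A] [CommRing B] [Algebra A B]
    (J : Ideal A) (hJ : IsNilpotent J) (M : Type u) [AddCommGroup M] [Module B M] [Module A M]
    [IsScalarTower A B M] [Module.Flat A M]
    (hc2 : Module.Flat (B ⧸ J.map (algebraMap A B)) ((B ⧸ J.map (algebraMap A B)) ⊗[B] M))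
    (hd2 : ∀ m : Ideal B, m.IsMaximal → J.map (algebraMap A B) ≤ m →
      (m • (⊤ : Submodule B M)) ≠ ⊤) :
    Module.Flat A B := by
  have := flat_of_flat_of_flat_mod_nilpotent J hJ M hc2
  have : Module.FaithfullyFlat B M := by
    refine ⟨fun {m} hm => hd2 m hm ?_⟩
    obtain ⟨n, hn⟩ := hJ
    exact hm.isPrime.le_of_pow_le (n := n) (by rw [← Ideal.map_pow, hn, Ideal.zero_eq_bot, Ideal.map_bot]; exact bot_le)
  exact FlatCrit.flat_of_flat_of_faithfullyFlat (R := A) (S := B) (M := M)

theorem ker_le_range_of_mod_regular {B : Type u} [CommRing B] [IsNoetherianRing B] [IsLocalRing B]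
    {M N P : Type u} [AddCommGroup M] [Module B M] [AddCommGroup N] [Module B N] [Module.Finite B N]
    [AddCommGroup P] [Module B P] (u : M →ₗ[B] N) (v : N →ₗ[B] P) (huv : v ∘ₗ u = 0) (t : B)
    (ht : t ∈ IsLocalRing.maximalIdeal B) (hreg : IsSMulRegular P t)
    (hex : ∀ n : N, v n ∈ (Ideal.span {t} • ⊤ : Submodule B P) →
      ∃ m : M, n - u m ∈ (Ideal.span {t} • ⊤ : Submodule B N)) :
    LinearMap.ker v ≤ LinearMap.range u := by
  refine Submodule.le_of_le_smul_of_le_jacobson_bot (I := Ideal.span {t}) (IsNoetherian.noetherian _) ?_ ?_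
  · rw [IsLocalRing.jacobson_eq_maximalIdeal ⊥ bot_ne_top, Ideal.span_singleton_le_iff_mem]
    exact ht
  · intro n hn
    rw [LinearMap.mem_ker] at hn
    obtain ⟨m, hm⟩ := hex n (by rw [hn]; exact zero_mem _)
    rw [Submodule.ideal_span_singleton_smul, Submodule.mem_smul_pointwise_iff_exists] at hm
    obtain ⟨n', -, hn'⟩ := hm
    have hv : v n' = 0 := by
      apply hreg
      show t • v n' = t • (0 : P)
      rw [← map_smul, hn', map_sub, hn, ← LinearMap.comp_apply, huv, smul_zero]
      simp
    refine Submodule.mem_sup.2 ⟨u m, ⟨m, rfl⟩, t • n',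
      Submodule.smul_mem_smul (Ideal.mem_span_singleton_self t) hv, ?_⟩
    rw [hn']; abel

theorem eq_top_of_sup_smul_top {R : Type*} [CommRing R] {M : Type*} [AddCommGroup M] [Module R M]
    {I : Ideal R} (hI : IsNilpotent I) (N : Submodule R M) (h : N ⊔ I • ⊤ = ⊤) : N = ⊤ := by
  obtain ⟨n, hn⟩ := hI
  have key : ∀ n, N ⊔ I ^ n • ⊤ = ⊤ := by
    intro n
    induction n with
    | zero => simp
    | succ n ih =>
      rw [eq_top_iff]
      conv_lhs => rw [← h]
      refine sup_le le_sup_left ?_
      conv_lhs => rw [← ih]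
      rw [Submodule.smul_sup, ← Submodule.mul_smul, ← pow_succ']
      exact sup_le (le_sup_of_le_left Submodule.smul_le_right) le_sup_right
  simpa [hn] using key n

theorem free_of_free_baseChange_family {A : Type u} [CommRing A] (J : Ideal A) (hJ : IsNilpotent J)
    {ι : Type*} (B : ι → Type u) [∀ i, CommRing (B i)] [∀ i, Algebra A (B i)]
    (hB : ∀ a : A, (∀ i, algebraMap A (B i) a = 0) → a = 0)
    (M : Type u) [AddCommGroup M] [Module A M]
    (hfree : ∀ i, Module.Free (B i) (B i ⊗[A] M))
    (hfreeJ : Module.Free (A ⧸ J) ((A ⧸ J) ⊗[A] M)) :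
    Module.Free A M := by
  classical
  let κ := Module.Free.ChooseBasisIndex (A ⧸ J) ((A ⧸ J) ⊗[A] M)
  let b : Module.Basis κ (A ⧸ J) ((A ⧸ J) ⊗[A] M) := Module.Free.chooseBasis _ _
  choose v hv using fun j => TensorProduct.mk_surjective A M (A ⧸ J) Ideal.Quotient.mk_surjective (b j)
  let f : (κ →₀ A) →ₗ[A] M := Finsupp.linearCombination A v
  have hsurj : Function.Surjective f := by
    rw [← LinearMap.range_eq_top]
    refine eq_top_of_sup_smul_top hJ _ ?_
    rw [eq_top_iff]
    intro m _
    have hq : ∀ y : A ⧸ J, ∃ c : A, Ideal.Quotient.mk J c = y := Ideal.Quotient.mk_surjective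
    choose c hc using hq
    let r := b.repr ((1 : A ⧸ J) ⊗ₜ[A] m)
    refine Submodule.mem_sup.2 ⟨f (∑ j ∈ r.support, Finsupp.single j (c (r j))), ⟨_, rfl⟩,
      m - f (∑ j ∈ r.support, Finsupp.single j (c (r j))), ?_, by abel⟩
    rw [← Submodule.Quotient.mk_eq_zero, ← (TensorProduct.quotTensorEquivQuotSMul M J).symm.injective.eq_iff,
      map_zero, TensorProduct.quotTensorEquivQuotSMul_symm_mk, tmul_sub, sub_eq_zero, map_sum,
      tmul_sum]
    have hrepr := b.linearCombination_repr ((1 : A ⧸ J) ⊗ₜ[A] m)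
    rw [Finsupp.linearCombination_apply, Finsupp.sum] at hrepr
    refine hrepr.symm.trans (Finset.sum_congr rfl fun j _ => ?_)
    rw [Finsupp.linearCombination_single, tmul_smul, ← show (1 : A ⧸ J) ⊗ₜ[A] v j = b j from hv j]
    conv_lhs => rw [← hc (r j)]
    rw [← Ideal.Quotient.algebraMap_eq, algebraMap_smul]
  have key : ∀ i, Function.Injective
      (Finsupp.linearCombination (B i) (fun j => (1 : B i) ⊗ₜ[A] v j)) := by
    intro i
    set F := Finsupp.linearCombination (B i) (fun j => (1 : B i) ⊗ₜ[A] v j) with hF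
    let K : Ideal (B i) := J.map (algebraMap A (B i))
    have hFs : Function.Surjective F := by
      rw [← LinearMap.range_eq_top, eq_top_iff]
      intro y _
      induction y with
      | zero => exact zero_mem _
      | add p q hp hq => exact add_mem (hp trivial) (hq trivial)
      | tmul x m =>
        obtain ⟨cf, rfl⟩ := hsurj m
        rw [show x ⊗ₜ[A] f cf = x • ((1 : B i) ⊗ₜ[A] f cf) by rw [TensorProduct.smul_tmul', smul_eq_mul, mul_one]]
        refine Submodule.smul_mem _ x ?_
        simp only [f, Finsupp.linearCombination_apply, Finsupp.sum, tmul_sum, tmul_smul]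
        refine Submodule.sum_mem _ fun j _ => Submodule.smul_of_tower_mem _ _ ?_
        exact ⟨Finsupp.single j 1, by simp [hF]⟩
    have := hfree i
    obtain ⟨s, hs⟩ := Module.projective_lifting_property F LinearMap.id hFs
    have hkerK : ∀ x, F x = 0 → x ∈ K • (⊤ : Submodule (B i) (κ →₀ B i)) := by
      intro x hx
      let q : (A ⧸ J) →ₗ[A] B i ⧸ K :=
        Submodule.liftQ J (Algebra.linearMap A (B i ⧸ K)) (fun a ha => by
          show algebraMap A (B i ⧸ K) a = 0
          rw [IsScalarTower.algebraMap_apply A (B i) (B i ⧸ K), Ideal.Quotient.algebraMap_eq,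
            Ideal.Quotient.eq_zero_iff_mem]
          exact Ideal.mem_map_of_mem _ ha)
      have hxj : ∀ j, x j ∈ K := by
        intro j
        let hj : M →ₗ[A] A ⧸ J :=
          ((b.coord j).restrictScalars A) ∘ₗ TensorProduct.mk A (A ⧸ J) M 1
        have hd : (LinearMap.liftBaseChange (B i) (q ∘ₗ hj)) ∘ₗ F =
            (Submodule.mkQ K) ∘ₗ Finsupp.lapply j := by
          refine Finsupp.lhom_ext fun l y => ?_
          have hbl : hj (v l) = if l = j then 1 else 0 := by
            show b.coord j ((1 : A ⧸ J) ⊗ₜ[A] v l) = _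
            rw [show (1 : A ⧸ J) ⊗ₜ[A] v l = b l from hv l, Module.Basis.coord_apply, b.repr_self,
              Finsupp.single_apply]
          simp only [hF, LinearMap.comp_apply, Finsupp.linearCombination_single, map_smul,
            LinearMap.liftBaseChange_tmul, one_smul, hbl, Finsupp.lapply_apply,
            Finsupp.single_apply]
          split_ifs with h
          · rw [show q 1 = Ideal.Quotient.mk K 1 from map_one (algebraMap A (B i ⧸ K))]
            show Ideal.Quotient.mk K (y * 1) = Ideal.Quotient.mk K y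
            rw [mul_one]
          · simp
        have := LinearMap.congr_fun hd x
        rw [LinearMap.comp_apply, hx, map_zero] at this
        exact Ideal.Quotient.eq_zero_iff_mem.1 this.symm
      rw [← Finsupp.sum_single x]
      exact Submodule.sum_mem _ fun j _ => by
        rw [← Finsupp.smul_single_one]
        exact Submodule.smul_mem_smul (hxj j) trivial
    have hle : LinearMap.ker F ≤ K • LinearMap.ker F := by
      intro x hx
      rw [LinearMap.mem_ker] at hx
      let e : (κ →₀ B i) →ₗ[B i] (κ →₀ B i) := LinearMap.id - s ∘ₗ F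
      have hex' : e x = x := by simp [e, hx]
      have hrange : (⊤ : Submodule (B i) (κ →₀ B i)).map e ≤ LinearMap.ker F := by
        rintro _ ⟨z, -, rfl⟩
        have h2 : F (s (F z)) = F z := LinearMap.congr_fun hs (F z)
        simp [e, h2]
      have h1 := Submodule.mem_map_of_mem (f := e) (hkerK x hx)
      rw [Submodule.map_smul'', hex'] at h1
      exact Submodule.smul_mono le_rfl hrange h1
    rw [← LinearMap.ker_eq_bot, eq_bot_iff]
    obtain ⟨n, hn⟩ := hJ
    have hpow : ∀ n, LinearMap.ker F ≤ K ^ n • LinearMap.ker F := by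
      intro n
      induction n with
      | zero => simp
      | succ n ih =>
        rw [pow_succ, Submodule.mul_smul]
        exact ih.trans (Submodule.smul_mono le_rfl hle)
    refine (hpow n).trans ?_
    rw [← Ideal.map_pow, hn, Ideal.zero_eq_bot, Ideal.map_bot, Submodule.bot_smul]
  refine Module.Free.of_equiv (LinearEquiv.ofBijective f ⟨?_, hsurj⟩)
  refine (injective_iff_map_eq_zero f).2 fun c hc => Finsupp.ext fun j => hB _ fun i => ?_
  have h0 : Finsupp.linearCombination (B i) (fun j => (1 : B i) ⊗ₜ[A] v j)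
      (c.mapRange (algebraMap A (B i)) (map_zero _)) = (1 : B i) ⊗ₜ[A] f c := by
    simp only [f, Finsupp.linearCombination_apply]
    rw [Finsupp.sum_mapRange_index]
    · simp [Finsupp.sum, tmul_sum, tmul_smul, algebraMap_smul]
    · intro a
      exact zero_smul (B i) _
  rw [hc, tmul_zero] at h0
  have := DFunLike.congr_fun ((injective_iff_map_eq_zero _).1 (key i) _ h0) j
  simpa using this

end Groth.Agent.EGA43
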