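import Groth.Agent.EGA43.InjFibre.FlatLimit
import Groth.Agent.EGA43.InjFibre.FlatLimitGlobal
import Groth.Agent.H8Lim.NoetherianModel
import Groth.Agent.H8Lim.ModFPDescent
import Groth.Agent.H8Lim.BaseChange
import Groth.Prelude.Def_Coh

/-!
# EGA IV 11.2.7: Noetherian descent of flat modules
-/

set_option autoImplicit false
set_option backward.isDefEq.respectTransparency false

universe u

open CategoryTheory CategoryTheory.Limits AlgebraicGeometry TopologicalSpace Opposite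

namespace Groth.Agent.EGA43.FlatModelDescent

open Groth.Agent

theorem isFlatOverAt_comp_iso {X Y Y' : Scheme.{u}} (f : X ⟶ Y) (g : Y ⟶ Y') [IsIso g] (F : X.Modules)
    [Coh.IsQCoh F] (x : X) (h : FlatMod.IsFlatOverAt f F x) : FlatMod.IsFlatOverAt (f ≫ g) F x := by
  have H : IsPullback (𝟙 X) (f ≫ g) f (inv g) := IsPullback.of_horiz_isIso ⟨by simp⟩
  exact DvrCrit.isFlatOverAt_of_iso (f ≫ g) ((Scheme.Modules.pullbackId X).app F) x
    (FlatMorStrata.isFlatOverAt_baseChange H F x h)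

/-- A stage with a model of `X` and of `F`. -/
theorem exists_model {I : Type u} [SmallCategory I] [IsCofiltered I] {D : I ⥤ Scheme.{u}} {c : Cone D}
    [∀ {i j : I} (φ : i ⟶ j), IsAffineHom (D.map φ)] (hc : IsLimit c) {X : Scheme.{u}} (f : X ⟶ c.pt)
    (F : X.Modules) [Coh.IsQCoh F] (hF : CohB1.IsFP F)
    {j : I} {Z : Scheme.{u}} (h : Z ⟶ D.obj j) (q : X ⟶ Z) [hlfp : LocallyOfFinitePresentation h]
    [hqc : QuasiCompact h] [CompactSpace Z] [QuasiSeparatedSpace Z] (sq : IsPullback q f h (c.π.app j)) :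
    ∃ (k : I) (Xk : Scheme.{u}) (fk : Xk ⟶ D.obj k) (q : X ⟶ Xk)
      (Fk : Xk.Modules), LocallyOfFinitePresentation fk ∧ QuasiCompact fk ∧ Coh.IsQCoh Fk ∧ CohB1.IsFP Fk ∧
        IsPullback q f fk (c.π.app k) ∧
          Nonempty ((Scheme.Modules.pullback q).obj Fk ≅ F) := by
  let D' := H8Lim.stage D h
  let c' : Cone D' := H8Lim.stageCone h c q f sq
  have hc' : IsLimit c' := H8Lim.isLimitStageCone h q f sq hc
  haveI : ∀ {i i' : Over j} (g : i ⟶ i'), IsAffineHom (D'.map g) := fun g => inferInstance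
  haveI : CompactSpace (D'.obj (Over.mk (𝟙 j))) := H8Lim.compactSpace_stage D h _
  haveI : QuasiSeparatedSpace (D'.obj (Over.mk (𝟙 j))) := H8Lim.quasiSeparatedSpace_stage D h _
  obtain ⟨k, -, Fk, hq, hfp, he⟩ := H8Lim.exists_stage_fpModule hc' (i := Over.mk (𝟙 j)) F hF
  refine ⟨k.left, D'.obj k, H8Lim.stageSnd D h k, c'.π.app k, Fk,
    MorphismProperty.of_isPullback (P := @LocallyOfFinitePresentation.{u}) (H8Lim.isPullback_stage D h k) hlfp,
    MorphismProperty.of_isPullback (P := @QuasiCompact.{u}) (H8Lim.isPullback_stage D h k) hqc, hq, hfp, ?_, he⟩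
  refine IsPullback.of_right ?_ (H8Lim.stageProj_snd h c q f sq k) (H8Lim.isPullback_stage D h k)
  rw [show c'.π.app k = H8Lim.stageProj h c q f sq k from rfl, H8Lim.stageProj_fst, c.w]
  exact sq

variable {A : Type u} [CommRing A] {X : Scheme.{u}} (f : X ⟶ Spec (CommRingCat.of A))
  [LocallyOfFinitePresentation f] [QuasiCompact f] [QuasiSeparated f]
  (F : X.Modules) [Coh.IsQCoh F]

theorem exists_spec_model (hF : CohB1.IsFP F) :
    ∃ (k : (Finset A)ᵒᵖ) (Xk : Scheme.{u}) (fk : Xk ⟶ (H8Lim.fgSpecDiagram A).obj k) (q : X ⟶ Xk)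
      (Fk : Xk.Modules), LocallyOfFinitePresentation fk ∧ QuasiCompact fk ∧ Coh.IsQCoh Fk ∧ CohB1.IsFP Fk ∧
        IsPullback q f fk ((H8Lim.fgSpecCone A).π.app k) ∧
          Nonempty ((Scheme.Modules.pullback q).obj Fk ≅ F) := by
  obtain ⟨j, Z, h, q, hlfp, hqc, hqs, sq⟩ := H8Lim.exists_stage_spec f
  haveI : CompactSpace Z := QuasiCompact.compactSpace_of_compactSpace h
  haveI : QuasiSeparatedSpace Z := quasiSeparatedSpace_of_quasiSeparated h
  exact exists_model (H8Lim.isLimitFgSpecCone A) (f := f) F hF h q sq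

theorem exists_flatAt_model (hF : CohB1.IsFP F) (x : X) (hflat : FlatMod.IsFlatOverAt f F x) :
      ∃ (A₀ : Subalgebra ℤ A) (_ : A₀.FG) (X₀ : Scheme.{u}) (f₀ : X₀ ⟶ Spec (CommRingCat.of ↥A₀))
        (_ : LocallyOfFiniteType f₀) (_ : QuasiCompact f₀) (F₀ : X₀.Modules) (_ : Coh.IsCoh F₀) (q : X ⟶ X₀)
        (_ : IsPullback q f f₀ (Spec.map (CommRingCat.ofHom A₀.val.toRingHom)))
        (_ : (Scheme.Modules.pullback q).obj F₀ ≅ F),
        FlatMod.IsFlatOverAt f₀ F₀ (q x) := by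
  obtain ⟨k, Xk, fk, q, Fk, hlfp, hqc, hqk, hfpk, sq, ⟨eF⟩⟩ := exists_spec_model f F hF
  haveI : ∀ (i j : (Finset A)ᵒᵖ) (φ : i ⟶ j), IsAffineHom ((H8Lim.fgSpecDiagram A).map φ) :=
    fun _ _ _ => inferInstance
  obtain ⟨i, φ, Xi, Yi, fi, gi, pY, pX, vY, vX, hY, hX, hv1, hv2, hv3, hv4, hfl⟩ :=
    (InjFibre.isFlatOverAt_iff_exists_stage (g₀ := 𝟙 ((H8Lim.fgSpecDiagram A).obj k)) (f₀ := fk)
      (H8Lim.isLimitFgSpecCone A) Fk hfpk f (𝟙 (H8Lim.fgSpecCone A).pt) ((H8Lim.fgSpecCone A).π.app k) q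
      IsPullback.of_id_snd sq x).1 (DvrCrit.isFlatOverAt_of_iso f eF.symm x hflat)
  haveI : IsIso gi := hY.isIso_snd_of_isIso
  haveI := InjFibre.isQCoh_pullback pX Fk
  have hfpi := Desc19b.ModStFib.isFP_pullback pX Fk hfpk
  have hsq : IsPullback pX (fi ≫ gi) fk ((H8Lim.fgSpecDiagram A).map φ) := by
    simpa using hX.paste_vert hY
  haveI : LocallyOfFinitePresentation (fi ≫ gi) :=
    MorphismProperty.of_isPullback (P := @LocallyOfFinitePresentation.{u}) hsq hlfp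
  haveI : QuasiCompact (fi ≫ gi) := MorphismProperty.of_isPullback (P := @QuasiCompact.{u}) hsq hqc
  haveI : IsLocallyNoetherian ((H8Lim.fgSpecDiagram A).obj i) :=
    inferInstanceAs (IsLocallyNoetherian (Spec (CommRingCat.of (H8Lim.fgSub A i.unop))))
  haveI : IsLocallyNoetherian Xi := LocallyOfFiniteType.isLocallyNoetherian (fi ≫ gi)
  have hq' : IsPullback vX f (fi ≫ gi) ((H8Lim.fgSpecCone A).π.app i) := by
    refine IsPullback.of_right ?_ ?_ hsq
    · rw [hv3, (H8Lim.fgSpecCone A).w]; exact sq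
    · calc vX ≫ fi ≫ gi = (f ≫ vY) ≫ gi := by rw [← Category.assoc, hv4]
        _ = f ≫ 𝟙 (H8Lim.fgSpecCone A).pt ≫ (H8Lim.fgSpecCone A).π.app i := by rw [Category.assoc, hv2]
        _ = f ≫ (H8Lim.fgSpecCone A).π.app i := congrArg (fun z => f ≫ z) (Category.id_comp _)
  exact ⟨H8Lim.fgSub A i.unop, Subalgebra.fg_adjoin_finset _, Xi, fi ≫ gi, inferInstance, inferInstance,
    (Scheme.Modules.pullback pX).obj Fk, (Coherent.isCoh_iff_isFP _).2 hfpi, vX, hq',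
    (Scheme.Modules.pullbackComp vX pX).app Fk ≪≫ (Scheme.Modules.pullbackCongr hv3).app Fk ≪≫ eF,
    isFlatOverAt_comp_iso fi gi _ _ hfl⟩

theorem exists_flat_model (hF : CohB1.IsFP F) (hflat : FlatMod.IsFlatOver f F) :
      ∃ (A₀ : Subalgebra ℤ A) (_ : A₀.FG) (X₀ : Scheme.{u}) (f₀ : X₀ ⟶ Spec (CommRingCat.of ↥A₀))
        (_ : LocallyOfFiniteType f₀) (_ : QuasiCompact f₀) (F₀ : X₀.Modules) (_ : Coh.IsCoh F₀) (q : X ⟶ X₀)
        (_ : IsPullback q f f₀ (Spec.map (CommRingCat.ofHom A₀.val.toRingHom)))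
        (_ : (Scheme.Modules.pullback q).obj F₀ ≅ F),
        FlatMod.IsFlatOver f₀ F₀ := by
  obtain ⟨k, Xk, fk, q, Fk, hlfp, hqc, hqk, hfpk, sq, ⟨eF⟩⟩ := exists_spec_model f F hF
  haveI : ∀ (i j : (Finset A)ᵒᵖ) (φ : i ⟶ j), IsAffineHom ((H8Lim.fgSpecDiagram A).map φ) :=
    fun _ _ _ => inferInstance
  haveI : QuasiCompact (fk ≫ 𝟙 ((H8Lim.fgSpecDiagram A).obj k)) := by rwa [Category.comp_id]
  obtain ⟨i, φ, Xi, Yi, fi, gi, pY, pX, hY, hX, hfl⟩ :=
    (InjFibre.isFlatOver_iff_exists_stage (g₀ := 𝟙 ((H8Lim.fgSpecDiagram A).obj k)) (f₀ := fk)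
      (H8Lim.isLimitFgSpecCone A) Fk hfpk f (𝟙 (H8Lim.fgSpecCone A).pt) ((H8Lim.fgSpecCone A).π.app k) q
      IsPullback.of_id_snd sq).1 (fun x => DvrCrit.isFlatOverAt_of_iso f eF.symm x (hflat x))
  haveI : IsIso gi := hY.isIso_snd_of_isIso
  haveI := InjFibre.isQCoh_pullback pX Fk
  have hfpi := Desc19b.ModStFib.isFP_pullback pX Fk hfpk
  have hsq : IsPullback pX (fi ≫ gi) fk ((H8Lim.fgSpecDiagram A).map φ) := by
    simpa using hX.paste_vert hY
  haveI : LocallyOfFinitePresentation (fi ≫ gi) :=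
    MorphismProperty.of_isPullback (P := @LocallyOfFinitePresentation.{u}) hsq hlfp
  haveI : QuasiCompact (fi ≫ gi) := MorphismProperty.of_isPullback (P := @QuasiCompact.{u}) hsq hqc
  haveI : IsLocallyNoetherian ((H8Lim.fgSpecDiagram A).obj i) :=
    inferInstanceAs (IsLocallyNoetherian (Spec (CommRingCat.of (H8Lim.fgSub A i.unop))))
  haveI : IsLocallyNoetherian Xi := LocallyOfFiniteType.isLocallyNoetherian (fi ≫ gi)
  let vX : X ⟶ Xi := hsq.lift q (f ≫ (H8Lim.fgSpecCone A).π.app i) (by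
    rw [sq.w, Category.assoc, (H8Lim.fgSpecCone A).w])
  have hv3 : vX ≫ pX = q := hsq.lift_fst _ _ _
  have hq' : IsPullback vX f (fi ≫ gi) ((H8Lim.fgSpecCone A).π.app i) := by
    refine IsPullback.of_right ?_ (hsq.lift_snd _ _ _) hsq
    rw [hv3, (H8Lim.fgSpecCone A).w]; exact sq
  exact ⟨H8Lim.fgSub A i.unop, Subalgebra.fg_adjoin_finset _, Xi, fi ≫ gi, inferInstance, inferInstance,
    (Scheme.Modules.pullback pX).obj Fk, (Coherent.isCoh_iff_isFP _).2 hfpi, vX, hq',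
    (Scheme.Modules.pullbackComp vX pX).app Fk ≪≫ (Scheme.Modules.pullbackCongr hv3).app Fk ≪≫ eF,
    fun x => isFlatOverAt_comp_iso fi gi _ _ (hfl x)⟩

end Groth.Agent.EGA43.FlatModelDescent
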