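import Mathlib.RingTheory.Ideal.KrullsHeightTheorem
import Mathlib.RingTheory.Spectrum.Prime.Jacobson
import Mathlib.RingTheory.KrullDimension.Field
import Mathlib.RingTheory.Spectrum.Maximal.Basic
import Mathlib.RingTheory.Localization.Integral
import Mathlib.RingTheory.Localization.Away.Basic
import Mathlib.RingTheory.Localization.FractionRing
import Mathlib.RingTheory.FiniteType
import Mathlib.RingTheory.Jacobson.Ring
import Mathlib.RingTheory.Noetherian.Basic
import Mathlib.RingTheory.IntegralClosure.IsIntegralClosure.Basic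
import Mathlib.RingTheory.Ideal.GoingUp
import Mathlib.RingTheory.Localization.InvSubmonoid
import Mathlib.RingTheory.Spectrum.Prime.RingHom

/-!
# Domains with open generic point (G-domains)
-/

universe u

set_option autoImplicit false

open Set Topology PrimeSpectrum

namespace Groth.Agent.EGA43

variable {R : Type*} [CommRing R]

def IsG (B : Type*) [CommRing B] : Prop :=
  ∃ f : B, f ≠ 0 ∧ ∀ q : Ideal B, q.IsPrime → q ≠ ⊥ → f ∈ q

theorem isField_away_iff (B : Type*) [CommRing B] [IsDomain B] {f : B} (hf : f ≠ 0) :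
    IsField (Localization.Away f) ↔ ∀ q : Ideal B, q.IsPrime → q ≠ ⊥ → f ∈ q := by
  have hle : Submonoid.powers f ≤ nonZeroDivisors B :=
    powers_le_nonZeroDivisors_of_noZeroDivisors hf
  have : IsDomain (Localization.Away f) := IsLocalization.isDomain_of_le_nonZeroDivisors _ hle
  have hinj : Function.Injective (algebraMap B (Localization.Away f)) :=
    IsLocalization.injective _ hle
  constructor
  · intro h q hq hq0
    by_contra hfq
    have hd : Disjoint (Submonoid.powers f : Set B) q := by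
      rw [Set.disjoint_left]
      rintro _ ⟨n, rfl⟩ hn
      exact hfq (hq.mem_of_pow_mem n hn)
    have hP := IsLocalization.isPrime_of_isPrime_disjoint (Submonoid.powers f)
      (Localization.Away f) q hq hd
    let := h.toField
    have hbot : Ideal.map (algebraMap B (Localization.Away f)) q = ⊥ :=
      (Ideal.eq_bot_or_top _).resolve_right hP.ne_top
    exact hq0 ((Ideal.map_eq_bot_iff_of_injective hinj).1 hbot)
  · intro h
    by_contra hF
    obtain ⟨P, hP0, hP⟩ := Ring.not_isField_iff_exists_prime.1 hF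
    have hd := ((IsLocalization.isPrime_iff_isPrime_disjoint (Submonoid.powers f)
      (Localization.Away f) P).1 hP)
    refine Set.disjoint_left.1 hd.2 ⟨1, pow_one f⟩ (h _ hd.1 fun hbot => hP0 ?_)
    rw [← IsLocalization.map_under (Submonoid.powers f) (Localization.Away f) P, hbot,
      Ideal.map_bot]

theorem isG_iff_exists_isField_away (B : Type*) [CommRing B] [IsDomain B] :
    IsG B ↔ ∃ f : B, f ≠ 0 ∧ IsField (Localization.Away f) :=
  exists_congr fun _ => ⟨fun h => ⟨h.1, (isField_away_iff B h.1).2 h.2⟩,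
    fun h => ⟨h.1, (isField_away_iff B h.1).1 h.2⟩⟩

theorem isG_iff_isOpen (B : Type*) [CommRing B] [IsDomain B] :
    IsG B ↔ IsOpen ({⟨⊥, Ideal.isPrime_bot⟩} : Set (PrimeSpectrum B)) := by
  constructor
  · rintro ⟨f, hf, h⟩
    convert (PrimeSpectrum.basicOpen f).isOpen
    ext q
    simp only [mem_singleton_iff, SetLike.mem_coe, PrimeSpectrum.mem_basicOpen]
    refine ⟨?_, fun hq => ?_⟩
    · rintro rfl
      simpa using hf
    · by_contra hne
      exact hq (h _ q.2 fun e => hne (PrimeSpectrum.ext e))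
  · intro ho
    obtain ⟨-, ⟨f, rfl⟩, hf, hsub⟩ :=
      PrimeSpectrum.isTopologicalBasis_basic_opens.exists_subset_of_mem_open (mem_singleton _) ho
    refine ⟨f, fun h0 => hf (by simp [h0]), fun q hq hq0 => ?_⟩
    by_contra hfq
    exact hq0 (congrArg PrimeSpectrum.asIdeal (hsub (a := ⟨q, hq⟩) hfq))

theorem isG_of_finite (B : Type*) [CommRing B] [IsDomain B] [Finite (PrimeSpectrum B)] :
    IsG B := by
  classical
  have := Fintype.ofFinite (PrimeSpectrum B)
  have hex : ∀ q : PrimeSpectrum B, ∃ a : B, a ≠ 0 ∧ (q.asIdeal ≠ ⊥ → a ∈ q.asIdeal) := by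
    intro q
    by_cases hq : q.asIdeal = ⊥
    · exact ⟨1, one_ne_zero, fun h => absurd hq h⟩
    · obtain ⟨a, ha, ha0⟩ := Submodule.exists_mem_ne_zero_of_ne_bot hq
      exact ⟨a, ha0, fun _ => ha⟩
  choose a ha0 ha using hex
  refine ⟨∏ q : PrimeSpectrum B, a q, Finset.prod_ne_zero_iff.2 fun q _ => ha0 q,
    fun q hq hq0 => ?_⟩
  rw [← Finset.mul_prod_erase _ _ (Finset.mem_univ (⟨q, hq⟩ : PrimeSpectrum B))]
  exact q.mul_mem_right _ (ha ⟨q, hq⟩ hq0)

section Noetherian

variable (B : Type*) [CommRing B] [IsDomain B] [IsNoetherianRing B]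

theorem height_le_one_of_isG {f : B} (hf : f ≠ 0)
    (h : ∀ q : Ideal B, q.IsPrime → q ≠ ⊥ → f ∈ q) (Q : Ideal B) [hQ : Q.IsPrime] (hQ0 : Q ≠ ⊥) :
    Q ∈ (Ideal.span {f}).minimalPrimes := by
  classical
  let S : Set (Ideal B) := (Ideal.span {f}).minimalPrimes
  have hS : S.Finite := Ideal.finite_minimalPrimes_of_isNoetherianRing B _
  by_contra hQS
  have hfQ : Ideal.span {f} ≤ Q := (Ideal.span_singleton_le_iff_mem Q).2 (h Q hQ hQ0)
  have hnot : ¬ ((Q : Set B) ⊆ ⋃ p ∈ (↑hS.toFinset : Set (Ideal B)), (p : Set B)) := by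
    intro hsub
    obtain ⟨p, hp, hQp⟩ := (Ideal.subset_union_prime (s := hS.toFinset) (f := fun p => p) ⊥ ⊥
      (fun p hp _ _ => (hS.mem_toFinset.1 hp).isPrime)).1 hsub
    have hpS := hS.mem_toFinset.1 hp
    obtain ⟨p', hp', hle⟩ := Ideal.exists_minimalPrimes_le hfQ
    have hp'p : p ≤ p' := hpS.2 ⟨hp'.isPrime, hp'.le⟩ (hle.trans hQp)
    exact hQS (le_antisymm hQp (hp'p.trans hle) ▸ hpS)
  obtain ⟨g, hgQ, hg⟩ := Set.not_subset.1 hnot
  have hg0 : g ≠ 0 := by
    rintro rfl
    obtain ⟨p, hp, -⟩ := Ideal.exists_minimalPrimes_le hfQ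
    exact hg (Set.mem_iUnion₂.2 ⟨p, hS.mem_toFinset.2 hp, p.zero_mem⟩)
  obtain ⟨q, hq, hqQ⟩ := Ideal.exists_minimalPrimes_le
    ((Ideal.span_singleton_le_iff_mem Q).2 hgQ)
  have := hq.isPrime
  have hgq : g ∈ q := hq.le (Ideal.mem_span_singleton_self g)
  have hq0 : q ≠ ⊥ := fun e => hg0 (by simpa [e] using hgq)
  obtain ⟨p, hp, hpq⟩ := Ideal.exists_minimalPrimes_le
    ((Ideal.span_singleton_le_iff_mem q).2 (h q hq.isPrime hq0))
  have := hp.isPrime
  have hp0 : p ≠ ⊥ := fun e => hf (by simpa [e] using hp.le (Ideal.mem_span_singleton_self f))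
  have hqh := Ideal.height_le_one_of_isPrincipal_of_mem_minimalPrimes (Ideal.span {g}) q hq
  rcases hpq.lt_or_eq with hlt | rfl
  · have h1 : (⊥ : Ideal B).height < p.height :=
      Ideal.height_strict_mono_of_isPrime_of_isPrime (bot_lt_iff_ne_bot.2 hp0)
    have h2 : p.height < q.height := Ideal.height_strict_mono_of_isPrime_of_isPrime hlt
    rw [Ideal.height_bot] at h1
    exact (lt_of_lt_of_le (lt_of_le_of_lt (Order.one_le_iff_pos.2 h1) h2) hqh).false
  · exact hg (Set.mem_iUnion₂.2 ⟨p, hS.mem_toFinset.2 hp, hgq⟩)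

theorem finite_of_isG (h : IsG B) : Finite (PrimeSpectrum B) := by
  obtain ⟨f, hf, h⟩ := h
  let T : Set (Ideal B) := insert ⊥ (Ideal.span {f}).minimalPrimes
  have hT : T.Finite := (Ideal.finite_minimalPrimes_of_isNoetherianRing B _).insert _
  have : Finite T := hT
  refine Finite.of_injective (fun q : PrimeSpectrum B => (⟨q.asIdeal, ?_⟩ : T))
    fun q q' e => PrimeSpectrum.ext (congrArg Subtype.val e)
  by_cases hq0 : q.asIdeal = ⊥
  · exact Or.inl hq0
  · exact Or.inr (height_le_one_of_isG B hf h _ hq0)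

theorem not_lt_of_isG (h : IsG B) {q r : Ideal B} [q.IsPrime] [r.IsPrime] (hq : q ≠ ⊥) :
    ¬ q < r := by
  obtain ⟨f, hf, h⟩ := h
  intro hlt
  have hr : r ≠ ⊥ := fun e => not_lt_bot (e ▸ hlt)
  have hqm := height_le_one_of_isG B hf h q hq
  have hrm := height_le_one_of_isG B hf h r hr
  exact hlt.not_ge (hrm.2 ⟨inferInstance, hqm.le⟩ hlt.le)

omit [IsNoetherianRing B] in
theorem ringKrullDim_le_one_iff :
    ringKrullDim B ≤ 1 ↔ ∀ q r : Ideal B, q.IsPrime → r.IsPrime → q ≠ ⊥ → ¬ q < r := by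
  rw [ringKrullDim, Order.krullDim_le_one_iff]
  constructor
  · intro h q r hq hr hq0 hlt
    rcases h ⟨q, hq⟩ with hmin | hmax
    · exact hq0 (le_bot_iff.1 (hmin (b := ⟨⊥, Ideal.isPrime_bot⟩) bot_le))
    · exact hlt.not_ge (hmax (b := ⟨r, hr⟩) hlt.le)
  · intro h q
    by_cases hq0 : q.asIdeal = ⊥
    · exact Or.inl fun b _ => by
        show q.asIdeal ≤ b.asIdeal
        rw [hq0]; exact bot_le
    · refine Or.inr fun b hb => ?_
      have hb' : q.asIdeal ≤ b.asIdeal := hb
      show b.asIdeal ≤ q.asIdeal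
      exact (hb'.lt_or_eq.resolve_left (h _ _ q.2 b.2 hq0)).ge

theorem isG_iff_semilocal :
    IsG B ↔ Finite (MaximalSpectrum B) ∧ ringKrullDim B ≤ 1 := by
  refine ⟨fun h => ⟨?_, ?_⟩, fun ⟨hfin, hdim⟩ => ?_⟩
  · have := finite_of_isG B h
    exact Finite.of_injective _ MaximalSpectrum.toPrimeSpectrum_injective
  · exact (ringKrullDim_le_one_iff B).2 fun q r _ _ hq0 => not_lt_of_isG B h hq0
  · rw [ringKrullDim_le_one_iff] at hdim
    have : Finite (PrimeSpectrum B) := by
      classical
      refine Finite.of_injective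
        (fun q : PrimeSpectrum B => if hq : q.asIdeal = ⊥ then none else
          some (⟨q.asIdeal, ?_⟩ : MaximalSpectrum B)) ?_
      · obtain ⟨m, hm, hqm⟩ := Ideal.exists_le_maximal _ q.2.ne_top
        rwa [hqm.lt_or_eq.resolve_left (hdim _ _ q.2 hm.isPrime hq)]
      · intro q q' e
        apply PrimeSpectrum.ext
        simp only at e
        split_ifs at e with h1 h2 h2
        · rw [h1, h2]
        · exact congrArg MaximalSpectrum.asIdeal (Option.some.inj e)
    exact isG_of_finite B

end Noetherian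

theorem isG_quotient_of_isLocallyClosed {p : PrimeSpectrum R}
    (h : IsLocallyClosed ({p} : Set (PrimeSpectrum R))) : IsG (R ⧸ p.asIdeal) := by
  rw [isG_iff_isOpen]
  obtain ⟨U, F, hU, hF, e⟩ := h
  have hpU : p ∈ U := (e.le rfl).1
  have hpF : p ∈ F := (e.le rfl).2
  have hc : ∀ x : PrimeSpectrum (R ⧸ p.asIdeal),
      p ≤ PrimeSpectrum.comap (Ideal.Quotient.mk p.asIdeal) x := by
    intro x a ha
    show Ideal.Quotient.mk p.asIdeal a ∈ x.asIdeal
    rw [Ideal.Quotient.eq_zero_iff_mem.2 ha]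
    exact zero_mem _
  convert hU.preimage (PrimeSpectrum.continuous_comap (Ideal.Quotient.mk p.asIdeal))
  ext x
  simp only [mem_singleton_iff, mem_preimage]
  refine ⟨?_, fun hx => ?_⟩
  · rintro rfl
    convert hpU
    apply PrimeSpectrum.ext
    exact Ideal.mk_ker
  · have hxF : PrimeSpectrum.comap (Ideal.Quotient.mk p.asIdeal) x ∈ F :=
      ((PrimeSpectrum.le_iff_specializes _ _).1 (hc x)).mem_closed hF hpF
    have hxe : PrimeSpectrum.comap (Ideal.Quotient.mk p.asIdeal) x = p := e.ge ⟨hx, hxF⟩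
    apply PrimeSpectrum.comap_injective_of_surjective _ Ideal.Quotient.mk_surjective
    rw [hxe]
    exact PrimeSpectrum.ext Ideal.mk_ker.symm

theorem finite_zeroLocus_of_isLocallyClosed [IsNoetherianRing R] {p : PrimeSpectrum R}
    (h : IsLocallyClosed ({p} : Set (PrimeSpectrum R))) :
    (zeroLocus (p.asIdeal : Set R)).Finite := by
  have := finite_of_isG _ (isG_quotient_of_isLocallyClosed h)
  refine Set.Finite.subset (Set.finite_range (PrimeSpectrum.comap (Ideal.Quotient.mk p.asIdeal))) ?_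
  rw [_root_.range_comap_of_surjective (f := Ideal.Quotient.mk p.asIdeal) (hf := Ideal.Quotient.mk_surjective), Ideal.mk_ker]

theorem not_lt_lt_of_isLocallyClosed [IsNoetherianRing R] {p q r : PrimeSpectrum R}
    (h : IsLocallyClosed ({p} : Set (PrimeSpectrum R))) (hpq : p < q) : ¬ q < r := by
  intro hqr
  have hG := isG_quotient_of_isLocallyClosed h
  have hm : ∀ s : PrimeSpectrum R, p ≤ s →
      (s.asIdeal.map (Ideal.Quotient.mk p.asIdeal)).IsPrime ∧
      (s.asIdeal.map (Ideal.Quotient.mk p.asIdeal)).comap (Ideal.Quotient.mk p.asIdeal) = s.asIdeal :=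
    fun s hs => ⟨Ideal.map_isPrime_of_surjective Ideal.Quotient.mk_surjective
        (by rw [Ideal.mk_ker]; exact hs),
      by rw [Ideal.comap_map_of_surjective _ Ideal.Quotient.mk_surjective,
           ← RingHom.ker_eq_comap_bot, Ideal.mk_ker, sup_eq_left]; exact hs⟩
  obtain ⟨hq, hq'⟩ := hm q hpq.le
  obtain ⟨hr, hr'⟩ := hm r (hpq.trans hqr).le
  refine not_lt_of_isG _ hG (q := q.asIdeal.map (Ideal.Quotient.mk p.asIdeal))
    (r := r.asIdeal.map (Ideal.Quotient.mk p.asIdeal)) (fun e => ?_)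
    (lt_of_le_of_ne (Ideal.map_mono hqr.le) fun e => hqr.ne (PrimeSpectrum.ext ?_))
  · rw [e, ← RingHom.ker_eq_comap_bot, Ideal.mk_ker] at hq'
    exact hpq.ne (PrimeSpectrum.ext hq')
  · rw [← hq', ← hr', e]

theorem exists_maximal_not_mem (B : Type*) [CommRing B] {x : B} (hx : ¬ IsNilpotent x) :
    ∃ q : Ideal B, q.IsPrime ∧ x ∉ q ∧ ∀ q' : Ideal B, q'.IsPrime → q < q' → x ∈ q' := by
  have : Nontrivial (Localization.Away x) := by
    by_contra hn
    rw [not_nontrivial_iff_subsingleton] at hn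
    obtain ⟨n, hn⟩ := (IsLocalization.subsingleton_iff (M := Submonoid.powers x)
      (S := Localization.Away x)).1 hn
    exact hx ⟨n, hn⟩
  obtain ⟨m, hm⟩ := Ideal.exists_maximal (Localization.Away x)
  have hd := (IsLocalization.isPrime_iff_isPrime_disjoint (Submonoid.powers x)
      (Localization.Away x) m).1 hm.isPrime
  refine ⟨_, hd.1, fun hxm => Set.disjoint_left.1 hd.2 ⟨1, pow_one x⟩ hxm, fun q' hq' hlt => ?_⟩
  by_contra hxq
  have hd' : Disjoint (Submonoid.powers x : Set B) q' := by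
    rw [Set.disjoint_left]
    rintro _ ⟨n, rfl⟩ hn
    exact hxq (hq'.mem_of_pow_mem n hn)
  have hP := IsLocalization.isPrime_of_isPrime_disjoint (Submonoid.powers x)
      (Localization.Away x) q' hq' hd'
  have hle : m ≤ Ideal.map (algebraMap B (Localization.Away x)) q' := by
    rw [← IsLocalization.map_under (Submonoid.powers x) (Localization.Away x) m]
    exact Ideal.map_mono hlt.le
  have heq := hm.eq_of_le hP.ne_top hle
  rw [heq, IsLocalization.under_map_of_isPrime_disjoint _ _ hq' hd'] at hlt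
  exact hlt.false

theorem isJacobsonRing_of_forall_isG
    (h : ∀ (p : Ideal R) [p.IsPrime], IsG (R ⧸ p) → p.IsMaximal) : IsJacobsonRing R := by
  rw [isJacobsonRing_iff_prime_eq]
  intro P hP
  refine le_antisymm (fun x hx => ?_) Ideal.le_jacobson
  by_contra hxP
  have hn : ¬ IsNilpotent (Ideal.Quotient.mk P x) := by
    rintro ⟨n, hn⟩
    rw [← map_pow, Ideal.Quotient.eq_zero_iff_mem] at hn
    exact hxP (hP.mem_of_pow_mem n hn)
  obtain ⟨q, hq, hxq, hmax⟩ := exists_maximal_not_mem (R ⧸ P) hn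
  have := hq
  let q₀ : Ideal R := q.comap (Ideal.Quotient.mk P)
  have hG : IsG (R ⧸ q₀) := by
    refine ⟨Ideal.Quotient.mk q₀ x, fun e => hxq (Ideal.Quotient.eq_zero_iff_mem.1 e :),
      fun s hs hs0 => ?_⟩
    let s₀ : Ideal R := s.comap (Ideal.Quotient.mk q₀)
    have hq₀s : q₀ ≤ s₀ := fun a ha => by
      show Ideal.Quotient.mk q₀ a ∈ s
      rw [Ideal.Quotient.eq_zero_iff_mem.2 ha]
      exact zero_mem _
    have hPq : P ≤ q₀ := fun a ha => by
      show Ideal.Quotient.mk P a ∈ q
      rw [Ideal.Quotient.eq_zero_iff_mem.2 ha]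
      exact zero_mem _
    have hne : q₀ ≠ s₀ := fun e => hs0 (by
      rw [eq_bot_iff]
      intro b hb
      obtain ⟨a, rfl⟩ := Ideal.Quotient.mk_surjective b
      exact Ideal.Quotient.eq_zero_iff_mem.2 (e.ge hb))
    have hs₀ : (s₀.map (Ideal.Quotient.mk P)).IsPrime :=
      Ideal.map_isPrime_of_surjective Ideal.Quotient.mk_surjective
        (by rw [Ideal.mk_ker]; exact hPq.trans hq₀s)
    have hback : (s₀.map (Ideal.Quotient.mk P)).comap (Ideal.Quotient.mk P) = s₀ := by
      rw [Ideal.comap_map_of_surjective _ Ideal.Quotient.mk_surjective,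
        ← RingHom.ker_eq_comap_bot, Ideal.mk_ker, sup_eq_left]
      exact hPq.trans hq₀s
    have hle : q ≤ s₀.map (Ideal.Quotient.mk P) :=
      (Ideal.map_comap_of_surjective _ Ideal.Quotient.mk_surjective q).ge.trans (Ideal.map_mono hq₀s)
    have := hmax _ hs₀ (lt_of_le_of_ne hle fun e => hne (by rw [← hback, ← e]))
    exact (hback.le (show x ∈ (s₀.map (Ideal.Quotient.mk P)).comap (Ideal.Quotient.mk P) from this) :)
  refine hxq (?_ : x ∈ q₀)
  exact (Ideal.mem_sInf.1 hx) ⟨fun a ha => by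
    show Ideal.Quotient.mk P a ∈ q
    rw [Ideal.Quotient.eq_zero_iff_mem.2 ha]
    exact zero_mem _, h q₀ hG⟩

theorem finiteType_fractionRing_of_isG (B : Type*) [CommRing B] [IsDomain B] (h : IsG B) :
    Algebra.FiniteType B (FractionRing B) := by
  obtain ⟨f, hf, h⟩ := (isG_iff_exists_isField_away B).1 h
  let φ : Localization.Away f →ₐ[B] FractionRing B :=
    IsLocalization.liftAlgHom (M := Submonoid.powers f) (f := Algebra.ofId B (FractionRing B))
      (fun y => IsLocalization.map_units (M := nonZeroDivisors B) (FractionRing B)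
        ⟨y.1, powers_le_nonZeroDivisors_of_noZeroDivisors hf y.2⟩)
  have : Algebra.FiniteType B (Localization.Away f) :=
    IsLocalization.finiteType_of_monoid_fg (Submonoid.powers f) (Localization.Away f)
  refine Algebra.FiniteType.of_surjective φ fun z => ?_
  obtain ⟨a, s, hs, rfl⟩ := IsFractionRing.div_surjective B z
  let := h.toField
  exact ⟨algebraMap B (Localization.Away f) a / algebraMap B (Localization.Away f) s, by
    rw [map_div₀, AlgHom.commutes, AlgHom.commutes]⟩

theorem isG_of_finiteType_field (B : Type*) [CommRing B] [IsDomain B] (K : Type*) [Field K]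
    [Algebra B K] (hinj : Function.Injective (algebraMap B K)) [Algebra.FiniteType B K] :
    IsG B := by
  classical
  have : FaithfulSMul B K := (faithfulSMul_iff_algebraMap_injective B K).2 hinj
  let : Algebra (FractionRing B) K := FractionRing.liftAlgebra B K
  have : IsScalarTower B (FractionRing B) K := inferInstance
  have : Algebra.FiniteType (FractionRing B) K :=
    Algebra.FiniteType.of_restrictScalars_finiteType B (FractionRing B) K
  have : Module.Finite (FractionRing B) K := finite_of_finite_type_of_isJacobsonRing _ _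
  obtain ⟨s, hs⟩ := (‹Algebra.FiniteType B K›).out
  have hm : ∀ x : K, ∃ m : nonZeroDivisors B, IsIntegral B (m • x) := fun x =>
    IsIntegral.exists_multiple_integral_of_isLocalization (nonZeroDivisors B) (Rₘ := FractionRing B) x
      (Algebra.IsIntegral.isIntegral x)
  choose m hm using hm
  let f : B := ∏ x ∈ s, (m x : B)
  refine ⟨f, Finset.prod_ne_zero_iff.2 fun x _ => nonZeroDivisors.ne_zero (m x).2, ?_⟩
  have key : ∀ y : K, ∃ n : ℕ, IsIntegral B (f ^ n • y) := by
    intro y
    have hy : y ∈ Algebra.adjoin B (s : Set K) := hs ▸ Algebra.mem_top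
    induction hy using Algebra.adjoin_induction with
    | mem x hx =>
      refine ⟨1, ?_⟩
      rw [pow_one, show f = (∏ z ∈ s.erase x, (m z : B)) * (m x : B) from
        (Finset.prod_erase_mul s _ hx).symm, mul_smul]
      exact (hm x).smul _
    | algebraMap r => exact ⟨0, by simpa using isIntegral_algebraMap⟩
    | add a b _ _ ha hb =>
      obtain ⟨i, hi⟩ := ha
      obtain ⟨j, hj⟩ := hb
      refine ⟨i + j, ?_⟩
      rw [smul_add]
      refine IsIntegral.add ?_ ?_
      · rw [pow_add, mul_comm, mul_smul]; exact hi.smul _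
      · rw [pow_add, mul_smul]; exact hj.smul _
    | mul a b _ _ ha hb =>
      obtain ⟨i, hi⟩ := ha
      obtain ⟨j, hj⟩ := hb
      refine ⟨i + j, ?_⟩
      rw [pow_add, ← smul_mul_smul_comm]
      exact hi.mul hj
  intro p hp hp0
  obtain ⟨a, hap, ha0⟩ := Submodule.exists_mem_ne_zero_of_ne_bot hp0
  obtain ⟨n, hn⟩ := key (algebraMap B K a)⁻¹
  have : FaithfulSMul B (integralClosure B K) := by
    rw [faithfulSMul_iff_algebraMap_injective]
    exact fun x y e => hinj (congrArg Subtype.val e)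
  obtain ⟨P, -, hP, hPp'⟩ := Ideal.exists_ideal_over_prime_of_isIntegral p
    (⊥ : Ideal (integralClosure B K)) (fun x hx => by
      rw [Ideal.mem_comap, Ideal.mem_bot] at hx
      have := hinj ((congrArg Subtype.val hx).trans (map_zero (algebraMap B K)).symm)
      rw [this]
      exact zero_mem _)
  refine hp.mem_of_pow_mem n ?_
  rw [← hPp', Ideal.mem_comap]
  have e : algebraMap B (integralClosure B K) (f ^ n) =
      algebraMap B (integralClosure B K) a * ⟨_, hn⟩ := by
    apply Subtype.ext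
    show algebraMap B K (f ^ n) = algebraMap B K a * (f ^ n • (algebraMap B K a)⁻¹)
    rw [Algebra.smul_def, mul_comm (algebraMap B K (f ^ n)), ← mul_assoc,
      mul_inv_cancel₀ (by simpa using hinj.ne (a₂ := 0) ha0), one_mul]
  rw [e]
  exact P.mul_mem_right _ (show a ∈ P.comap (algebraMap B (integralClosure B K)) from hPp'.symm ▸ hap)

theorem isMaximal_of_isG [IsJacobsonRing R] (p : Ideal R) [p.IsPrime] (h : IsG (R ⧸ p)) :
    p.IsMaximal := by
  refine Ideal.Quotient.maximal_of_isField _ ?_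
  by_contra hF
  have : Algebra.FiniteType (R ⧸ p) (FractionRing (R ⧸ p)) := finiteType_fractionRing_of_isG _ h
  have : Module.Finite (R ⧸ p) (FractionRing (R ⧸ p)) :=
    finite_of_finite_type_of_isJacobsonRing _ _
  exact hF (isField_of_isIntegral_of_isField (IsFractionRing.injective (R ⧸ p) (FractionRing (R ⧸ p)))
    (Field.toIsField _))

end Groth.Agent.EGA43
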