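import Groth.Agent.Schless.Limit
import Groth.Agent.CAlgH.NagataComplete
import Groth.Agent.HenselLib.Olivier
import Groth.Agent.HenselLib.Perm
import Groth.Agent.S0568
import Mathlib

/-! Complete reduced local rings are approximated by curves -/

set_option autoImplicit false
set_option backward.isDefEq.respectTransparency false
set_option linter.style.haveILetI false

universe u

open IsLocalRing

namespace Groth.Agent.EGA43.CurveApprox

variable {A : Type u} [CommRing A] [IsNoetherianRing A] [IsLocalRing A]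

/-- Primes of coheight one. -/
def IsCurve (P : Ideal A) : Prop :=
  P.IsPrime ∧ P ≠ maximalIdeal A ∧ ∀ Q : Ideal A, Q.IsPrime → P ≤ Q → Q = P ∨ Q = maximalIdeal A

theorem exists_isCurve_notMem [IsReduced A] (hA : ¬ IsField A) {x : A} (hx : x ≠ 0) :
    ∃ P : Ideal A, IsCurve P ∧ x ∉ P := by
  obtain ⟨y, hy, hxy⟩ : ∃ y ∈ maximalIdeal A, x * y ≠ 0 := by
    by_cases hu : IsUnit x
    · obtain ⟨y, hy, hy0⟩ := (maximalIdeal A).ne_bot_iff.1 ((isField_iff_maximalIdeal_eq).not.mp hA)
      exact ⟨y, hy, by rwa [Ne, hu.mul_right_eq_zero]⟩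
    · refine ⟨x, (mem_maximalIdeal x).2 hu, fun h => hx ?_⟩
      exact IsReduced.eq_zero x ⟨2, by rw [sq, h]⟩
  set z := x * y with hz
  obtain ⟨P₀, hP₀, hzP₀⟩ : ∃ P : Ideal A, P.IsPrime ∧ z ∉ P := by
    by_contra h
    push Not at h
    exact hxy ((isNilpotent_iff_eq_zero (x := z)).1 (nilpotent_iff_mem_prime.2 fun P hP => h P hP))
  obtain ⟨P, ⟨hP, hzP⟩, hmax⟩ := set_has_maximal_iff_noetherian.2 ‹IsNoetherian A A›
    {P : Ideal A | P.IsPrime ∧ z ∉ P} ⟨P₀, hP₀, hzP₀⟩
  have hzm : z ∈ maximalIdeal A := Ideal.mul_mem_left _ _ hy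
  have hPm : P ≠ maximalIdeal A := fun h => hzP (h ▸ hzm)
  refine ⟨P, ⟨hP, hPm, fun Q hQ hPQ => ?_⟩, fun h => hzP (Ideal.mul_mem_right _ _ h)⟩
  by_contra hn
  push Not at hn
  haveI := hP
  haveI := hQ
  let R := A ⧸ P
  let q := Ideal.Quotient.mk P
  let w : R := q z
  have hw : w ≠ 0 := fun h => hzP (Ideal.Quotient.eq_zero_iff_mem.1 h)
  have hall : ∀ J : Ideal R, J.IsPrime → J ≠ ⊥ → w ∈ J := by
    intro J hJ hJ0
    by_contra hwJ
    have h1 : P ≤ J.comap q := fun a ha => by
      show q a ∈ J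
      rw [Ideal.Quotient.eq_zero_iff_mem.2 ha]; exact J.zero_mem
    refine hmax (J.comap q) ⟨inferInstance, hwJ⟩ (lt_of_le_of_ne h1 fun h => hJ0 ?_)
    rw [← Ideal.map_comap_of_surjective q Ideal.Quotient.mk_surjective J, ← h, Ideal.map_quotient_self]
  let s : Set (Ideal R) := (Ideal.span {w}).minimalPrimes
  have hs : s.Finite := Ideal.finite_minimalPrimes_of_isNoetherianRing R _
  let M : Ideal R := (maximalIdeal A).map q
  haveI hM : M.IsPrime := Ideal.map_isPrime_of_surjective Ideal.Quotient.mk_surjective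
    (by rw [Ideal.mk_ker]; exact le_maximalIdeal hP.ne_top)
  have hcov : (M : Set R) ⊆ ⋃ J ∈ (↑hs.toFinset : Set (Ideal R)), ((fun J => J) J : Set R) := by
    intro v hv
    rw [Set.Finite.coe_toFinset]
    by_cases hv0 : v = 0
    · obtain ⟨J, hJ, -⟩ := Ideal.exists_minimalPrimes_le (I := Ideal.span {w}) (J := M)
        (by rw [Ideal.span_singleton_le_iff_mem]; exact Ideal.mem_map_of_mem q hzm)
      exact Set.mem_biUnion hJ (by rw [hv0]; exact J.zero_mem)
    obtain ⟨J, hJ, -⟩ := Ideal.exists_minimalPrimes_le (I := Ideal.span {v}) (J := M)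
      (by rwa [Ideal.span_singleton_le_iff_mem])
    haveI := hJ.isPrime
    have hvJ : v ∈ J := hJ.le (Ideal.mem_span_singleton_self v)
    have hJ1 : J.height ≤ 1 := Ideal.height_le_one_of_isPrincipal_of_mem_minimalPrimes _ J hJ
    have hwJ : w ∈ J := hall J inferInstance fun h => hv0 (by simpa [h] using hvJ)
    obtain ⟨J', hJ', hJ'le⟩ := Ideal.exists_minimalPrimes_le (I := Ideal.span {w}) (J := J)
      (by rwa [Ideal.span_singleton_le_iff_mem])
    haveI := hJ'.isPrime
    rcases hJ'le.eq_or_lt with h | h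
    · exact Set.mem_biUnion hJ' (h ▸ hvJ)
    · have h2 : J'.height = 0 := ENat.lt_one_iff_eq_zero.1
        ((Ideal.height_strict_mono_of_isPrime_of_isPrime h).trans_le hJ1)
      rw [Ideal.height_eq_zero_iff_eq_bot] at h2
      exact absurd (h2 ▸ hJ'.le (Ideal.mem_span_singleton_self w) : w ∈ (⊥ : Ideal R)) (by simpa using hw)
  obtain ⟨J, hJ, hMJ⟩ := (Ideal.subset_union_prime ⊥ ⊥
    (fun i hi _ _ => (hs.mem_toFinset.1 hi).isPrime)).1 hcov
  rw [hs.mem_toFinset] at hJ
  haveI := hJ.isPrime
  have hJ1 : J.height ≤ 1 := Ideal.height_le_one_of_isPrincipal_of_mem_minimalPrimes _ J hJ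
  let Q' : Ideal R := Q.map q
  haveI : Q'.IsPrime := Ideal.map_isPrime_of_surjective Ideal.Quotient.mk_surjective (by rwa [Ideal.mk_ker])
  have hQQ : Q'.comap q = Q := by
    rw [Ideal.comap_map_of_surjective' q Ideal.Quotient.mk_surjective, Ideal.mk_ker, sup_eq_left]
    exact hPQ
  have hQlt : Q' < M := by
    refine lt_of_le_of_ne (Ideal.map_mono (le_maximalIdeal hQ.ne_top)) fun h => hn.2 ?_
    rw [← hQQ, h, Ideal.comap_map_of_surjective' q Ideal.Quotient.mk_surjective, Ideal.mk_ker, sup_eq_left]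
    exact le_maximalIdeal hP.ne_top
  have h2 : Q'.height = 0 := ENat.lt_one_iff_eq_zero.1
    ((Ideal.height_strict_mono_of_isPrime_of_isPrime (hQlt.trans_le hMJ)).trans_le hJ1)
  rw [Ideal.height_eq_zero_iff_eq_bot] at h2
  exact hn.1 (by rw [← hQQ, h2, ← RingHom.ker_eq_comap_bot, Ideal.mk_ker])

theorem exists_dvr [IsAdicComplete (maximalIdeal A) A] {P : Ideal A} (hP : IsCurve P) :
    ∃ (V : Type u) (_ : CommRing V) (_ : IsDomain V) (_ : IsDiscreteValuationRing V) (φ : A →+* V),
      IsLocalHom φ ∧ φ.Finite ∧ RingHom.ker φ = P := by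
  haveI := hP.1
  let R := A ⧸ P
  let L := FractionRing R
  haveI : Ring.DimensionLEOne R := by
    refine ⟨fun {J} hJ0 hJ => ?_⟩
    let q := Ideal.Quotient.mk P
    haveI := hJ
    have h1 : P ≤ J.comap q := fun a ha => by
      show q a ∈ J
      rw [Ideal.Quotient.eq_zero_iff_mem.2 ha]; exact J.zero_mem
    rcases hP.2.2 (J.comap q) inferInstance h1 with h | h
    · exact absurd (by rw [← Ideal.map_comap_of_surjective q Ideal.Quotient.mk_surjective J, h,
        Ideal.map_quotient_self]) hJ0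
    · haveI : (J.comap q).IsMaximal := by rw [h]; infer_instance
      rw [← Ideal.map_comap_of_surjective q Ideal.Quotient.mk_surjective J]
      refine (Ideal.map_eq_top_or_isMaximal_of_surjective q Ideal.Quotient.mk_surjective inferInstance).resolve_left ?_
      rw [Ideal.map_comap_of_surjective q Ideal.Quotient.mk_surjective J]
      exact hJ.ne_top
  have hR : ¬ IsField R := fun h => hP.2.1
    (IsLocalRing.eq_maximalIdeal ((Ideal.Quotient.maximal_ideal_iff_isField_quotient P).2 h))
  let B := integralClosure R L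
  haveI : Module.Finite R B := (Groth.Agent.S0568.result A).2 P L inferInstance
  haveI : IsIntegrallyClosed B := integralClosure.isIntegrallyClosedOfFiniteExtension (K := L)
  haveI : IsNoetherianRing B := isNoetherian_of_tower R (inferInstance : IsNoetherian R B)
  haveI : Ring.DimensionLEOne B := Ring.DimensionLEOne.of_isIntegral R B
  haveI : HenselianRing A (maximalIdeal A) := inferInstance
  haveI : HenselianLocalRing A := HenselLib.henselianLocalRing_of_henselianRing A
  haveI : Algebra.IsIntegral A B := by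
    haveI : Module.Finite A R := Module.Finite.of_surjective (Ideal.Quotient.mkₐ A P).toLinearMap
      Ideal.Quotient.mk_surjective
    haveI : Module.Finite A B := Module.Finite.trans R B
    infer_instance
  haveI : IsLocalRing B := HenselLib.Olivier.isLocalRing_of_integral_domain (A := A) B
  have hinj : Function.Injective (algebraMap R B) := by
    intro a b h
    exact IsFractionRing.injective R L (congrArg Subtype.val h)
  have hB : ¬ IsField B := fun h => hR (isField_of_isIntegral_of_isField hinj h)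
  haveI : IsDedekindDomain B := {}
  haveI : IsDiscreteValuationRing B := ((IsDiscreteValuationRing.TFAE B hB).out 2 0).1 ‹_›
  haveI : Algebra.IsIntegral R B := Algebra.IsIntegral.of_finite R B
  refine ⟨B, inferInstance, inferInstance, inferInstance, (algebraMap R B).comp (Ideal.Quotient.mk P), ?_, ?_, ?_⟩
  · haveI : IsLocalHom (algebraMap R B) :=
      RingHom.IsIntegral.isLocalHom (Algebra.IsIntegral.isIntegral) hinj
    haveI : IsLocalHom (Ideal.Quotient.mk P) :=
      IsLocalHom.of_surjective _ Ideal.Quotient.mk_surjective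
    exact RingHom.isLocalHom_comp _ _
  · exact (RingHom.finite_algebraMap.2 ‹_›).comp (RingHom.Finite.of_surjective _ Ideal.Quotient.mk_surjective)
  · rw [RingHom.ker_comp_of_injective _ hinj, Ideal.mk_ker]

theorem isArtinian_quot_pow (i : ℕ) : IsArtinianRing (A ⧸ maximalIdeal A ^ i) := by
  rw [isArtinianRing_iff_isNoetherianRing_krullDimLE_zero]
  refine ⟨inferInstance, Ring.KrullDimLE.mk₀ fun J hJ => ?_⟩
  let q := Ideal.Quotient.mk (maximalIdeal A ^ i)
  haveI := hJ
  have h1 : maximalIdeal A ≤ J.comap q := by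
    refine fun a ha => (inferInstance : (J.comap q).IsPrime).mem_of_pow_mem i ?_
    show q (a ^ i) ∈ J
    rw [Ideal.Quotient.eq_zero_iff_mem.2 (Ideal.pow_mem_pow ha i)]
    exact J.zero_mem
  have h2 : J.comap q = maximalIdeal A :=
    le_antisymm (le_maximalIdeal (inferInstance : (J.comap q).IsPrime).ne_top) h1
  haveI : (J.comap q).IsMaximal := by rw [h2]; infer_instance
  rw [← Ideal.map_comap_of_surjective q Ideal.Quotient.mk_surjective J]
  refine (Ideal.map_eq_top_or_isMaximal_of_surjective q Ideal.Quotient.mk_surjective inferInstance).resolve_left ?_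
  rw [Ideal.map_comap_of_surjective q Ideal.Quotient.mk_surjective J]
  exact hJ.ne_top

theorem exists_finite_family [IsReduced A] [IsAdicComplete (maximalIdeal A) A] (hA : ¬ IsField A) (n : ℕ) :
    ∃ (k : ℕ) (V : Fin k → Type u) (_ : ∀ i, CommRing (V i)) (_ : ∀ i, IsDomain (V i))
      (_ : ∀ i, IsDiscreteValuationRing (V i)) (φ : ∀ i, A →+* V i),
      (∀ i, IsLocalHom (φ i) ∧ (φ i).Finite) ∧
        ⨅ i, RingHom.ker (φ i) ≤ maximalIdeal A ^ n := by
  classical
  let G := {P : Ideal A // IsCurve P}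
  let I : Finset G → Ideal A := fun F => F.inf fun P => P.1
  have hmin : ∀ i : ℕ, ∃ F : Finset G, ∀ P : G, I F ≤ P.1 ⊔ maximalIdeal A ^ i := by
    intro i
    rcases Nat.eq_zero_or_pos i with rfl | hi
    · exact ⟨∅, fun P => by simp⟩
    let q := Ideal.Quotient.mk (maximalIdeal A ^ i)
    haveI : IsArtinianRing (A ⧸ maximalIdeal A ^ i) := isArtinian_quot_pow i
    obtain ⟨_, ⟨F, rfl⟩, hF⟩ := IsArtinian.set_has_minimal (M := A ⧸ maximalIdeal A ^ i)
      (Set.range fun F => (I F).map q) ⟨_, ∅, rfl⟩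
    refine ⟨F, fun P => ?_⟩
    have h1 : (I (insert P F)).map q = (I F).map q :=
      eq_of_le_of_not_lt (Ideal.map_mono (by simp only [I, Finset.inf_insert]; exact inf_le_right))
        (hF _ ⟨_, rfl⟩)
    calc I F ≤ ((I F).map q).comap q := Ideal.le_comap_map
      _ = I (insert P F) ⊔ maximalIdeal A ^ i := by
          rw [← h1, Ideal.comap_map_of_surjective' q Ideal.Quotient.mk_surjective, Ideal.mk_ker]
      _ ≤ P.1 ⊔ maximalIdeal A ^ i :=
          sup_le_sup_right (by simp only [I, Finset.inf_insert]; exact inf_le_left) _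
  choose F hF using hmin
  let F' : ℕ → Finset G := fun i => (Finset.range (i + 1)).biUnion F
  let K : ℕ → Ideal A := fun i => I (F' i) ⊔ maximalIdeal A ^ i
  have hK : Antitone K := fun a b hab => sup_le_sup
    (Finset.inf_mono (Finset.biUnion_subset_biUnion_of_subset_left _ (Finset.range_mono (by omega))))
    (Ideal.pow_le_pow_right hab)
  have hK0 : ⨅ i, K i = ⊥ := by
    refine le_bot_iff.1 fun x hx => ?_
    by_contra hx0
    obtain ⟨P, hP, hxP⟩ := exists_isCurve_notMem hA hx0
    haveI := hP.1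
    refine hxP (Ideal.Quotient.eq_zero_iff_mem.1 ?_)
    have hker : ⨅ i : ℕ, (maximalIdeal A).map (Ideal.Quotient.mk P) ^ i = ⊥ := by
      refine Ideal.iInf_pow_eq_bot_of_isDomain _ ?_
      exact (Ideal.map_isPrime_of_surjective Ideal.Quotient.mk_surjective
        (by rw [Ideal.mk_ker]; exact le_maximalIdeal hP.1.ne_top)).ne_top
    rw [← Ideal.mem_bot, ← hker, Ideal.mem_iInf]
    intro i
    have h1 : x ∈ P ⊔ maximalIdeal A ^ i :=
      sup_le ((Finset.inf_mono (Finset.subset_biUnion_of_mem F (by simp))).trans (hF i ⟨P, hP⟩))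
        le_sup_right ((Ideal.mem_iInf.1 hx) i)
    have h2 := Ideal.mem_map_of_mem (Ideal.Quotient.mk P) h1
    rwa [Ideal.map_sup, Ideal.map_quotient_self, bot_sup_eq, Ideal.map_pow] at h2
  obtain ⟨N, hN⟩ := Schless.chevalley K hK hK0 (fun i => ⟨i, le_sup_right⟩) n
  let S := F' N
  choose V iC iD iV φ hl hf hker using fun P : G => exists_dvr P.2
  refine ⟨S.card, fun i => V (S.equivFin.symm i).1, fun i => iC _, fun i => iD _, fun i => iV _,
    fun i => φ _, fun i => ⟨hl _, hf _⟩, le_trans ?_ ((le_sup_left : I S ≤ K N).trans hN)⟩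
  refine Finset.le_inf fun P hP => ?_
  refine (iInf_le _ (S.equivFin ⟨P, hP⟩)).trans_eq ?_
  show RingHom.ker (φ (S.equivFin.symm (S.equivFin ⟨P, hP⟩)).1) = P.1
  rw [Equiv.symm_apply_apply]
  exact hker P

end Groth.Agent.EGA43.CurveApprox
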