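import Groth.Agent.CAlgH.QFChart
import Groth.Agent.CommAlg6.DimMaps
import Mathlib

/-! Noether normalization on a fibre, by a map to relative affine space -/

set_option autoImplicit false
set_option backward.isDefEq.respectTransparency false
set_option linter.style.haveILetI false

universe u

open CategoryTheory CategoryTheory.Limits AlgebraicGeometry TopologicalSpace MvPolynomial TensorProduct

namespace Groth.Agent.EGA43.FibNorm

open Groth.Agent.FlatMorNoether

variable {X Y : Scheme.{u}}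

theorem isoSpec_inv_appTop_apply (X : Scheme.{u}) [IsAffine X] (s : Γ(X, ⊤)) :
    X.isoSpec.inv.appTop s = (Scheme.ΓSpecIso Γ(X, ⊤)).inv s := by
  have h2 : X.isoSpec.hom.appTop = (Scheme.ΓSpecIso Γ(X, ⊤)).hom := Scheme.toSpecΓ_appTop X
  have h : X.isoSpec.inv.appTop = (Scheme.ΓSpecIso Γ(X, ⊤)).inv := by
    rw [← cancel_mono (Scheme.ΓSpecIso Γ(X, ⊤)).hom, Iso.inv_hom_id, ← h2, ← Scheme.Hom.comp_appTop,
      Iso.hom_inv_id]
    simp
  rw [h]

theorem exists_iso_residueField [IsAffine Y] (p : Spec Γ(Y, ⊤)) :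
    ∃ ee : Spec (.of p.asIdeal.ResidueField) ≅ Spec (Y.residueField (Y.isoSpec.inv p)),
      Spec.map (CommRingCat.ofHom (algebraMap Γ(Y, ⊤) p.asIdeal.ResidueField)) ≫ Y.isoSpec.inv =
        ee.hom ≫ Y.fromSpecResidueField (Y.isoSpec.inv p) := by
  refine ⟨Scheme.Spec.mapIso (Scheme.Spec.residueFieldIso Γ(Y, ⊤) p).op ≪≫
    Scheme.Spec.mapIso (asIso (Y.isoSpec.inv.residueFieldMap p)).op, ?_⟩
  simp only [Iso.trans_hom, Functor.mapIso_hom, Iso.op_hom, Scheme.Spec_map, Quiver.Hom.unop_op,
    Category.assoc, asIso_hom, Scheme.Hom.SpecMap_residueFieldMap_fromSpecResidueField]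
  rw [← Scheme.Spec.map_residueFieldIso_inv_eq_fromSpecResidueField, Category.assoc, ← Spec.map_comp_assoc,
    Iso.inv_hom_id, Spec.map_id, Category.id_comp]

theorem exists_toAffineSpace [IsAffine X] [IsAffine Y] (f : X ⟶ Y) [LocallyOfFiniteType f] (y : Y)
    (hy : y ∈ Set.range f.base) (e : ℕ) (he : topologicalKrullDim ↥(f.fiber y) = e) :
    ∃ g : X ⟶ 𝔸(ULift.{u} (Fin e); Y), g ≫ (𝔸(ULift.{u} (Fin e); Y) ↘ Y) = f ∧
      IsFinite (pullback.snd g ((𝔸(ULift.{u} (Fin e); Y) ↘ Y).fiberι y)) := by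
  let n := ULift.{u} (Fin e)
  let R := Γ(Y, ⊤)
  let S := Γ(X, ⊤)
  letI : Algebra R S := f.appTop.hom.toAlgebra
  haveI : Algebra.FiniteType R S := (HasRingHomProperty.iff_of_isAffine (P := @LocallyOfFiniteType)).1 ‹_›
  let p : PrimeSpectrum R := Y.isoSpec.hom y
  let K : CommRingCat.{u} := .of p.asIdeal.ResidueField
  let F : CommRingCat.{u} := .of (p.asIdeal.Fiber S)
  let ρ : R ⟶ K := CommRingCat.ofHom (algebraMap R p.asIdeal.ResidueField)
  let iK : K ⟶ F := CommRingCat.ofHom (algebraMap p.asIdeal.ResidueField (p.asIdeal.Fiber S))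
  let iS : S ⟶ F := CommRingCat.ofHom
    (Algebra.TensorProduct.includeRight (R := R) (A := p.asIdeal.ResidueField) (B := S)).toRingHom
  let c : Spec K ⟶ Y := Spec.map ρ ≫ Y.isoSpec.inv
  let a : Spec F ⟶ X := Spec.map iS ≫ X.isoSpec.inv
  have hsq : IsPullback a (Spec.map iK) f c := by
    have hpo : IsPushout f.appTop ρ iS iK :=
      (CommRingCat.isPushout_tensorProduct R p.asIdeal.ResidueField S).flip
    refine (isPullback_SpecMap_of_isPushout _ _ _ _ hpo).of_iso (Iso.refl _) X.isoSpec.symm (Iso.refl _)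
      Y.isoSpec.symm (by simp [a]) (by simp) ?_ (by simp [c])
    simp [Scheme.isoSpec_inv_naturality]
  have hpy : Y.isoSpec.inv p = y := by
    show Y.isoSpec.inv (Y.isoSpec.hom y) = y
    rw [← Scheme.Hom.comp_apply, Iso.hom_inv_id]; rfl
  obtain ⟨ee, hee⟩ : ∃ ee : Spec K ≅ Spec (Y.residueField y), c = ee.hom ≫ Y.fromSpecResidueField y := by
    obtain ⟨e0, he0⟩ := exists_iso_residueField (Y := Y) p
    exact ⟨e0 ≪≫ Scheme.Spec.mapIso (Y.residueFieldCongr hpy).symm.op,
      by simp [c, ρ, K]; exact he0⟩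
  have hsqX : IsPullback a (Spec.map iK ≫ ee.hom) f (Y.fromSpecResidueField y) :=
    hsq.of_iso (Iso.refl _) (Iso.refl _) ee (Iso.refl _) (by simp) (by simp) (by simp) (by simp [hee])
  have hdim : ringKrullDim F = e := by
    rw [← PrimeSpectrum.topologicalKrullDim_eq_ringKrullDim, ← he]
    exact IsHomeomorph.topologicalKrullDim_eq _ hsqX.isoPullback.hom.homeomorph.isHomeomorph
  haveI : Nontrivial (p.asIdeal.Fiber S) := by
    obtain ⟨x, hx⟩ := hy
    obtain ⟨z, -⟩ : ∃ z : Spec F, a z = x := by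
      have := Scheme.exists_preimage_of_isPullback hsqX x (IsLocalRing.closedPoint _)
        (hx.trans (Scheme.fromSpecResidueField_apply ..).symm)
      exact ⟨this.choose, this.choose_spec.1⟩
    have : Nonempty (PrimeSpectrum (p.asIdeal.Fiber S)) := ⟨z⟩
    exact PrimeSpectrum.nonempty_iff_nontrivial.1 this
  obtain ⟨v, hv⟩ := CAlgH.QFChart.exists_fibre_coords (R := R) (S := S) p.asIdeal e hdim.le
  let E := MvPolynomial.renameEquiv p.asIdeal.ResidueField (Equiv.ulift.{u} (α := Fin e))
  let φ : MvPolynomial n p.asIdeal.ResidueField →ₐ[p.asIdeal.ResidueField] p.asIdeal.Fiber S :=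
    (fibreMap p.asIdeal v).comp E.toAlgHom
  have hφ : φ.toRingHom.Finite := by
    have h1 : φ.toRingHom.IsIntegral :=
      RingHom.IsIntegral.trans E.toRingEquiv.toRingHom _
        (RingHom.isIntegral_of_surjective _ E.surjective) hv
    refine h1.to_finite ?_
    refine RingHom.FiniteType.of_comp_finiteType (f := algebraMap p.asIdeal.ResidueField _) ?_
    rw [show φ.toRingHom.comp (algebraMap _ _) = algebraMap p.asIdeal.ResidueField _ from φ.comp_algebraMap]
    exact RingHom.finiteType_algebraMap.2 inferInstance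
  let g : X ⟶ 𝔸(n; Y) := AffineSpace.homOfVector f fun i => v i.down
  refine ⟨g, AffineSpace.homOfVector_over _ _, ?_⟩
  let h : Spec F ⟶ 𝔸(n; Spec K) :=
    Spec.map (CommRingCat.ofHom φ.toRingHom) ≫ (AffineSpace.SpecIso n K).inv
  haveI : IsFinite h := by
    haveI : IsFinite (Spec.map (CommRingCat.ofHom φ.toRingHom)) := (IsFinite.SpecMap_iff _).2 hφ
    infer_instance
  have hh : h ≫ (𝔸(n; Spec K) ↘ Spec K) = Spec.map iK := by
    simp only [h, Category.assoc, AffineSpace.SpecIso_inv_over, ← Spec.map_comp]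
    congr 1
    exact CommRingCat.hom_ext φ.comp_algebraMap
  have hw : a ≫ g = h ≫ AffineSpace.map n c := by
    refine AffineSpace.hom_ext ?_ fun i => ?_
    · simp only [g, Category.assoc, AffineSpace.homOfVector_over, AffineSpace.map_over]
      rw [reassoc_of% hh]
      exact hsq.w
    · simp only [Scheme.Hom.comp_appTop, CommRingCat.comp_apply, AffineSpace.homOfVector_appTop_coord,
        g, AffineSpace.map_appTop_coord, h, a]
      rw [AffineSpace.SpecIso_inv_appTop_coord]
      rw [← CommRingCat.comp_apply (Scheme.ΓSpecIso _).inv, ← Scheme.ΓSpecIso_inv_naturality,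
        CommRingCat.comp_apply]
      simp only [CommRingCat.hom_ofHom, φ, E, AlgHom.toRingHom_eq_coe, RingHom.coe_coe, AlgHom.comp_apply,
        AlgEquiv.coe_toAlgHom, MvPolynomial.renameEquiv_apply, rename_X, fibreMap, aeval_X]
      rw [isoSpec_inv_appTop_apply X (v i.down)]
      rw [← CommRingCat.comp_apply, ← Scheme.ΓSpecIso_inv_naturality, CommRingCat.comp_apply]
      refine congrArg _ ?_
      show Algebra.TensorProduct.includeRight (v i.down) = fibreMap p.asIdeal v (rename Equiv.ulift.{u} (MvPolynomial.X i))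
      rw [rename_X, fibreMap, aeval_X]
      rfl
  have hAc := AffineSpace.isPullback_map (n := n) c
  have hsqg : IsPullback a h g (AffineSpace.map n c) := by
    refine IsPullback.of_bot ?_ hw hAc
    rw [hh, AffineSpace.homOfVector_over]
    exact hsq
  have hAy : IsPullback (AffineSpace.map n c) ((𝔸(n; Spec K) ↘ Spec K) ≫ ee.hom) (𝔸(n; Y) ↘ Y)
      (Y.fromSpecResidueField y) :=
    hAc.of_iso (Iso.refl _) (Iso.refl _) ee (Iso.refl _) (by simp) (by simp) (by simp) (by simp [hee])
  have hq : hAy.isoPullback.hom ≫ (𝔸(n; Y) ↘ Y).fiberι y = AffineSpace.map n c :=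
    hAy.isoPullback_hom_fst
  have hsqg' : IsPullback a (h ≫ hAy.isoPullback.hom) g ((𝔸(n; Y) ↘ Y).fiberι y) :=
    hsqg.of_iso (Iso.refl _) (Iso.refl _) hAy.isoPullback (Iso.refl _) (by simp) (by simp) (by simp)
      (by simp [hq])
  rw [← hsqg'.isoPullback_inv_snd]
  infer_instance

theorem topologicalKrullDim_lt_of_isClosed (B : Type u) [CommRing B] [IsDomain B]
    {Z : Set (PrimeSpectrum B)} (hZ : IsClosed Z) (hne : Z ≠ Set.univ) :
    topologicalKrullDim Z + 1 ≤ ringKrullDim B := by
  obtain ⟨I, rfl⟩ : ∃ I : Ideal B, Z = PrimeSpectrum.zeroLocus (I : Set B) := by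
    obtain ⟨I, hI⟩ := (PrimeSpectrum.isClosed_iff_zeroLocus_ideal Z).1 hZ
    exact ⟨I, hI⟩
  obtain ⟨r, hr, hr0⟩ := I.ne_bot_iff.1 (by rintro rfl; exact hne (by simp))
  have hsub : PrimeSpectrum.zeroLocus (I : Set B) ⊆ PrimeSpectrum.zeroLocus {r} :=
    PrimeSpectrum.zeroLocus_anti_mono (by simpa using hr)
  refine le_trans (add_le_add ?_ le_rfl)
    (ringKrullDim_quotient_succ_le_of_nonZeroDivisor (mem_nonZeroDivisors_of_ne_zero hr0))
  rw [← PrimeSpectrum.topologicalKrullDim_eq_ringKrullDim]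
  have hc : Topology.IsClosedEmbedding (PrimeSpectrum.comap (Ideal.Quotient.mk (Ideal.span {r}))) :=
    PrimeSpectrum.isClosedEmbedding_comap_of_surjective _ _ Ideal.Quotient.mk_surjective
  have hrange : Set.range (PrimeSpectrum.comap (Ideal.Quotient.mk (Ideal.span {r}))) =
      PrimeSpectrum.zeroLocus {r} := by
    rw [range_comap_of_surjective _ _ Ideal.Quotient.mk_surjective, Ideal.mk_ker,
      PrimeSpectrum.zeroLocus_span]
  rw [← hrange] at hsub
  let j := Set.inclusion hsub
  exact le_trans (Topology.IsEmbedding.inclusion hsub).toIsInducing.topologicalKrullDim_le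
    (IsHomeomorph.topologicalKrullDim_eq _ hc.toIsEmbedding.toHomeomorph.isHomeomorph).ge

theorem surjective_of_isFinite {P : Scheme.{u}} {B : CommRingCat.{u}} [IsDomain B] (h : P ⟶ Spec B)
    [IsFinite h] (e : ℕ) (hP : topologicalKrullDim P = e) (hB : ringKrullDim B = e) :
    Function.Surjective h := by
  let T : Set (PrimeSpectrum B) := Set.range h
  have hT : IsClosed T := h.isClosedMap.isClosed_range
  haveI : QuasiSober T := hT.isClosedEmbedding_subtypeVal.quasiSober
  have hle : (e : WithBot ℕ∞) ≤ topologicalKrullDim T := by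
    rw [← hP]
    refine CommAlg6.topologicalKrullDim_le_of_fibres (f := Set.rangeFactorization h)
      (h.continuous.subtype_mk _) fun x x' hs hx => ?_
    exact CommAlg6.eq_of_specializes_of_locallyQuasiFinite h hs (congrArg Subtype.val hx)
  by_contra hns
  have hne : T ≠ Set.univ := fun hT' => hns (Set.range_eq_univ.1 hT')
  have h2 := topologicalKrullDim_lt_of_isClosed B hT hne
  rw [hB] at h2
  have h3 : ((e : WithBot ℕ∞) + 1) ≤ e := (add_le_add hle le_rfl).trans h2
  exact absurd h3 (not_le.2 (by exact_mod_cast Nat.lt_succ_self e))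

theorem surjective_and_exists_nhd [IsAffine X] [IsAffine Y] (f : X ⟶ Y) [LocallyOfFiniteType f] (y : Y)
    (hy : y ∈ Set.range f.base) (e : ℕ) (he : topologicalKrullDim ↥(f.fiber y) = e)
    (g : X ⟶ 𝔸(ULift.{u} (Fin e); Y)) (hg : g ≫ (𝔸(ULift.{u} (Fin e); Y) ↘ Y) = f)
    (hfin : IsFinite (pullback.snd g ((𝔸(ULift.{u} (Fin e); Y) ↘ Y).fiberι y))) :
    Function.Surjective (pullback.snd g ((𝔸(ULift.{u} (Fin e); Y) ↘ Y).fiberι y)).base ∧
      ∃ U : X.Opens, f.base ⁻¹' {y} ⊆ (U : Set X) ∧ LocallyQuasiFinite (U.ι ≫ g) := by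
  let π := 𝔸(ULift.{u} (Fin e); Y) ↘ Y
  let g₁ := pullback.fst g (π.fiberι y)
  let gy := pullback.snd g (π.fiberι y)
  haveI : IsFinite gy := hfin
  have hrange : Set.range g₁ = f ⁻¹' {y} := by
    rw [Scheme.Pullback.range_fst, Scheme.Hom.range_fiberι]
    ext x
    show π (g x) = y ↔ f x = y
    rw [← Scheme.Hom.comp_apply, hg]
  haveI : IsPreimmersion g₁ := MorphismProperty.pullback_fst _ _ inferInstance
  haveI : LocallyOfFiniteType g := by
    haveI : LocallyOfFiniteType (g ≫ π) := by rw [hg]; infer_instance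
    exact locallyOfFiniteType_of_comp g π
  refine ⟨?_, g.quasiFiniteLocus, ?_, inferInstance⟩
  · have hP : topologicalKrullDim ↥(pullback g (π.fiberι y)) = e := by
      rw [← he]
      exact IsHomeomorph.topologicalKrullDim_eq _ ((g₁.isEmbedding.toHomeomorph.trans
        (Homeomorph.setCongr (hrange.trans (f.range_fiberι y).symm))).trans
        (f.fiberι y).isEmbedding.toHomeomorph.symm).isHomeomorph
    let K : CommRingCat.{u} := Y.residueField y
    let eA : π.fiber y ≅ Spec (.of (MvPolynomial (ULift.{u} (Fin e)) K)) :=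
      (AffineSpace.isPullback_map (n := ULift.{u} (Fin e)) (Y.fromSpecResidueField y)).isoPullback.symm ≪≫
        AffineSpace.SpecIso _ K
    haveI : IsFinite (gy ≫ eA.hom) := inferInstance
    have h1 := surjective_of_isFinite (gy ≫ eA.hom) e hP (by
      show ringKrullDim (MvPolynomial (ULift.{u} (Fin e)) K) = _
      rw [MvPolynomial.ringKrullDim_of_isNoetherianRing, ringKrullDim_eq_zero_of_field, zero_add,
        Nat.card_eq_fintype_card, Fintype.card_ulift, Fintype.card_fin])
    intro z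
    obtain ⟨w, hw⟩ := h1 (eA.hom z)
    exact ⟨w, eA.hom.homeomorph.injective hw⟩
  · intro x hx
    have hxy : π (g x) = y := by
      rw [← Scheme.Hom.comp_apply, hg]; exact hx
    obtain ⟨u, hu⟩ : g x ∈ Set.range (π.fiberι y) := by rw [Scheme.Hom.range_fiberι]; exact hxy
    have hfin' : (g ⁻¹' {g x}).Finite := by
      refine ((gy.finite_preimage_singleton u).image g₁).subset ?_
      intro z hz
      obtain ⟨w, rfl⟩ : z ∈ Set.range g₁ := by
        rw [hrange]
        show f z = y
        rw [← hg, Scheme.Hom.comp_apply, Set.mem_singleton_iff.1 hz]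
        exact hxy
      refine ⟨w, ?_, rfl⟩
      refine (π.fiberι y).isEmbedding.injective ?_
      rw [hu, ← Set.mem_singleton_iff.1 hz, ← Scheme.Hom.comp_apply, ← Scheme.Hom.comp_apply,
        pullback.condition]
    haveI : Finite (g ⁻¹' {g x}) := hfin'
    haveI : Finite (g.fiber (g x)) := .of_equiv _ (g.fiberHomeo (g x)).symm.toEquiv
    haveI : LocallyOfFiniteType (g.fiberToSpecResidueField (g x)) :=
      MorphismProperty.pullback_snd _ _ inferInstance
    haveI : JacobsonSpace (g.fiber (g x)) :=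
      LocallyOfFiniteType.jacobsonSpace (g.fiberToSpecResidueField (g x))
    exact Scheme.Hom.quasiFiniteAt_iff_isOpen_singleton_asFiber.2 (isOpen_discrete _)

end Groth.Agent.EGA43.FibNorm
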