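import Groth.Agent.EGA43.InjFibre.Scheme
import Mathlib.RingTheory.Ideal.MinimalPrime.Noetherian
import Mathlib.AlgebraicGeometry.Morphisms.FiniteType

/-!
# Sections avoiding the maximal points of a fibre
-/

universe u

set_option autoImplicit false
set_option backward.isDefEq.respectTransparency false

open AlgebraicGeometry CategoryTheory TopologicalSpace

namespace Groth.Agent.EGA43.FibreAvoid

variable {X Y : Scheme.{u}}

theorem fromSpec_specializes {U : X.Opens} (hU : IsAffineOpen U) {P Q : PrimeSpectrum Γ(X, U)}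
    (h : Q ≤ P) : hU.fromSpec Q ⤳ hU.fromSpec P :=
  ((PrimeSpectrum.le_iff_specializes Q P).1 h).map hU.fromSpec.continuous

theorem primeIdealOf_le {U : X.Opens} (hU : IsAffineOpen U) {a b : X} (ha : a ∈ U) (hb : b ∈ U) (h : a ⤳ b) :
    hU.primeIdealOf ⟨a, ha⟩ ≤ hU.primeIdealOf ⟨b, hb⟩ := by
  refine (PrimeSpectrum.le_iff_specializes _ _).2 (hU.fromSpec.isEmbedding.isInducing.specializes_iff.1 ?_)
  rwa [hU.fromSpec_primeIdealOf, hU.fromSpec_primeIdealOf]

/-- A point that is not maximal in its fibre is cut out by a section avoiding the maximal points. -/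
theorem exists_section [IsLocallyNoetherian Y] (f : X ⟶ Y) [LocallyOfFiniteType f] (x : X)
    (hx : ∃ x' : X, f.base x' = f.base x ∧ x' ≠ x ∧ x ∈ closure ({x'} : Set X)) :
    ∃ U : X.Opens, IsAffineOpen U ∧ x ∈ U ∧ ∃ g : Γ(X, U), x ∉ X.basicOpen g ∧
      ∀ z : X, f.base z = f.base x → (∀ z' : X, f.base z' = f.base x → z ∈ closure ({z'} : Set X) → z' = z) →
        z ∈ U → z ∈ X.basicOpen g := by
  classical
  have := LocallyOfFiniteType.isLocallyNoetherian f
  obtain ⟨V, hV, hxV, -⟩ := exists_isAffineOpen_mem_and_subset (X := Y) (x := f x) (U := ⊤) trivial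
  obtain ⟨U, hU, hxU, e⟩ := exists_isAffineOpen_mem_and_subset (X := X) (x := x) (U := f ⁻¹ᵁ V) hxV
  refine ⟨U, hU, hxU, ?_⟩
  let φ := (f.appLE V U e).hom
  let p := hV.primeIdealOf ⟨f x, hxV⟩
  let I := p.asIdeal.map φ
  have : IsNoetherianRing Γ(X, U) := IsLocallyNoetherian.component_noetherian ⟨U, hU⟩
  let Px := hU.primeIdealOf ⟨x, hxU⟩
  let T := (Ideal.finite_minimalPrimes_of_isNoetherianRing Γ(X, U) I).toFinset.filter fun P => ¬ Px.asIdeal ≤ P
  obtain ⟨g, hgx, hgT⟩ : ∃ g ∈ Px.asIdeal, ∀ P ∈ T, g ∉ P := by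
    by_contra! h
    obtain ⟨P, hP, hle⟩ := (Ideal.subset_union_prime (s := T) (f := id) ⊥ ⊥ (fun P hP _ _ =>
      ((Set.Finite.mem_toFinset _).1 (Finset.mem_filter.1 hP).1).1.1)).1 (show (Px.asIdeal : Set Γ(X, U)) ⊆ ⋃ P ∈ (T : Set (Ideal Γ(X, U))), (P : Set Γ(X, U)) from fun g hg => by
        obtain ⟨P, hP, hgP⟩ := h g hg
        exact Set.mem_biUnion hP hgP)
    exact (Finset.mem_filter.1 hP).2 hle
  refine ⟨g, ?_, fun z hzy hzmax hzU => ?_⟩
  · rw [InjFibre.mem_basicOpen_iff_notMem hU hxU, not_not]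
    exact hgx
  rw [InjFibre.mem_basicOpen_iff_notMem hU hzU]
  let Pz := hU.primeIdealOf ⟨z, hzU⟩
  have hcomap : ∀ (w : X) (hw : w ∈ U), f.base w = f.base x →
      (hU.primeIdealOf ⟨w, hw⟩).asIdeal.comap φ = p.asIdeal := fun w hw hwy => by
    have h1 := congrArg PrimeSpectrum.asIdeal (InjFibre.comap_primeIdealOf f hV hU e hw)
    refine h1.trans ?_
    congr 2
    exact Subtype.ext hwy
  have hmin : Pz.asIdeal ∈ I.minimalPrimes := by
    refine ⟨⟨Pz.2, Ideal.map_le_iff_le_comap.2 (hcomap z hzU hzy).ge⟩, fun Q hQ hle => ?_⟩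
    let Q' : PrimeSpectrum Γ(X, U) := ⟨Q, hQ.1⟩
    have hQU : hU.fromSpec Q' ∈ U := hU.range_fromSpec.le ⟨Q', rfl⟩
    have hQP : hU.primeIdealOf ⟨hU.fromSpec Q', hQU⟩ = Q' :=
      hU.fromSpec.isOpenEmbedding.injective (hU.fromSpec_primeIdealOf _)
    have hQp : Q.comap φ = p.asIdeal :=
      le_antisymm ((Ideal.comap_mono hle).trans (hcomap z hzU hzy).le) (Ideal.map_le_iff_le_comap.1 hQ.2)
    have hQy : f.base (hU.fromSpec Q') = f.base x := by
      have h1 := InjFibre.comap_primeIdealOf f hV hU e hQU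
      rw [hQP] at h1
      have h2 : hV.primeIdealOf ⟨f (hU.fromSpec Q'), e hQU⟩ = p :=
        h1.symm.trans (PrimeSpectrum.ext hQp)
      have h3 := congrArg hV.fromSpec h2
      rw [hV.fromSpec_primeIdealOf, hV.fromSpec_primeIdealOf] at h3
      exact h3
    have hz := hzmax _ hQy (specializes_iff_mem_closure.1
      (by
        have := fromSpec_specializes hU (Q := Q') (P := Pz) hle
        rwa [hU.fromSpec_primeIdealOf] at this))
    have : Q' = Pz := hU.fromSpec.isOpenEmbedding.injective (hz.trans (hU.fromSpec_primeIdealOf ⟨z, hzU⟩).symm)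
    exact (congrArg PrimeSpectrum.asIdeal this).ge
  refine hgT _ (Finset.mem_filter.2 ⟨(Set.Finite.mem_toFinset _).2 hmin, fun hle => ?_⟩)
  obtain ⟨x', hx'y, hne, hcl⟩ := hx
  have hxz : x ⤳ z := by
    have := fromSpec_specializes hU (Q := Px) (P := Pz) hle
    rwa [hU.fromSpec_primeIdealOf, hU.fromSpec_primeIdealOf] at this
  have e1 := hzmax x rfl (specializes_iff_mem_closure.1 hxz)
  have e2 := hzmax x' hx'y (specializes_iff_mem_closure.1 ((specializes_iff_mem_closure.2 hcl).trans hxz))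
  exact hne (e2.trans e1.symm)

end Groth.Agent.EGA43.FibreAvoid
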