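import Mathlib
import Groth.Prelude.Def_FlatCA

universe u

namespace EGA43.FiniteColim

open MvPolynomial

theorem exists_directedColimit (A A' : Type u) [CommRing A] [CommRing A']
    [Algebra A A'] [Module.Finite A A'] :
    ∃ (ι : Type u) (_ : Preorder ι) (G : ι → Type u) (_ : ∀ i, CommRing (G i)) (_ : ∀ i, Algebra A (G i))
      (g : ∀ i j, i ≤ j → G i →ₐ[A] G j) (_ : ∀ i, Algebra (G i) A') (_ : ∀ i, IsScalarTower A (G i) A'),
      FlatCA.IsDirectedColimitRing G (fun i j h => (g i j h).toRingHom) A' ∧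
        ∀ i, Module.Finite A (G i) ∧ Algebra.FinitePresentation A (G i) := by
  classical
  obtain ⟨s, hs⟩ := (Module.Finite.fg_top (R := A) (M := A'))
  have hint : ∀ x : s, ∃ p : Polynomial A, p.Monic ∧ Polynomial.aeval (x : A') p = 0 := fun x =>
    Algebra.IsIntegral.isIntegral (R := A) (x : A')
  choose p hp hp0 using hint
  let K : Ideal (MvPolynomial s A) :=
    Ideal.span (Set.range fun x : s => Polynomial.aeval (X x : MvPolynomial s A) (p x))
  let P := MvPolynomial s A ⧸ K
  let π : P →ₐ[A] A' := Ideal.Quotient.liftₐ K (aeval fun x : s => (x : A')) (by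
    intro a ha
    refine (RingHom.mem_ker).1 ((Ideal.span_le.2 ?_) ha : a ∈ RingHom.ker _)
    rintro _ ⟨x, rfl⟩
    simp only [SetLike.mem_coe, RingHom.mem_ker, ← Polynomial.aeval_algHom_apply, aeval_X, hp0])
  have hπ : Function.Surjective π := by
    rw [← AlgHom.range_eq_top, eq_top_iff]
    intro a _
    have ha : a ∈ Submodule.span A (s : Set A') := by rw [hs]; trivial
    refine (Submodule.span_le (p := Subalgebra.toSubmodule π.range)).2 ?_ ha
    intro x hx
    exact ⟨Ideal.Quotient.mk K (X ⟨x, hx⟩), (aeval_X _ _ : _)⟩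
  have hfp : Algebra.FinitePresentation A P :=
    Algebra.FinitePresentation.quotient (R := A) (I := K) (Submodule.fg_span (Set.finite_range _))
  have hint' : Algebra.IsIntegral A P := by
    refine ⟨fun a => ?_⟩
    obtain ⟨a, rfl⟩ := Ideal.Quotient.mkₐ_surjective A K a
    induction a using MvPolynomial.induction_on with
    | C r => simpa using (isIntegral_algebraMap (R := A) (A := P) (x := r))
    | add f g hf hg => rw [map_add]; exact hf.add hg
    | mul_X f x hf =>
      rw [map_mul]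
      refine hf.mul ⟨p x, hp x, ?_⟩
      rw [← Polynomial.aeval_def, Polynomial.aeval_algHom_apply]
      exact Ideal.Quotient.eq_zero_iff_mem.2 (Ideal.subset_span ⟨x, rfl⟩)
  have hfin : Module.Finite A P := Algebra.IsIntegral.finite
  let ι := {I : Ideal P // I.FG ∧ I ≤ RingHom.ker π}
  refine ⟨ι, inferInstance, fun I => P ⧸ I.1, fun I => inferInstance, fun I => inferInstance,
    fun I J h => Ideal.Quotient.factorₐ A h,
    fun I => @RingHom.toAlgebra (P ⧸ I.1) A' _ _ (Ideal.Quotient.lift I.1 π.toRingHom (fun a ha => I.2.2 ha)),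
    fun I => ?_, ⟨?_, ?_, ?_, ?_, ?_, ?_, ?_⟩, fun I => ⟨?_, ?_⟩⟩
  · letI := @RingHom.toAlgebra (P ⧸ I.1) A' _ _ (Ideal.Quotient.lift I.1 π.toRingHom (fun a ha => I.2.2 ha))
    exact IsScalarTower.of_algebraMap_eq fun a => (π.commutes a).symm
  · exact ⟨fun I J => ⟨⟨I.1 ⊔ J.1, Submodule.FG.sup I.2.1 J.2.1, sup_le I.2.2 J.2.2⟩, le_sup_left (b := J.1),
      le_sup_right (a := I.1)⟩⟩
  · exact ⟨⟨⊥, Submodule.fg_bot, bot_le⟩⟩
  · intro I
    refine RingHom.ext fun x => ?_
    obtain ⟨b, rfl⟩ := Ideal.Quotient.mk_surjective x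
    rfl
  · intro I J L h h'
    refine RingHom.ext fun x => ?_
    obtain ⟨b, rfl⟩ := Ideal.Quotient.mk_surjective x
    rfl
  · intro I J h
    refine RingHom.ext fun x => ?_
    obtain ⟨b, rfl⟩ := Ideal.Quotient.mk_surjective x
    rfl
  · intro a
    obtain ⟨b, rfl⟩ := hπ a
    refine ⟨⟨⊥, Submodule.fg_bot, bot_le⟩, Ideal.Quotient.mk _ b, ?_⟩
    rfl
  · intro I x hx
    obtain ⟨b, rfl⟩ := Ideal.Quotient.mk_surjective x
    refine ⟨⟨I.1 ⊔ Ideal.span {b}, Submodule.FG.sup I.2.1 ⟨{b}, by simp⟩, sup_le I.2.2 ?_⟩,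
      le_sup_left (b := Ideal.span {b}), ?_⟩
    · rw [Ideal.span_singleton_le_iff_mem]
      exact hx
    · refine (Ideal.Quotient.eq_zero_iff_mem).2 ?_
      exact Ideal.mem_sup_right (Ideal.mem_span_singleton_self b)
  · exact Module.Finite.of_surjective ((Ideal.Quotient.mkₐ A I.1).toLinearMap)
      Ideal.Quotient.mk_surjective
  · exact Algebra.FinitePresentation.quotient I.2.1

end EGA43.FiniteColim
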