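import Mathlib.AlgebraicGeometry.Morphisms.FiniteType
import Mathlib.AlgebraicGeometry.Morphisms.Finite
import Mathlib.AlgebraicGeometry.ResidueField
import Mathlib.FieldTheory.Finite.GaloisField
import Mathlib.RingTheory.Jacobson.Ring
import Groth.Agent.ZetaLib.ClosedPts

/-!
# Points with finite residue field on schemes of finite type over `ℤ`
-/

set_option autoImplicit false

universe u

open CategoryTheory AlgebraicGeometry

namespace Groth.Agent.EGA43.FinitePoints

variable (Y : Scheme.{u}) [LocallyOfFiniteType (Limits.IsTerminal.from specULiftZIsTerminal Y)]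

theorem isClosed_iff (y : Y) : IsClosed ({y} : Set Y) ↔ Finite (Y.residueField y) := by
  haveI := ZetaLib.isJacobsonRing_int
  haveI : IsJacobsonRing (ULift.{u} ℤ) := isJacobsonRing_of_surjective
    ⟨(ULift.ringEquiv (R := ℤ)).symm.toRingHom, (ULift.ringEquiv (R := ℤ)).symm.surjective⟩
  haveI : JacobsonSpace (Spec (CommRingCat.of (ULift.{u} ℤ))) :=
    PrimeSpectrum.isJacobsonRing_iff_jacobsonSpace.mp inferInstance
  haveI : JacobsonSpace Y :=
    LocallyOfFiniteType.jacobsonSpace (Limits.IsTerminal.from specULiftZIsTerminal Y)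
  rw [isClosed_singleton_iff_locallyOfFiniteType]
  let t := Y.fromSpecResidueField y ≫ Limits.IsTerminal.from specULiftZIsTerminal Y
  obtain ⟨φ, hφ⟩ := Spec.map_surjective t
  constructor
  · intro h
    have ht : LocallyOfFiniteType t := inferInstance
    rw [← hφ, HasRingHomProperty.Spec_iff (P := @LocallyOfFiniteType)] at ht
    have h' : (φ.hom.comp (ULift.ringEquiv (R := ℤ)).symm.toRingHom).FiniteType :=
      ht.comp (RingHom.FiniteType.of_surjective _ (ULift.ringEquiv (R := ℤ)).symm.surjective)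
    rw [RingHom.ext_int (φ.hom.comp (ULift.ringEquiv (R := ℤ)).symm.toRingHom)
      (algebraMap ℤ (Y.residueField y)), RingHom.finiteType_algebraMap] at h'
    exact ZetaLib.finite_of_finiteType_int _
  · intro h
    haveI : LocallyOfFiniteType t := by
      rw [← hφ, HasRingHomProperty.Spec_iff (P := @LocallyOfFiniteType)]
      refine RingHom.FiniteType.of_finite ?_
      exact @Module.Finite.of_finite _ _ _ _ φ.hom.toAlgebra.toModule _
    exact locallyOfFiniteType_of_comp (Y.fromSpecResidueField y)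
      (Limits.IsTerminal.from specULiftZIsTerminal Y)

theorem finite_setOf_hom [CompactSpace Y] (F : Type) [Field F] [Finite F] :
    {y : Y | Nonempty (Y.residueField y →+* F)}.Finite := by
  obtain ⟨s, hs, hs', htop⟩ : ∃ s : Set Y.Opens, s.Finite ∧ (∀ U ∈ s, IsAffineOpen U) ∧
      ∀ y : Y, ∃ U ∈ s, y ∈ U := by
    obtain ⟨t, ht⟩ := isCompact_univ.elim_finite_subcover (fun U : Y.affineOpens => (U.1 : Set Y))
      (fun U => U.1.2) (fun y _ => by
        obtain ⟨U, hU, hyU, -⟩ := exists_isAffineOpen_mem_and_subset (x := y) (U := ⊤) (Set.mem_univ _)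
        exact Set.mem_iUnion.2 ⟨⟨U, hU⟩, hyU⟩)
    refine ⟨(fun U : Y.affineOpens => U.1) '' ↑t, t.finite_toSet.image _, ?_, fun y => ?_⟩
    · rintro _ ⟨U, -, rfl⟩; exact U.2
    · obtain ⟨U, hU, hy⟩ := Set.mem_iUnion₂.1 (ht (Set.mem_univ y))
      exact ⟨U.1, ⟨U, hU, rfl⟩, hy⟩
  refine (hs.biUnion (t := fun U => {y : Y | y ∈ U ∧ Nonempty (Y.residueField y →+* F)})
    fun U hU => ?_).subset fun y hy => ?_
  swap
  · obtain ⟨U, hU, hyU⟩ := htop y
    exact Set.mem_biUnion hU ⟨hyU, hy⟩
  have hA := hs' U hU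
  have hft : Algebra.FiniteType ℤ Γ(Y, U) := by
    have h := (Limits.IsTerminal.from specULiftZIsTerminal Y).finiteType_appLE (isAffineOpen_top _) hA
      (le_top : U ≤ (Limits.IsTerminal.from specULiftZIsTerminal Y) ⁻¹ᵁ ⊤)
    have e : Γ(Spec (CommRingCat.of (ULift.{u} ℤ)), ⊤) ≅ CommRingCat.of (ULift.{u} ℤ) :=
      Scheme.ΓSpecIso _
    have h2 : ((((Limits.IsTerminal.from specULiftZIsTerminal Y).appLE ⊤ U le_top).hom.comp
        e.inv.hom).comp (ULift.ringEquiv (R := ℤ)).symm.toRingHom).FiniteType :=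
      (h.comp (RingHom.FiniteType.of_surjective _ e.symm.commRingCatIsoToRingEquiv.surjective)).comp
        (RingHom.FiniteType.of_surjective _ (ULift.ringEquiv (R := ℤ)).symm.surjective)
    refine RingHom.finiteType_algebraMap.1 ?_
    convert h2 using 1
    exact RingHom.ext_int _ _
  obtain ⟨n, π, hπ⟩ := Algebra.FiniteType.iff_quotient_mvPolynomial''.1 hft
  haveI : Finite (Γ(Y, U) →+* F) := by
    refine Finite.of_injective (fun ψ : Γ(Y, U) →+* F => fun i => ψ (π (MvPolynomial.X i))) fun a b h => ?_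
    refine RingHom.ext fun z => ?_
    obtain ⟨z, rfl⟩ := hπ z
    exact DFunLike.congr_fun (MvPolynomial.ringHom_ext (f := a.comp π.toRingHom) (g := b.comp π.toRingHom)
      (fun r => DFunLike.congr_fun (RingHom.ext_int ((a.comp π.toRingHom).comp MvPolynomial.C)
        ((b.comp π.toRingHom).comp MvPolynomial.C)) r) (congrFun h)) z
  let T := {y : Y | y ∈ U ∧ Nonempty (Y.residueField y →+* F)}
  have hinj : Function.Injective fun y : T =>
      (y.2.2.some).comp (Y.evaluation U y.1 y.2.1).hom := by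
    rintro ⟨y, hy, hy'⟩ ⟨z, hz, hz'⟩ h
    have key : ∀ r : Γ(Y, U), y ∈ Y.basicOpen r ↔ z ∈ Y.basicOpen r := by
      intro r
      rw [← Scheme.evaluation_ne_zero_iff_mem_basicOpen Y y hy r,
        ← Scheme.evaluation_ne_zero_iff_mem_basicOpen Y z hz r,
        ← (map_ne_zero_iff (f := hy'.some) hy'.some.injective),
        ← (map_ne_zero_iff (f := hz'.some) hz'.some.injective)]
      exact iff_of_eq (congrArg (fun v => v ≠ 0) (DFunLike.congr_fun h r))
    have hp : hA.primeIdealOf ⟨y, hy⟩ = hA.primeIdealOf ⟨z, hz⟩ := by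
      refine PrimeSpectrum.ext (Ideal.ext fun r => ?_)
      have hyr := hA.fromSpec_preimage_basicOpen r
      have h1 : ∀ (w : Y) (hw : w ∈ U), w ∈ Y.basicOpen r ↔ r ∉ (hA.primeIdealOf ⟨w, hw⟩).asIdeal := by
        intro w hw
        have : hA.primeIdealOf ⟨w, hw⟩ ∈ hA.fromSpec ⁻¹ᵁ Y.basicOpen r ↔ w ∈ Y.basicOpen r := by
          show hA.fromSpec (hA.primeIdealOf ⟨w, hw⟩) ∈ Y.basicOpen r ↔ _
          rw [hA.fromSpec_primeIdealOf]
        rw [← this, hyr]
        rfl
      exact not_iff_not.1 ((h1 y hy).symm.trans ((key r).trans (h1 z hz)))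
    have := congrArg hA.fromSpec hp
    rw [hA.fromSpec_primeIdealOf, hA.fromSpec_primeIdealOf] at this
    exact Subtype.ext this
  haveI : Finite T := Finite.of_injective _ hinj
  exact Set.toFinite T

end Groth.Agent.EGA43.FinitePoints
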