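import Groth.Agent.EGA43.GDomain
import Mathlib.AlgebraicGeometry.Noetherian
import Mathlib.AlgebraicGeometry.Morphisms.ClosedImmersion
import Mathlib.AlgebraicGeometry.Morphisms.FiniteType
import Mathlib.Topology.KrullDimension

/-!
# Locally closed points of locally Noetherian schemes
-/

universe u

set_option autoImplicit false

open AlgebraicGeometry CategoryTheory Set Topology

namespace Groth.Agent.EGA43

theorem exists_isLocallyClosed_singleton_of_noetherian {X : Type*} [TopologicalSpace X] [T0Space X]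
    [TopologicalSpace.NoetherianSpace X] {Z : Set X} (hZ : IsLocallyClosed Z) (hne : Z.Nonempty) :
    ∃ x ∈ Z, IsLocallyClosed ({x} : Set X) := by
  have : CompactSpace Z := isCompact_iff_compactSpace.1 (TopologicalSpace.NoetherianSpace.isCompact Z)
  obtain ⟨z, -, hz⟩ := (isClosed_univ (X := Z)).exists_closed_singleton
    (by obtain ⟨x, hx⟩ := hne; exact ⟨⟨x, hx⟩, trivial⟩)
  refine ⟨z.1, z.2, ?_⟩
  have := hz.isLocallyClosed.image IsInducing.subtypeVal (by rw [Subtype.range_coe]; exact hZ)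
  rwa [Set.image_singleton] at this

theorem exists_affine_mem {X : Scheme.{u}} [IsLocallyNoetherian X] (x : X) :
    ∃ (R : CommRingCat.{u}) (_ : IsNoetherianRing R) (j : Spec R ⟶ X) (_ : IsOpenImmersion j),
      x ∈ Set.range j.base := by
  obtain ⟨U, hU, hxU, -⟩ := (X.isBasis_affineOpens).exists_subset_of_mem_open (Set.mem_univ x) isOpen_univ
  obtain ⟨V, hV, rfl⟩ := hU
  have hn : IsNoetherianRing Γ(X, V) := IsLocallyNoetherian.component_noetherian ⟨V, hV⟩
  refine ⟨Γ(X, V), hn, hV.fromSpec, hV.isOpenImmersion_fromSpec, ?_⟩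
  rw [hV.range_fromSpec]
  exact hxU

theorem exists_isLocallyClosed_singleton {X : Scheme.{u}} [IsLocallyNoetherian X] {Z : Set X}
    (hZ : IsLocallyClosed Z) (hne : Z.Nonempty) : ∃ x ∈ Z, IsLocallyClosed ({x} : Set X) := by
  obtain ⟨z, hz⟩ := hne
  obtain ⟨R, hR, j, hj, p, rfl⟩ := exists_affine_mem z
  have hne' : (j.base ⁻¹' Z).Nonempty := ⟨p, hz⟩
  obtain ⟨q, hq, hlc⟩ := exists_isLocallyClosed_singleton_of_noetherian (X := ↥(Spec R))
    (Z := j.base ⁻¹' Z) (hZ.preimage j.continuous) hne'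
  refine ⟨j.base q, hq, ?_⟩
  have := hlc.image (f := j.base) j.isOpenEmbedding.isInducing
    j.isOpenEmbedding.isOpen_range.isLocallyClosed
  rwa [Set.image_singleton] at this

/-- no chain `x ⤳ y ⤳ w` of distinct points starting at a locally closed point -/
theorem no_chain_of_isLocallyClosed {X : Scheme.{u}} [IsLocallyNoetherian X] {x y w : X}
    (hx : IsLocallyClosed ({x} : Set X)) (h1 : x ⤳ y) (h2 : y ⤳ w) (n1 : x ≠ y) : y = w := by
  by_contra n2
  obtain ⟨R, hR, j, hj, r, rfl⟩ := exists_affine_mem w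
  obtain ⟨q, rfl⟩ := h2.mem_open j.isOpenEmbedding.isOpen_range ⟨r, rfl⟩
  obtain ⟨p, rfl⟩ := h1.mem_open j.isOpenEmbedding.isOpen_range ⟨q, rfl⟩
  have hlc : IsLocallyClosed ({p} : Set (PrimeSpectrum R)) := by
    have := hx.preimage j.continuous
    rwa [← Set.image_singleton, Set.preimage_image_eq _ j.isOpenEmbedding.injective] at this
  have hpq : @LT.lt (PrimeSpectrum R) _ p q := lt_of_le_of_ne
    ((PrimeSpectrum.le_iff_specializes _ _).2 (j.isOpenEmbedding.isInducing.specializes_iff.1 h1))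
    fun e => n1 (congrArg _ e)
  exact not_lt_lt_of_isLocallyClosed hlc hpq (lt_of_le_of_ne
    ((PrimeSpectrum.le_iff_specializes _ _).2 (j.isOpenEmbedding.isInducing.specializes_iff.1 h2))
    fun e => n2 (congrArg _ e))

theorem finite_closure_inter_range {X : Scheme.{u}} {x : X} (hx : IsLocallyClosed ({x} : Set X))
    {R : CommRingCat.{u}} [IsNoetherianRing R] (j : Spec R ⟶ X) [IsOpenImmersion j] :
    (closure {x} ∩ Set.range j.base).Finite := by
  by_cases hxj : x ∈ Set.range j.base
  · obtain ⟨p, rfl⟩ := hxj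
    have hlc : IsLocallyClosed ({p} : Set (PrimeSpectrum R)) := by
      have := hx.preimage j.continuous
      rwa [← Set.image_singleton, Set.preimage_image_eq _ j.isOpenEmbedding.injective] at this
    refine ((finite_zeroLocus_of_isLocallyClosed hlc).image fun a => j.base a).subset ?_
    rintro _ ⟨hq, q, rfl⟩
    refine ⟨q, ?_, rfl⟩
    exact (PrimeSpectrum.le_iff_specializes p q).2
      (j.isOpenEmbedding.isInducing.specializes_iff.1 (specializes_iff_mem_closure.2 hq))
  · refine Set.finite_empty.subset ?_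
    rintro y ⟨hy, hy'⟩
    exact hxj ((specializes_iff_mem_closure.2 hy).mem_open j.isOpenEmbedding.isOpen_range hy')

theorem finite_closure_of_isLocallyClosed {X : Scheme.{u}} [IsNoetherian X] {x : X}
    (hx : IsLocallyClosed ({x} : Set X)) : (closure ({x} : Set X)).Finite := by
  choose R hR j hj hmem using exists_affine_mem (X := X)
  obtain ⟨t, ht⟩ := isCompact_univ.elim_finite_subcover (fun y => Set.range (j y).base)
    (fun y => (j y).isOpenEmbedding.isOpen_range) fun y _ => Set.mem_iUnion.2 ⟨y, hmem y⟩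
  refine Set.Finite.subset (Set.Finite.biUnion t.finite_toSet fun y _ =>
    finite_closure_inter_range hx (j y)) fun z hz => ?_
  obtain ⟨y, hy, hzy⟩ := Set.mem_iUnion₂.1 (ht (Set.mem_univ z))
  exact Set.mem_iUnion₂.2 ⟨y, hy, hz, hzy⟩

theorem not_jacobsonSpace_spec_of_semilocal_dim_one (R : Type u) [CommRing R] [IsDomain R]
    [IsNoetherianRing R] (hfin : Finite (MaximalSpectrum R)) (hdim : ringKrullDim R = 1) :
    ¬ IsJacobsonRing R := by
  intro hJ
  have hG : IsG R := (isG_iff_semilocal R).2 ⟨hfin, hdim.le⟩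
  have : Algebra.FiniteType R (FractionRing R) := finiteType_fractionRing_of_isG _ hG
  have : Module.Finite R (FractionRing R) := finite_of_finite_type_of_isJacobsonRing _ _
  have hF : IsField R := isField_of_isIntegral_of_isField
    (IsFractionRing.injective R (FractionRing R)) (Field.toIsField _)
  rw [ringKrullDim_eq_zero_of_isField hF] at hdim
  exact zero_ne_one hdim

theorem isMaximal_or_semilocal_dim_one {R : Type u} [CommRing R] [IsNoetherianRing R] (p : Ideal R)
    [p.IsPrime] (h : IsG (R ⧸ p)) :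
    p.IsMaximal ∨ (Finite (MaximalSpectrum (R ⧸ p)) ∧ ringKrullDim (R ⧸ p) = 1) := by
  by_cases hF : IsField (R ⧸ p)
  · exact Or.inl (Ideal.Quotient.maximal_of_isField _ hF)
  obtain ⟨hfin, hdim⟩ := (isG_iff_semilocal (R ⧸ p)).1 h
  refine Or.inr ⟨hfin, le_antisymm hdim ?_⟩
  obtain ⟨q, hq0, hq⟩ := Ring.not_isField_iff_exists_prime.1 hF
  rw [ringKrullDim, Order.one_le_krullDim_iff]
  exact ⟨⟨⊥, Ideal.isPrime_bot⟩, ⟨q, hq⟩, show (⊥ : Ideal (R ⧸ p)) < q from bot_lt_iff_ne_bot.2 hq0⟩

theorem isJacobsonRing_iff_semilocal (A : Type u) [CommRing A] [IsNoetherianRing A] :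
    IsJacobsonRing A ↔
      ∀ (p : Ideal A) [p.IsPrime], ¬ (Finite (MaximalSpectrum (A ⧸ p)) ∧ ringKrullDim (A ⧸ p) = 1) := by
  refine ⟨fun h p _ hp => not_jacobsonSpace_spec_of_semilocal_dim_one (A ⧸ p) hp.1 hp.2
    inferInstance, fun h => isJacobsonRing_of_forall_isG fun p _ hG => ?_⟩
  exact (isMaximal_or_semilocal_dim_one p hG).resolve_right (h p)

end Groth.Agent.EGA43
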