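import Groth.Agent.FlatCrit.Tor
import Mathlib.RingTheory.Flat.TorsionFree
import Mathlib.RingTheory.Ideal.AssociatedPrime.Finiteness
import Mathlib.RingTheory.AdicCompletion.Basic

/-!
# Flatness of ideally separated modules, tested at finitely many primes

`Good p M N`: an element of `N ⊗ M` which vanishes locally at every prime `p i` is zero.  Good
modules are stable under extensions when the `M_{p i}` are flat; this gives the injectivity of
`J ⊗ M → M` and hence flatness for ideally separated modules.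
-/

universe u

namespace Groth.Agent.EGA43.IdeallySep

open TensorProduct Function Groth.Agent.FlatCrit

variable {A : Type u} [CommRing A] {M : Type u} [AddCommGroup M] [Module A M]

/-- An element of `B ⊗ M` killed outside `p` by an injective map, with `M_p` flat. -/
theorem exists_smul_eq_zero_of_rTensor {p : Ideal A} [p.IsPrime]
    (hflat : Module.Flat (Localization.AtPrime p) (LocalizedModule p.primeCompl M))
    {N N' : Type u} [AddCommGroup N] [Module A N] [AddCommGroup N'] [Module A N'] (f : N →ₗ[A] N')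
    (hf : Injective f) (z : N ⊗[A] M) (hz : f.rTensor M z = 0) : ∃ s ∈ p.primeCompl, s • z = 0 := by
  haveI : Module.Flat A (LocalizedModule p.primeCompl M) :=
    Module.Flat.trans A (Localization.AtPrime p) _
  let g := LocalizedModule.mkLinearMap p.primeCompl M
  let G := AlgebraTensorModule.rTensor A N g
  haveI : IsLocalizedModule p.primeCompl G := IsLocalizedModule.rTensor (R := A) (A := A) (N := N) p.primeCompl g
  have hc : ∀ w : N ⊗[A] M, f.lTensor (LocalizedModule p.primeCompl M) (G (TensorProduct.comm A N M w))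
      = g.rTensor N' (TensorProduct.comm A N' M (f.rTensor M w)) := by
    intro w
    induction w with
    | zero => simp
    | add a b ha hb => simp only [map_add, ha, hb]
    | tmul a b => simp [G]
  have h0 : G (TensorProduct.comm A N M z) = 0 :=
    (injective_iff_map_eq_zero _).mp
      (Module.Flat.lTensor_preserves_injective_linearMap f hf) _ (by rw [hc, hz, map_zero, map_zero])
  obtain ⟨⟨s, hs⟩, h⟩ := (IsLocalizedModule.eq_zero_iff p.primeCompl G).mp h0
  refine ⟨s, hs, (TensorProduct.comm A N M).injective ?_⟩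
  rw [map_smul, map_zero]
  exact h

variable {ι : Type*} (p : ι → Ideal A)

/-- An element of `N ⊗ M` vanishing at all `p i` is zero. -/
def Good (M : Type u) [AddCommGroup M] [Module A M] (N : Type u) [AddCommGroup N] [Module A N] :
    Prop :=
  ∀ z : N ⊗[A] M, (∀ i, ∃ s ∉ p i, s • z = 0) → z = 0

variable {p} [∀ i, (p i).IsPrime]

theorem good_of_killed [Finite ι] {J : Ideal A} (h2 : QuotFlat A M J) {N : Type u} [AddCommGroup N]
    [Module A N] (hkill : ∀ r ∈ J, ∀ x : N, r • x = 0)
    (hreg : ∀ s : A, (∀ i, s ∉ p i) → ∀ x : N, s • x = 0 → x = 0) : Good p M N := by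
  intro z hz
  obtain ⟨s, hs, hsp⟩ : ∃ s : A, s • z = 0 ∧ ∀ i, s ∉ p i := by
    by_contra hcon
    push Not at hcon
    let I : Ideal A := LinearMap.ker (LinearMap.toSpanSingleton A _ z)
    have hsub : (I : Set A) ⊆ ⋃ q ∈ Set.range p, (q : Set A) := fun s hs => by
      obtain ⟨i, hi⟩ := hcon s (by simpa [I] using hs)
      exact Set.mem_biUnion (Set.mem_range_self i) hi
    obtain ⟨_, ⟨i, rfl⟩, hle⟩ := (Ideal.subset_union_prime_finite (Set.finite_range p) (f := id) ⊥ ⊥
      (by rintro _ ⟨i, rfl⟩ _ _; exact inferInstanceAs (p i).IsPrime)).1 hsub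
    obtain ⟨s, hs, hsz⟩ := hz i
    exact hs (hle (by simpa [I] using hsz))
  have hinj : Injective (LinearMap.lsmul A N s) :=
    (injective_iff_map_eq_zero _).mpr fun x hx => hreg s hsp x hx
  have h := h2 (LinearMap.lsmul A N s) hkill hinj
  refine (injective_iff_map_eq_zero _).mp h z ?_
  rw [← hs]
  clear hs hz
  induction z with
  | zero => simp
  | add a b ha hb => simp only [map_add, smul_add, ha, hb]
  | tmul a b => simp [TensorProduct.smul_tmul']

theorem good_of_linearEquiv {N N' : Type u} [AddCommGroup N] [Module A N] [AddCommGroup N']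
    [Module A N'] (h : Good p M N) (e : N ≃ₗ[A] N') : Good p M N' := by
  intro z hz
  have := h (LinearEquiv.rTensor M e.symm z) fun i => by
    obtain ⟨s, hs, hsz⟩ := hz i
    exact ⟨s, hs, by rw [← map_smul, hsz, map_zero]⟩
  exact (LinearEquiv.rTensor M e.symm).map_eq_zero_iff.mp this

theorem good_extension
    (hflat : ∀ i, Module.Flat (Localization.AtPrime (p i)) (LocalizedModule (p i).primeCompl M))
    {N : Type u} [AddCommGroup N] [Module A N] (N' : Submodule A N) (h' : Good p M N')
    (h'' : Good p M (N ⧸ N')) : Good p M N := by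
  intro z hz
  have hq : N'.mkQ.rTensor M z = 0 := h'' _ fun i => by
    obtain ⟨s, hs, hsz⟩ := hz i
    exact ⟨s, hs, by rw [← map_smul, hsz, map_zero]⟩
  obtain ⟨w, rfl⟩ := (rTensor_exact M (LinearMap.exact_subtype_mkQ N') (Submodule.mkQ_surjective N') z).mp hq
  rw [h' w fun i => ?_, map_zero]
  obtain ⟨s, hs, hsz⟩ := hz i
  obtain ⟨t, ht, htz⟩ := exists_smul_eq_zero_of_rTensor (hflat i) N'.subtype Subtype.val_injective
    (s • w) (by rw [map_smul, hsz])
  exact ⟨t * s, (p i).primeCompl.mul_mem ht hs, by rw [mul_smul, htz]⟩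

theorem good_quotient_filtration
    (hflat : ∀ i, Module.Flat (Localization.AtPrime (p i)) (LocalizedModule (p i).primeCompl M))
    {N : Type u} [AddCommGroup N] [Module A N] (L : ℕ → Submodule A N) (h0 : L 0 = ⊤)
    (hanti : ∀ m, L (m + 1) ≤ L m)
    (hgr : ∀ m, Good p M ((L m).map (L (m + 1)).mkQ)) : ∀ m, Good p M (N ⧸ L m) := by
  intro m
  induction m with
  | zero =>
    intro z _
    have : Subsingleton (N ⧸ L 0) := by
      rw [Submodule.Quotient.subsingleton_iff]; exact h0
    exact Subsingleton.elim _ _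
  | succ m ih =>
    exact good_extension hflat _ (hgr m)
      (good_of_linearEquiv ih (Submodule.quotientQuotientEquivQuotient _ _ (hanti m)).symm)

/-- `J ⊗ M → M` is injective if `J ⊗ M` is separated and `J` has a cofinal good filtration. -/
theorem rTensor_subtype_injective
    (hflat : ∀ i, Module.Flat (Localization.AtPrime (p i)) (LocalizedModule (p i).primeCompl M))
    (J : Ideal A) (hsep : IsHausdorff J (↥J ⊗[A] M))
    (hgood : ∀ n, ∃ L : Submodule A J, (∀ x ∈ L, (x : A) ∈ J ^ n) ∧ Good p M (↥J ⧸ L)) :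
    Injective (J.subtype.rTensor M) := by
  rw [injective_iff_map_eq_zero]
  intro y hy
  refine hsep.haus' y fun n => ?_
  rw [SModEq.zero]
  obtain ⟨L, hL, hg⟩ := hgood (n + 1)
  have h0 : L.mkQ.rTensor M y = 0 := hg _ fun i => by
    obtain ⟨s, hs, hsy⟩ := exists_smul_eq_zero_of_rTensor (hflat i) J.subtype Subtype.val_injective y hy
    exact ⟨s, hs, by rw [← map_smul, hsy, map_zero]⟩
  obtain ⟨w, rfl⟩ := (rTensor_exact M (LinearMap.exact_subtype_mkQ L) (Submodule.mkQ_surjective L) y).mp h0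
  clear hy h0
  induction w with
  | zero => simp
  | add a b ha hb => rw [map_add]; exact add_mem ha hb
  | tmul a b =>
    rw [LinearMap.rTensor_tmul]
    have ha : (a : J) ∈ J ^ n • (⊤ : Submodule A J) := by
      have h1 : ((a : J) : A) ∈ J ^ n • J := by
        rw [smul_eq_mul, ← pow_succ]; exact hL _ a.2
      have h2 : ((a : J) : A) ∈ (J ^ n • (⊤ : Submodule A J)).map J.subtype := by
        rw [Submodule.map_smul'', Submodule.map_top, Submodule.range_subtype]
        exact h1
      obtain ⟨j', hj', hjj'⟩ := h2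
      rwa [show (a : J) = j' from Subtype.ext hjj'.symm]
    show (a : J) ⊗ₜ[A] b ∈ _
    refine Submodule.smul_induction_on (p := fun z : J => z ⊗ₜ[A] b ∈ J ^ n • (⊤ : Submodule A (J ⊗[A] M)))
      ha (fun r hr z _ => ?_) (fun c d hc hd => ?_)
    · rw [← smul_tmul']; exact Submodule.smul_mem_smul hr trivial
    · rw [add_tmul]; exact add_mem hc hd

/-- The criterion for ideally separated modules: `M/JⁿM` flat over `A/Jⁿ` for all `n` suffices. -/
theorem flat_of_isHausdorff [IsNoetherianRing A] (J : Ideal A)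
    (hsep : ∀ a : Ideal A, IsHausdorff J (↥a ⊗[A] M)) (h : ∀ n, QuotFlat A M (J ^ n)) :
    Module.Flat A M := by
  rw [Module.Flat.iff_rTensor_injective]
  intro a _ha
  rw [injective_iff_map_eq_zero]
  intro x hx
  obtain ⟨k, hk⟩ := Ideal.exists_pow_inf_eq_pow_smul J (a : Submodule A A)
  refine (hsep a).haus' x fun m => ?_
  rw [SModEq.zero]
  let π : a →ₗ[A] A ⧸ J ^ (m + k) := (Submodule.mkQ (J ^ (m + k))) ∘ₗ a.subtype
  have hinj : Injective ((LinearMap.range π).subtype.rTensor M) := by
    refine h (m + k) _ (fun r hr b => ?_) Subtype.val_injective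
    obtain ⟨b, rfl⟩ := Submodule.Quotient.mk_surjective _ b
    rw [← Submodule.Quotient.mk_smul, Submodule.Quotient.mk_eq_zero]
    exact Ideal.mul_mem_right _ _ hr
  have hπ : π.rangeRestrict.rTensor M x = 0 := by
    apply (injective_iff_map_eq_zero _).mp hinj
    rw [← LinearMap.comp_apply, ← LinearMap.rTensor_comp, LinearMap.subtype_comp_codRestrict,
      LinearMap.rTensor_comp, LinearMap.comp_apply, hx, map_zero]
  have hex : Exact (LinearMap.ker π).subtype π.rangeRestrict := by
    rw [LinearMap.exact_iff, LinearMap.ker_rangeRestrict, Submodule.range_subtype]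
  obtain ⟨y, rfl⟩ := (rTensor_exact M hex π.surjective_rangeRestrict _).mp hπ
  clear hπ hex hinj hx
  have hker : LinearMap.ker π ≤ J ^ m • (⊤ : Submodule A a) := by
    rintro ⟨j, hj⟩ hj'
    have hj'' : j ∈ J ^ (m + k) := (Submodule.Quotient.mk_eq_zero _).mp hj'
    have : j ∈ J ^ (m + k) • (⊤ : Submodule A A) ⊓ a := ⟨by simpa using hj'', hj⟩
    rw [hk (m + k) (by omega), Nat.add_sub_cancel] at this
    have hsm : j ∈ (J ^ m • (⊤ : Submodule A a)).map a.subtype := by
      rw [Submodule.map_smul'', Submodule.map_top, Submodule.range_subtype]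
      exact Submodule.smul_mono le_rfl inf_le_right this
    obtain ⟨j', hj1, hj2⟩ := hsm
    rwa [show (⟨j, hj⟩ : a) = j' from Subtype.ext hj2.symm]
  induction y with
  | zero => simp
  | add c d hc hd => rw [map_add]; exact add_mem hc hd
  | tmul c b =>
    rw [LinearMap.rTensor_tmul]
    show (c : a) ⊗ₜ[A] b ∈ _
    refine Submodule.smul_induction_on (p := fun z : a => z ⊗ₜ[A] b ∈ J ^ m • (⊤ : Submodule A (a ⊗[A] M)))
      (hker c.2) (fun r hr z _ => ?_) (fun c d hc hd => ?_)
    · rw [← smul_tmul']; exact Submodule.smul_mem_smul hr trivial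
    · rw [add_tmul]; exact add_mem hc hd

theorem flat_of_good [IsNoetherianRing A] [Finite ι] (J : Ideal A)
    (hsep : ∀ a : Ideal A, IsHausdorff J (↥a ⊗[A] M))
    (hJ : Module.Flat (A ⧸ J) ((A ⧸ J) ⊗[A] M))
    (hflat : ∀ i, Module.Flat (Localization.AtPrime (p i)) (LocalizedModule (p i).primeCompl M))
    (L : ℕ → Submodule A J) (h0 : L 0 = ⊤) (hanti : ∀ m, L (m + 1) ≤ L m)
    (hcof : ∀ n, ∃ m, ∀ x ∈ L m, (x : A) ∈ J ^ n)
    (hkill : ∀ m, ∀ r ∈ J, ∀ x ∈ L m, r • x ∈ L (m + 1))
    (hreg : ∀ m (s : A), (∀ i, s ∉ p i) → ∀ x ∈ L m, s • x ∈ L (m + 1) → x ∈ L (m + 1)) :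
    Module.Flat A M := by
  have h2 : QuotFlat A M J := quotFlat_of_flat J hJ
  have hgood : ∀ m, Good p M (↥J ⧸ L m) := good_quotient_filtration hflat L h0 hanti fun m => by
    refine good_of_killed h2 ?_ ?_
    · rintro r hr ⟨_, x, hx, rfl⟩
      apply Subtype.ext
      show r • (L (m + 1)).mkQ x = 0
      rw [← map_smul]
      exact (Submodule.Quotient.mk_eq_zero _).mpr (hkill m r hr x hx)
    · rintro s hs ⟨_, x, hx, rfl⟩ h
      apply Subtype.ext
      have h' : s • (L (m + 1)).mkQ x = 0 := congrArg Subtype.val h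
      rw [← map_smul] at h'
      exact (Submodule.Quotient.mk_eq_zero _).mpr
        (hreg m s hs x hx ((Submodule.Quotient.mk_eq_zero _).mp h'))
  refine flat_of_isHausdorff J hsep fun n => quotFlat_pow ?_ h2 n
  refine rTensor_subtype_injective hflat J (hsep J) fun n => ?_
  obtain ⟨m, hm⟩ := hcof n
  exact ⟨L m, hm, hgood m⟩

theorem localized_flat [Module.Flat A M] (q : Ideal A) [q.IsPrime] :
    Module.Flat (Localization.AtPrime q) (LocalizedModule q.primeCompl M) :=
  Module.Flat.localizedModule q.primeCompl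

theorem flat_iff_symbolic [IsNoetherianRing A] [Finite ι] (J : Ideal A)
    (hsep : ∀ a : Ideal A, IsHausdorff J (↥a ⊗[A] M)) (hp : ∀ i, J ≤ p i)
    (htop : ∀ n : ℕ, ∃ m : ℕ,
      ⨅ i, Ideal.comap (algebraMap A (Localization.AtPrime (p i)))
        (IsLocalRing.maximalIdeal (Localization.AtPrime (p i)) ^ m) ≤ J ^ n) :
    Module.Flat A M ↔
      Module.Flat (A ⧸ J) ((A ⧸ J) ⊗[A] M) ∧
        ∀ i, Module.Flat (Localization.AtPrime (p i)) (LocalizedModule (p i).primeCompl M) := by
  refine ⟨fun h => ⟨inferInstance, fun i => localized_flat (p i)⟩, fun ⟨hJ, hflat⟩ => ?_⟩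
  let S : ℕ → Ideal A := fun m => ⨅ i, Ideal.comap (algebraMap A (Localization.AtPrime (p i)))
        (IsLocalRing.maximalIdeal (Localization.AtPrime (p i)) ^ m)
  let L : ℕ → Submodule A J := fun m => Submodule.comap J.subtype (S m)
  have hmemS : ∀ (m : ℕ) (x : A), x ∈ S m ↔ ∀ i, algebraMap A (Localization.AtPrime (p i)) x ∈
      IsLocalRing.maximalIdeal (Localization.AtPrime (p i)) ^ m := fun m x => by
    simp [S, Ideal.mem_iInf]
  refine flat_of_good J hsep hJ hflat L ?_ ?_ ?_ ?_ ?_
  · refine eq_top_iff.mpr fun x _ => (hmemS 0 x).mpr fun i => ?_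
    simp
  · exact fun m x hx => (hmemS m x).mpr fun i =>
      Ideal.pow_le_pow_right (Nat.le_succ m) ((hmemS (m + 1) x).mp hx i)
  · intro n
    obtain ⟨m, hm⟩ := htop n
    exact ⟨m, fun x hx => hm hx⟩
  · intro m r hr x hx
    refine (hmemS (m + 1) _).mpr fun i => ?_
    show algebraMap A _ (r * (x : A)) ∈ _
    rw [map_mul, pow_succ']
    exact Ideal.mul_mem_mul ((IsLocalization.AtPrime.to_map_mem_maximal_iff _ (p i) r).mpr (hp i hr))
      ((hmemS m x).mp hx i)
  · intro m s hs x _ hsx
    refine (hmemS (m + 1) _).mpr fun i => ?_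
    have h1 : algebraMap A (Localization.AtPrime (p i)) (s * (x : A)) ∈
        IsLocalRing.maximalIdeal (Localization.AtPrime (p i)) ^ (m + 1) := (hmemS (m + 1) _).mp hsx i
    rw [map_mul] at h1
    exact (Ideal.unit_mul_mem_iff_mem _
      (IsLocalization.map_units _ (⟨s, hs i⟩ : (p i).primeCompl))).mp h1

theorem flat_iff_gr [IsNoetherianRing A] (J : Ideal A)
    (hsep : ∀ a : Ideal A, IsHausdorff J (↥a ⊗[A] M))
    (hgr : ∀ k : ℕ, Module.Flat (A ⧸ J) ((A ⧸ J) ⊗[A] ↥(J ^ k))) :
    Module.Flat A M ↔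
      Module.Flat (A ⧸ J) ((A ⧸ J) ⊗[A] M) ∧
        ∀ q : associatedPrimes A (A ⧸ J),
          haveI : q.1.IsPrime := IsAssociatedPrime.isPrime q.2
          Module.Flat (Localization.AtPrime q.1) (LocalizedModule q.1.primeCompl M) := by
  haveI : Finite (associatedPrimes A (A ⧸ J)) := (associatedPrimes.finite A (A ⧸ J)).to_subtype
  haveI hpr : ∀ q : associatedPrimes A (A ⧸ J), q.1.IsPrime := fun q => IsAssociatedPrime.isPrime q.2
  refine ⟨fun h => ⟨inferInstance, fun q => localized_flat q.1⟩, fun ⟨hJ, hflat⟩ => ?_⟩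
  let L : ℕ → Submodule A J := fun m => Submodule.comap J.subtype (J ^ (m + 1))
  refine flat_of_good (p := fun q : associatedPrimes A (A ⧸ J) => q.1) J hsep hJ hflat L ?_ ?_ ?_ ?_ ?_
  · refine eq_top_iff.mpr fun x _ => ?_
    show (x : A) ∈ J ^ (0 + 1)
    rw [zero_add, pow_one]; exact x.2
  · exact fun m x hx => Ideal.pow_le_pow_right (Nat.le_succ _) hx
  · exact fun n => ⟨n, fun x hx => Ideal.pow_le_pow_right (Nat.le_succ n) hx⟩
  · intro m r hr x hx
    show r * (x : A) ∈ J ^ (m + 1 + 1)
    rw [pow_succ']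
    exact Ideal.mul_mem_mul hr hx
  · intro m s hs x hx hsx
    have hs0 : Ideal.Quotient.mk J s ∈ nonZeroDivisors (A ⧸ J) := by
      rw [mem_nonZeroDivisors_iff_right]
      intro c hc
      by_contra hne
      have hmem : s ∈ ⋃ q ∈ associatedPrimes A (A ⧸ J), (q : Set A) := by
        rw [biUnion_associatedPrimes_eq_zero_divisors]
        refine ⟨c, hne, ?_⟩
        rw [Algebra.smul_def, mul_comm]
        exact hc
      simp only [Set.mem_iUnion] at hmem
      obtain ⟨q, hq, hsq⟩ := hmem
      exact hs ⟨q, hq⟩ hsq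
    have hreg := @Module.Flat.isSMulRegular_of_nonZeroDivisors (A ⧸ J)
      ((A ⧸ J) ⊗[A] ↥(J ^ (m + 1))) _ _ _ _ hs0 (hgr (m + 1))
    let x' : ↥(J ^ (m + 1)) := ⟨(x : A), hx⟩
    have hsub : ∀ y : ↥(J ^ (m + 1)),
        ((1 : A ⧸ J) ⊗ₜ[A] y = 0 ↔ (y : A) ∈ J ^ (m + 1 + 1)) := by
      intro y
      rw [← (quotTensorEquivQuotSMul _ J).map_eq_zero_iff, ← map_one (Ideal.Quotient.mk J),
        quotTensorEquivQuotSMul_mk_tmul, one_smul, Submodule.Quotient.mk_eq_zero]
      have hmap : (J • ⊤ : Submodule A ↥(J ^ (m + 1))).map (J ^ (m + 1)).subtype = J ^ (m + 1 + 1) := by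
        rw [Submodule.map_smul'', Submodule.map_top, Submodule.range_subtype, smul_eq_mul, ← pow_succ']
      rw [← hmap, Submodule.mem_map]
      exact ⟨fun h => ⟨y, h, rfl⟩, fun ⟨z, hz, hzy⟩ => Subtype.ext hzy ▸ hz⟩
    refine (hsub x').mp (hreg ?_)
    show Ideal.Quotient.mk J s • ((1 : A ⧸ J) ⊗ₜ[A] x') = Ideal.Quotient.mk J s • 0
    rw [smul_zero, TensorProduct.smul_tmul']
    have : (Ideal.Quotient.mk J s • (1 : A ⧸ J)) = s • (1 : A ⧸ J) := by
      rw [smul_eq_mul, Algebra.smul_def, Ideal.Quotient.algebraMap_eq]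
    rw [this, TensorProduct.smul_tmul]
    exact (hsub (s • x')).mpr hsx

end Groth.Agent.EGA43.IdeallySep
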