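import Mathlib.AlgebraicGeometry.Morphisms.ClosedImmersion
import Mathlib.AlgebraicGeometry.PullbackCarrier
import Mathlib.AlgebraicGeometry.Properties

/-!
# The component meeting the generic fibre, after an integral base change
-/

set_option autoImplicit false
set_option backward.isDefEq.respectTransparency false

universe u

open CategoryTheory CategoryTheory.Limits AlgebraicGeometry TopologicalSpace

namespace Groth.Agent.EGA43.IntBC

theorem base_genericPoint {X Y : Scheme.{u}} [IrreducibleSpace X] [IrreducibleSpace Y] (f : X ⟶ Y)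
    [IsDominant f] : f (genericPoint X) = genericPoint Y := by
  refine ((genericPoint_spec X).image f.continuous).eq ?_
  rw [Set.image_univ, f.denseRange.closure_range]
  exact genericPoint_spec Y

theorem isIso_map {X₀ Y₀ Y : Scheme.{u}} [IsIntegral Y₀] [IsIntegral Y]
    (g : Y ⟶ Y₀) [IsDominant g] (f₀ : X₀ ⟶ Y₀)
    (hirr : IsIrreducible (f₀.base ⁻¹' {genericPoint Y₀}))
    (C : TopologicalSpace.Closeds X₀) (hC : (C : Set X₀) ∈ irreducibleComponents (X₀ : Type u))
    (hCη : ((C : Set X₀) ∩ f₀.base ⁻¹' {genericPoint Y₀}).Nonempty) [IsIntegral (pullback f₀ g)]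
    (e₁ : ((Scheme.IdealSheafData.vanishingIdeal C).subschemeι ≫ f₀) ≫ 𝟙 Y₀ =
      (Scheme.IdealSheafData.vanishingIdeal C).subschemeι ≫ f₀) (e₂ : g ≫ 𝟙 Y₀ = 𝟙 Y ≫ g) :
    IsIso (pullback.map ((Scheme.IdealSheafData.vanishingIdeal C).subschemeι ≫ f₀) g f₀ g
      (Scheme.IdealSheafData.vanishingIdeal C).subschemeι (𝟙 Y) (𝟙 Y₀) e₁ e₂) := by
  set i := (Scheme.IdealSheafData.vanishingIdeal C).subschemeι with hi
  have hdec : pullback.map (i ≫ f₀) g f₀ g i (𝟙 Y) (𝟙 Y₀) e₁ e₂ =
      (pullbackRightPullbackFstIso f₀ g i).inv ≫ pullback.snd i (pullback.fst f₀ g) := by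
    apply pullback.hom_ext <;> simp [pullback.map, pullback.condition]
  haveI hci : IsClosedImmersion (pullback.map (i ≫ f₀) g f₀ g i (𝟙 Y) (𝟙 Y₀) e₁ e₂) := by
    rw [hdec]; infer_instance
  have hrange : Set.range i = (C : Set X₀) := by
    rw [hi, Scheme.IdealSheafData.range_subschemeι, Scheme.IdealSheafData.coe_support_vanishingIdeal]
  set p := pullback.fst f₀ g
  set q := pullback.snd f₀ g
  set η := genericPoint (pullback f₀ g : Scheme.{u})
  -- a point over the generic point of `Y`
  obtain ⟨x₁, hx₁C, hx₁⟩ := hCη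
  have hgη := base_genericPoint g
  obtain ⟨z, -, hz⟩ := Scheme.Pullback.exists_preimage_pullback (f := f₀) (g := g) x₁ (genericPoint Y)
    (hx₁.trans hgη.symm)
  have hqη : q η = genericPoint Y := by
    refine ((((genericPoint_specializes z).map q.continuous).trans (hz ▸ specializes_rfl : q z ⤳ genericPoint Y)).antisymm
      (genericPoint_specializes (q η))).eq
  have hpη : p η ∈ f₀.base ⁻¹' {genericPoint Y₀} := by
    show f₀ (p η) = genericPoint Y₀
    rw [← Scheme.Hom.comp_apply, pullback.condition, Scheme.Hom.comp_apply, hqη, hgη]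
  -- the generic point of the fibre is the generic point of `C`
  obtain ⟨c, hc⟩ := QuasiSober.sober hC.1 C.2
  have hcx₁ : c ⤳ x₁ := hc.specializes hx₁C
  have hcη : f₀ c = genericPoint Y₀ := by
    refine (Specializes.antisymm ?_ (genericPoint_specializes _)).eq
    rw [← show f₀ x₁ = genericPoint Y₀ from hx₁]
    exact hcx₁.map f₀.continuous
  obtain ⟨ξ, hξ⟩ := QuasiSober.sober hirr.closure isClosed_closure
  have hsub : ∀ w ∈ f₀.base ⁻¹' {genericPoint Y₀}, ξ ⤳ w := fun w hw => hξ.specializes (subset_closure hw)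
  have hmem : p η ∈ (C : Set X₀) := by
    have hξc : ξ ⤳ c := hsub c hcη
    have hle : (C : Set X₀) ⊆ closure {ξ} := by
      rw [← hc.def]
      exact closure_minimal (Set.singleton_subset_iff.2 hξc.mem_closure) isClosed_closure
    exact hC.2 isIrreducible_singleton.closure hle (hsub _ hpη).mem_closure
  haveI : Surjective (pullback.map (i ≫ f₀) g f₀ g i (𝟙 Y) (𝟙 Y₀) e₁ e₂) := by
    refine ⟨fun w => ?_⟩
    have hηr : η ∈ Set.range (pullback.map (i ≫ f₀) g f₀ g i (𝟙 Y) (𝟙 Y₀) e₁ e₂) := by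
      rw [Scheme.Pullback.range_map]
      exact ⟨hrange.ge hmem, ⟨q η, rfl⟩⟩
    exact (genericPoint_specializes w).mem_closed
      (pullback.map (i ≫ f₀) g f₀ g i (𝟙 Y) (𝟙 Y₀) e₁ e₂).isClosedEmbedding.isClosed_range hηr
  exact isIso_of_isClosedImmersion_of_surjective _

end Groth.Agent.EGA43.IntBC
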