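import Mathlib.RingTheory.DiscreteValuationRing.Basic
import Mathlib.RingTheory.AlgebraicIndependent.Basic
import Mathlib.RingTheory.Filtration
import Groth.Agent.QReg6.Regular
import Groth.Agent.CAlgH3.RegularCore
import Groth.Agent.CAlgH3.RegularLocal

/-!
# The order valuation of a regular local ring (EGA IV 14.4.3-type lemma)
-/

universe u

set_option autoImplicit false

open MvPolynomial IsLocalRing

namespace Groth.Agent.EGA43.OrdDVR

variable {A : Type u} [CommRing A]

/-- Regular parameters form a quasi-regular sequence. -/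
theorem exists_quasiRegular (A : Type u) [CommRing A] [IsRegularLocalRing A] (hA : ¬ IsField A) :
    ∃ (n : ℕ) (f : Fin (n + 1) → A), Ideal.span (Set.range f) = maximalIdeal A ∧ CAlgX.IsQuasiRegular f := by
  obtain ⟨rs, -, hspan, hreg⟩ := CAlgH3.exists_isRegular_ofList_eq_maximalIdeal (R := A)
  obtain ⟨n, hn⟩ : ∃ n, rs.length = n + 1 := by
    refine Nat.exists_eq_succ_of_ne_zero fun h => hA ?_
    rw [List.length_eq_zero_iff.1 h, Ideal.ofList_nil] at hspan
    exact (IsLocalRing.isField_iff_maximalIdeal_eq).2 hspan.symm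
  let f : Fin (n + 1) → A := fun i => rs[(i : ℕ)]'(by omega)
  have hf : List.ofFn f = rs := List.ext_getElem (by rw [List.length_ofFn, hn]) fun i h1 h2 => by rw [List.getElem_ofFn]
  have hspan' : Ideal.span (Set.range f) = maximalIdeal A := by
    rw [← hspan, Ideal.ofList, ← hf]
    congr 1
    ext x
    exact List.mem_ofFn.symm
  refine ⟨n, f, hspan', QReg6.isQuasiRegular_of_regular fun k a ha => ?_⟩
  have hw : RingTheory.Sequence.IsWeaklyRegular A (List.ofFn f) := hf ▸ hreg.toIsWeaklyRegular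
  rw [RingTheory.Sequence.isWeaklyRegular_iff_Fin] at hw
  have hk := hw ⟨k, by rw [List.length_ofFn]; exact k.2⟩
  have e1 : (Ideal.ofList ((List.ofFn f).take k) : Ideal A) = Ideal.span (f '' Set.Iio k) := by
    rw [Ideal.ofList]
    congr 1
    ext x
    constructor
    · intro hx
      obtain ⟨i, hi, rfl⟩ := List.mem_take_iff_getElem.mp hx
      rw [List.length_ofFn] at hi
      exact ⟨⟨i, by omega⟩, Fin.lt_def.mpr (lt_min_iff.mp hi).1, (List.getElem_ofFn _).symm⟩
    · rintro ⟨i, hi, rfl⟩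
      exact List.mem_take_iff_getElem.mpr ⟨i, by rw [List.length_ofFn]; exact lt_min hi i.2,
        List.getElem_ofFn _⟩
  simp only [List.getElem_ofFn, Fin.getElem_fin, e1,
    isSMulRegular_quotient_iff_mem_of_smul_mem, smul_eq_mul, Ideal.mul_top] at hk
  exact hk a (by rwa [mul_comm])

variable [IsLocalRing A] {n : ℕ} {f : Fin (n + 1) → A} (hspan : Ideal.span (Set.range f) = maximalIdeal A)
  (hqr : CAlgX.IsQuasiRegular f)

include hspan hqr in
theorem coeff_mem {k : ℕ} {P : MvPolynomial (Fin (n + 1)) A} (hP : P.IsHomogeneous k)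
    (h : eval f P ∈ maximalIdeal A ^ (k + 1)) (d : Fin (n + 1) →₀ ℕ) : P.coeff d ∈ maximalIdeal A :=
  hspan ▸ hqr k P hP (by rwa [hspan]) d

include hspan hqr in
theorem mul_not_mem {a b : A} {k l : ℕ} (ha : a ∈ maximalIdeal A ^ k) (ha' : a ∉ maximalIdeal A ^ (k + 1))
    (hb : b ∈ maximalIdeal A ^ l) (hb' : b ∉ maximalIdeal A ^ (l + 1)) :
    a * b ∉ maximalIdeal A ^ (k + l + 1) := by
  classical
  intro h
  rw [← hspan] at ha hb
  obtain ⟨P, hP, rfl⟩ := QReg6.exists_homogeneous_eval f ha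
  obtain ⟨Q, hQ, rfl⟩ := QReg6.exists_homogeneous_eval f hb
  have key : ∀ (j : ℕ) (R : MvPolynomial (Fin (n + 1)) A), R.IsHomogeneous j →
      R.map (residue A) = 0 → eval f R ∈ maximalIdeal A ^ (j + 1) := fun j R hR h0 => by
    rw [eval_eq, pow_succ']
    refine Submodule.sum_mem _ fun d hd => Ideal.mul_mem_mul ?_ ?_
    · rw [← residue_eq_zero_iff, ← coeff_map, h0, coeff_zero]
    · have hd' : d.sum (fun _ k => k) = j := by
        rw [← hR (mem_support_iff.mp hd)]
        simp [Finsupp.weight_apply]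
      rw [← hd', Finsupp.sum, ← Finset.prod_pow_eq_pow_sum]
      exact Ideal.prod_mem_prod fun i _ => Ideal.pow_mem_pow
        (hspan ▸ Ideal.subset_span (Set.mem_range_self i)) _
  have hPQ : (P * Q).map (residue A) = 0 := MvPolynomial.ext _ _ fun d => by
    rw [coeff_map, coeff_zero, residue_eq_zero_iff]
    exact coeff_mem hspan hqr (hP.mul hQ) (by rwa [map_mul]) d
  rw [map_mul, mul_eq_zero] at hPQ
  rcases hPQ with h0 | h0
  · exact ha' (key k P hP h0)
  · exact hb' (key l Q hQ h0)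

/-- `a` has order exactly `k`. -/
def Exact' (a : A) (k : ℕ) : Prop := a ∈ maximalIdeal A ^ k ∧ a ∉ maximalIdeal A ^ (k + 1)

include hspan hqr in
theorem Exact'.mul {a b : A} {k l : ℕ} (ha : Exact' a k) (hb : Exact' b l) : Exact' (a * b) (k + l) :=
  ⟨pow_add (maximalIdeal A) k l ▸ Ideal.mul_mem_mul ha.1 hb.1, mul_not_mem hspan hqr ha.1 ha.2 hb.1 hb.2⟩

theorem exact'_one : Exact' (1 : A) 0 :=
  ⟨by simp, fun h => (maximalIdeal.isMaximal A).ne_top ((Ideal.eq_top_iff_one _).2 (by simpa using h))⟩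

theorem Exact'.ne_zero {a : A} {k : ℕ} (ha : Exact' a k) : a ≠ 0 := fun h => ha.2 (h ▸ zero_mem _)

include hspan hqr in
theorem exact'_f (i : Fin (n + 1)) : Exact' (f i) 1 := by
  classical
  refine ⟨by simpa [← hspan] using Ideal.subset_span (Set.mem_range_self i), fun h => ?_⟩
  have := coeff_mem hspan hqr (isHomogeneous_X A i) (by rwa [eval_X]) (Finsupp.single i 1)
  rw [coeff_X, if_pos rfl] at this
  exact (maximalIdeal.isMaximal A).ne_top ((Ideal.eq_top_iff_one _).2 this)

include hspan hqr in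
theorem exact'_pow (i : Fin (n + 1)) : ∀ k : ℕ, Exact' (f i ^ k) k
  | 0 => by rw [pow_zero]; exact exact'_one
  | k + 1 => by rw [pow_succ]; exact (exact'_pow i k).mul hspan hqr (exact'_f hspan hqr i)

theorem exists_exact' [IsNoetherianRing A] {a : A} (ha : a ≠ 0) : ∃ k, Exact' a k := by
  by_contra h
  simp only [Exact', not_exists, not_and, not_not] at h
  refine ha (Submodule.mem_bot A |>.1 ?_)
  rw [← Ideal.iInf_pow_eq_bot_of_isLocalRing (maximalIdeal A) (maximalIdeal.isMaximal A).ne_top, Submodule.mem_iInf]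
  intro k
  induction k with
  | zero => simp
  | succ k ih => exact h k ih

variable [IsNoetherianRing A] [IsDomain A]

local notation "𝕂" => FractionRing A

/-- The order valuation ring. -/
def ordRing : Subalgebra A (FractionRing A) where
  carrier := {z | ∃ a b k, Exact' b k ∧ a ∈ maximalIdeal A ^ k ∧ z = algebraMap A 𝕂 a / algebraMap A 𝕂 b}
  mul_mem' := by
    rintro _ _ ⟨a, b, k, hb, ha, rfl⟩ ⟨c, e, l, he, hc, rfl⟩
    exact ⟨a * c, b * e, k + l, hb.mul hspan hqr he, pow_add (maximalIdeal A) k l ▸ Ideal.mul_mem_mul ha hc, by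
      rw [map_mul, map_mul, div_mul_div_comm]⟩
  add_mem' := by
    rintro _ _ ⟨a, b, k, hb, ha, rfl⟩ ⟨c, e, l, he, hc, rfl⟩
    refine ⟨a * e + b * c, b * e, k + l, hb.mul hspan hqr he, ?_, ?_⟩
    · rw [pow_add]
      exact add_mem (Ideal.mul_mem_mul ha he.1) (Ideal.mul_mem_mul hb.1 hc)
    · rw [map_add, map_mul, map_mul, map_mul, div_add_div]
      · exact fun h => hb.ne_zero ((map_eq_zero_iff _ (IsFractionRing.injective A 𝕂)).1 h)
      · exact fun h => he.ne_zero ((map_eq_zero_iff _ (IsFractionRing.injective A 𝕂)).1 h)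
  algebraMap_mem' a := ⟨a, 1, 0, exact'_one, by simp, by simp⟩

local notation "𝕍" => ordRing hspan hqr

theorem map_ne_zero' {b : A} {k : ℕ} (hb : Exact' b k) : algebraMap A 𝕂 b ≠ 0 :=
  fun h => hb.ne_zero ((map_eq_zero_iff _ (IsFractionRing.injective A 𝕂)).1 h)

/-- `a / b` as an element of the ring. -/
noncomputable def frac (a b : A) (k : ℕ) (hb : Exact' b k) (ha : a ∈ maximalIdeal A ^ k) : 𝕍 :=
  ⟨algebraMap A 𝕂 a / algebraMap A 𝕂 b, a, b, k, hb, ha, rfl⟩

theorem exists_frac (z : 𝕍) : ∃ a b k, ∃ (hb : Exact' b k) (ha : a ∈ maximalIdeal A ^ k), z = frac hspan hqr a b k hb ha := by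
  obtain ⟨a, b, k, hb, ha, hz⟩ := z.2
  exact ⟨a, b, k, hb, ha, Subtype.ext hz⟩

theorem isUnit_frac_iff (a b : A) (k : ℕ) (hb : Exact' b k) (ha : a ∈ maximalIdeal A ^ k) :
    IsUnit (frac hspan hqr a b k hb ha) ↔ a ∉ maximalIdeal A ^ (k + 1) := by
  constructor
  · intro hu hcon
    obtain ⟨w, hw⟩ := hu.exists_right_inv
    obtain ⟨c, e, l, he, hc, rfl⟩ := exists_frac hspan hqr w
    have h1 : algebraMap A 𝕂 a / algebraMap A 𝕂 b * (algebraMap A 𝕂 c / algebraMap A 𝕂 e) = 1 :=
      congrArg Subtype.val hw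
    rw [div_mul_div_comm, div_eq_one_iff_eq (mul_ne_zero (map_ne_zero' hb) (map_ne_zero' he)), ← map_mul, ← map_mul] at h1
    have h2 := IsFractionRing.injective A 𝕂 h1
    refine mul_not_mem hspan hqr hb.1 hb.2 he.1 he.2 ?_
    rw [← h2, show k + l + 1 = (k + 1) + l by omega, pow_add]
    exact Ideal.mul_mem_mul hcon hc
  · intro h
    refine IsUnit.of_mul_eq_one (frac hspan hqr b a k ⟨ha, h⟩ hb.1) (Subtype.ext ?_)
    show algebraMap A 𝕂 a / algebraMap A 𝕂 b * (algebraMap A 𝕂 b / algebraMap A 𝕂 a) = 1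
    rw [div_mul_div_cancel₀ (map_ne_zero' hb), div_self (map_ne_zero' ⟨ha, h⟩)]

theorem isFractionRing : IsFractionRing 𝕍 𝕂 := by
  refine IsFractionRing.of_field _ _ fun z => ?_
  obtain ⟨a, b, -, rfl⟩ := IsFractionRing.div_surjective (A := A) z
  exact ⟨algebraMap A 𝕍 a, algebraMap A 𝕍 b, rfl⟩

/-- The uniformizer. -/
noncomputable abbrev pi : 𝕍 := algebraMap A 𝕍 (f 0)

theorem algebraMap_eq_frac (a : A) : algebraMap A 𝕍 a = frac hspan hqr a 1 0 exact'_one (by simp) :=
  Subtype.ext (by simp [frac])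

theorem pi_pow_mul {a b : A} {k j : ℕ} (hb : Exact' b k) (ha : a ∈ maximalIdeal A ^ (k + j)) :
    frac hspan hqr a b k hb (Ideal.pow_le_pow_right (Nat.le_add_right k j) ha) = pi hspan hqr ^ j *
      frac hspan hqr a (f 0 ^ j * b) (j + k) ((exact'_pow hspan hqr 0 j).mul hspan hqr hb) (by rwa [add_comm]) := by
  refine Subtype.ext ?_
  show algebraMap A 𝕂 a / algebraMap A 𝕂 b =
    algebraMap A 𝕂 (f 0) ^ j * (algebraMap A 𝕂 a / algebraMap A 𝕂 (f 0 ^ j * b))
  rw [map_mul, map_pow]
  have h1 : algebraMap A 𝕂 (f 0) ^ j ≠ 0 := pow_ne_zero _ (map_ne_zero' (exact'_f hspan hqr 0))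
  field_simp

theorem not_isUnit_pi : ¬ IsUnit (pi hspan hqr) := by
  rw [pi, algebraMap_eq_frac, isUnit_frac_iff]
  simpa using (exact'_f hspan hqr 0).1

theorem irreducible_pi : Irreducible (pi hspan hqr) := by
  refine ⟨not_isUnit_pi hspan hqr, fun x y hxy => ?_⟩
  by_contra h
  obtain ⟨hx, hy⟩ := not_or.1 h
  obtain ⟨a, b, k, hb, ha, rfl⟩ := exists_frac hspan hqr x
  obtain ⟨c, e, l, he, hc, rfl⟩ := exists_frac hspan hqr y
  rw [isUnit_frac_iff, not_not] at hx hy
  have h1 : algebraMap A 𝕂 (f 0) = algebraMap A 𝕂 a / algebraMap A 𝕂 b * (algebraMap A 𝕂 c / algebraMap A 𝕂 e) :=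
    congrArg Subtype.val hxy
  rw [div_mul_div_comm, eq_div_iff (mul_ne_zero (map_ne_zero' hb) (map_ne_zero' he)), ← map_mul, ← map_mul,
    ← map_mul] at h1
  have h2 := IsFractionRing.injective A 𝕂 h1
  have h3 := ((exact'_f hspan hqr 0).mul hspan hqr (hb.mul hspan hqr he)).2
  refine h3 ?_
  rw [h2, show 1 + (k + l) + 1 = (k + 1) + (l + 1) by omega, pow_add]
  exact Ideal.mul_mem_mul hx hy

theorem isDVR : IsDiscreteValuationRing 𝕍 := by
  refine IsDiscreteValuationRing.ofHasUnitMulPowIrreducibleFactorization ⟨pi hspan hqr, irreducible_pi hspan hqr, ?_⟩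
  intro x hx
  obtain ⟨a, b, k, hb, ha, rfl⟩ := exists_frac hspan hqr x
  have ha0 : a ≠ 0 := fun h => hx (Subtype.ext (by simp [frac, h]))
  obtain ⟨m, hm⟩ := exists_exact' ha0
  obtain ⟨j, rfl⟩ : ∃ j, m = k + j := by
    refine Nat.le.dest (Nat.lt_succ_iff.1 (lt_of_not_ge fun h => hm.2 (Ideal.pow_le_pow_right h ha))) |>.imp fun j h => h.symm
  refine ⟨j, ?_⟩
  rw [pi_pow_mul hspan hqr hb hm.1]
  exact (associated_mul_unit_right _ _ ((isUnit_frac_iff hspan hqr _ _ _ _ _).2 (by rw [add_comm j k]; exact hm.2)))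

instance isLocalRing_ordRing : IsLocalRing 𝕍 :=
  have := isDVR hspan hqr
  inferInstance

theorem mem_maximalIdeal_algebraMap_iff (a : A) :
    algebraMap A 𝕍 a ∈ maximalIdeal 𝕍 ↔ a ∈ maximalIdeal A := by
  rw [IsLocalRing.mem_maximalIdeal, mem_nonunits_iff, algebraMap_eq_frac, isUnit_frac_iff, not_not, zero_add, pow_one]

section Residue


/-- The map of residue fields. -/
noncomputable def phi : ResidueField A →+* ResidueField 𝕍 :=
  Ideal.Quotient.lift (maximalIdeal A) ((residue 𝕍).comp (algebraMap A 𝕍)) fun a ha =>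
    (residue_eq_zero_iff _).2 ((mem_maximalIdeal_algebraMap_iff hspan hqr a).2 ha)

theorem phi_comp : (phi hspan hqr).comp (residue A) = (residue 𝕍).comp (algebraMap A 𝕍) := rfl

/-- The ratios `f i / f 0`. -/
noncomputable def ratio (i : Fin (n + 1)) : 𝕍 :=
  frac hspan hqr (f i) (f 0) 1 (exact'_f hspan hqr 0) (exact'_f hspan hqr i).1

theorem eval_ratio {k : ℕ} {P : MvPolynomial (Fin (n + 1)) A} (hP : P.IsHomogeneous k)
    (hb : Exact' (f 0 ^ k) k) (ha : eval f P ∈ maximalIdeal A ^ k) :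
    aeval (ratio hspan hqr) P = frac hspan hqr (eval f P) (f 0 ^ k) k hb ha := by
  classical
  apply Subtype.ext
  show ((aeval (ratio hspan hqr) P : 𝕍) : 𝕂) = algebraMap A 𝕂 (eval f P) / algebraMap A 𝕂 (f 0 ^ k)
  rw [eq_div_iff (map_ne_zero' hb), aeval_def, eval₂_eq, eval_eq, map_sum, AddSubmonoidClass.coe_finsetSum,
    Finset.sum_mul]
  refine Finset.sum_congr rfl fun d hd => ?_
  have hd' : ∑ i ∈ d.support, d i = k := by
    rw [← hP (mem_support_iff.mp hd)]
    simp [Finsupp.weight_apply, Finsupp.sum]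
  rw [map_mul, map_prod, MulMemClass.coe_mul, SubmonoidClass.coe_finsetProd, mul_assoc, ← hd', ← Finset.prod_pow_eq_pow_sum,
    map_prod, ← Finset.prod_mul_distrib]
  congr 1
  refine Finset.prod_congr rfl fun i _ => ?_
  rw [map_pow, map_pow, SubmonoidClass.coe_pow, ← mul_pow]
  show (algebraMap A 𝕂 (f i) / algebraMap A 𝕂 (f 0) * algebraMap A 𝕂 (f 0)) ^ d i = _
  rw [div_mul_cancel₀ _ (map_ne_zero' (exact'_f hspan hqr 0))]

/-- The transcendence basis. -/
noncomputable def tb (i : ULift.{u} (Fin n)) : ResidueField 𝕍 := residue 𝕍 (ratio hspan hqr i.down.succ)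

theorem residue_aeval (P : MvPolynomial (Fin (n + 1)) A) :
    residue 𝕍 (aeval (ratio hspan hqr) P) =
      eval₂ ((phi hspan hqr).comp (residue A)) (Fin.cons 1 fun i => tb hspan hqr ⟨i⟩) P := by
  rw [aeval_def, phi_comp]
  change ((residue 𝕍).comp (eval₂Hom (algebraMap A 𝕍) (ratio hspan hqr))) P = _
  rw [comp_eval₂Hom]
  show eval₂ _ _ P = eval₂ _ _ P
  congr 1
  funext i
  refine Fin.cases ?_ (fun i => ?_) i
  · simp only [Fin.cons_zero, Function.comp_apply]
    rw [show ratio hspan hqr 0 = 1 from Subtype.ext (div_self (map_ne_zero' (exact'_f hspan hqr 0))), map_one]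
  · simp [tb]

theorem algebraicIndependent :
    letI := (phi hspan hqr).toAlgebra
    AlgebraicIndependent (ResidueField A) (tb hspan hqr) := by
  classical
  letI := (phi hspan hqr).toAlgebra
  rw [algebraicIndependent_iff]
  intro p hp
  let N := p.totalDegree
  let σ : (ULift.{u} (Fin n) →₀ ℕ) → (Fin (n + 1) →₀ ℕ) := fun d =>
    Finsupp.cons (N - d.sum fun _ x => x) (d.mapDomain ULift.down)
  have hσ : Function.Injective σ := fun d e h => by
    have := congrArg Finsupp.tail h
    simp only [σ, Finsupp.tail_cons] at this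
    exact Finsupp.mapDomain_injective ULift.down_injective this
  choose lift hlift using fun c : ResidueField A => residue_surjective c
  let P : MvPolynomial (Fin (n + 1)) A := ∑ d ∈ p.support, monomial (σ d) (lift (p.coeff d))
  have hdeg : ∀ d ∈ p.support, (σ d).degree = N := fun d hd => by
    have hle : (d.sum fun _ x => x) ≤ N := le_totalDegree hd
    have h1 : (d.mapDomain ULift.down).degree = d.sum fun _ x => x := by
      rw [Finsupp.degree_mapDomain]; rfl
    rw [Finsupp.degree_eq_sum, Fin.sum_univ_succ]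
    simp only [σ, Finsupp.cons_zero, Finsupp.cons_succ]
    rw [← Finsupp.degree_eq_sum, h1]
    omega
  have hP : P.IsHomogeneous N := IsHomogeneous.sum _ _ _ fun d hd => isHomogeneous_monomial _ (hdeg d hd)
  have hmem : eval f P ∈ maximalIdeal A ^ N := by
    rw [← hspan]; exact QReg6.eval_mem_pow f hP
  have hb := exact'_pow hspan hqr 0 N
  have h0 : residue 𝕍 (aeval (ratio hspan hqr) P) = 0 := by
    rw [residue_aeval, eval₂_sum, ← hp, aeval_def, p.as_sum, eval₂_sum, ← p.as_sum]
    refine Finset.sum_congr rfl fun d hd => ?_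
    rw [eval₂_monomial, eval₂_monomial, RingHom.comp_apply, hlift]
    congr 1
    rw [Finsupp.prod_fintype _ _ (fun _ => pow_zero _), Fin.prod_univ_succ]
    simp only [σ, Finsupp.cons_zero, Finsupp.cons_succ, Fin.cons_zero, Fin.cons_succ, one_pow, one_mul]
    rw [Finsupp.prod_fintype _ _ (fun _ => pow_zero _), ← Equiv.ulift.{u}.prod_comp]
    refine Finset.prod_congr rfl fun i _ => ?_
    rw [show d.mapDomain ULift.down (Equiv.ulift i) = d i from Finsupp.mapDomain_apply ULift.down_injective d i]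
    rfl
  rw [eval_ratio hspan hqr hP hb hmem, residue_eq_zero_iff, IsLocalRing.mem_maximalIdeal, mem_nonunits_iff,
    isUnit_frac_iff, not_not] at h0
  ext d
  rw [coeff_zero]
  by_contra hd
  have hd' : d ∈ p.support := mem_support_iff.2 hd
  have hc := coeff_mem hspan hqr hP h0 (σ d)
  rw [coeff_sum, Finset.sum_eq_single d (fun e _ he => by rw [coeff_monomial, if_neg (hσ.ne he)])
    (fun h => absurd hd' h), coeff_monomial, if_pos rfl, ← residue_eq_zero_iff, hlift] at hc
  exact hd hc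

theorem adjoin_eq_top :
    letI := (phi hspan hqr).toAlgebra
    IntermediateField.adjoin (ResidueField A) (Set.range (tb hspan hqr)) = ⊤ := by
  classical
  letI := (phi hspan hqr).toAlgebra
  rw [eq_top_iff]
  intro x _
  obtain ⟨z, rfl⟩ := residue_surjective x
  obtain ⟨a, b, k, hb, ha, rfl⟩ := exists_frac hspan hqr z
  have hpoly : ∀ P : MvPolynomial (Fin (n + 1)) A, residue 𝕍 (aeval (ratio hspan hqr) P) ∈
      IntermediateField.adjoin (ResidueField A) (Set.range (tb hspan hqr)) := fun P => by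
    rw [residue_aeval]
    induction P using MvPolynomial.induction_on with
    | C c =>
      rw [eval₂_C]
      exact IntermediateField.algebraMap_mem _ (residue A c)
    | add p q hp hq => rw [eval₂_add]; exact add_mem hp hq
    | mul_X p i hp =>
      rw [eval₂_mul, eval₂_X]
      refine mul_mem hp (Fin.cases ?_ (fun i => ?_) i)
      · rw [Fin.cons_zero]; exact one_mem _
      · rw [Fin.cons_succ]; exact IntermediateField.subset_adjoin _ _ ⟨⟨i⟩, rfl⟩
  have ha' := ha
  have hb' := hb.1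
  rw [← hspan] at ha' hb'
  obtain ⟨P, hP, rfl⟩ := QReg6.exists_homogeneous_eval f ha'
  obtain ⟨Q, hQ, rfl⟩ := QReg6.exists_homogeneous_eval f hb'
  have h0 := exact'_pow hspan hqr 0 k
  have key : frac hspan hqr (eval f P) (eval f Q) k hb ha * aeval (ratio hspan hqr) Q = aeval (ratio hspan hqr) P := by
    rw [eval_ratio hspan hqr hP h0 ha, eval_ratio hspan hqr hQ h0 hb.1]
    refine Subtype.ext ?_
    show algebraMap A 𝕂 (eval f P) / algebraMap A 𝕂 (eval f Q) * (algebraMap A 𝕂 (eval f Q) / algebraMap A 𝕂 (f 0 ^ k)) = _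
    rw [div_mul_div_cancel₀ (map_ne_zero' hb)]
    rfl
  have hne : residue 𝕍 (aeval (ratio hspan hqr) Q) ≠ 0 := by
    rw [eval_ratio hspan hqr hQ h0 hb.1, Ne, residue_eq_zero_iff, IsLocalRing.mem_maximalIdeal, mem_nonunits_iff,
      isUnit_frac_iff, not_not]
    exact hb.2
  have h1 := congrArg (residue 𝕍) key
  rw [map_mul, ← eq_div_iff hne] at h1
  rw [h1]
  exact div_mem (hpoly P) (hpoly Q)

end Residue

theorem exists_dvr (A : Type u) [CommRing A] [IsRegularLocalRing A] (hA : ¬ IsField A) :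
    ∃ (V : Subalgebra A (FractionRing A)) (_ : IsDomain V) (_ : IsDiscreteValuationRing V), IsFractionRing V (FractionRing A) ∧
      (IsLocalRing.maximalIdeal V).comap (algebraMap A V) = IsLocalRing.maximalIdeal A ∧
      ∃ (φ : IsLocalRing.ResidueField A →+* IsLocalRing.ResidueField V),
        φ.comp (IsLocalRing.residue A) = (IsLocalRing.residue V).comp (algebraMap A V) ∧
        letI := φ.toAlgebra
        ∃ (ι : Type u) (t : ι → IsLocalRing.ResidueField V), AlgebraicIndependent (IsLocalRing.ResidueField A) t ∧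
          IntermediateField.adjoin (IsLocalRing.ResidueField A) (Set.range t) = ⊤ := by
  have := CAlgH3.isDomain_of_isRegularLocalRing A
  obtain ⟨n, f, hspan, hqr⟩ := exists_quasiRegular A hA
  have := isDVR hspan hqr
  refine ⟨ordRing hspan hqr, inferInstance, inferInstance, isFractionRing hspan hqr, ?_, phi hspan hqr,
    phi_comp hspan hqr, ULift.{u} (Fin n), tb hspan hqr, algebraicIndependent hspan hqr, adjoin_eq_top hspan hqr⟩
  ext a
  exact mem_maximalIdeal_algebraMap_iff hspan hqr a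

end Groth.Agent.EGA43.OrdDVR
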