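import Groth.Agent.EGA43.QcohFP
import Groth.Agent.EGA43.DimFormula.LocalDimJacobson
import Groth.Agent.CommAlg6.PdBaseChange
import Groth.Agent.CAlgH3.ProjDim
import Groth.Agent.CAlgH3.RegularLocal
import Groth.Agent.AssSch12.Primary
import Groth.Agent.Props12.Components
import Groth.Prelude.Def_CAlg
import Groth.Prelude.Def_CohB1
import Groth.Prelude.Def_FlatMod2

/-!
# Rectified depth on a regular biequidimensional scheme (EGA IV 11.8.x / 0_IV 17)
-/

set_option autoImplicit false
set_option backward.isDefEq.respectTransparency false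

universe u

open CategoryTheory AlgebraicGeometry TopologicalSpace IsLocalRing

namespace Groth.Agent.EGA43.RectDepth

open Groth.Agent

theorem projectiveDimension_eq_nat {R : Type u} [CommRing R] (M : ModuleCat.{u} R) (e : ℕ)
    (h1 : HasProjectiveDimensionLE M e) (h2 : ¬ HasProjectiveDimensionLT M e) :
    projectiveDimension M = e :=
  le_antisymm ((projectiveDimension_le_iff M e).mpr h1) ((projectiveDimension_ge_iff M e).mpr h2)

/-- Auslander–Buchsbaum over a regular local ring. -/
theorem exists_pd_eq {R : Type u} [CommRing R] [IsRegularLocalRing R] (M : Type u) [AddCommGroup M]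
    [Module R M] [Module.Finite R M] [Nontrivial M] :
    ∃ e : ℕ, projectiveDimension (ModuleCat.of R M) = e ∧
      ∃ δ : ℕ, LocCoh.depth R M = δ ∧ ((δ + e : ℕ) : WithBot ℕ∞) = ringKrullDim R := by
  classical
  have hex : ∃ n, CAlgH3.PD R n M := ⟨_, CAlgH3.pd_finite M⟩
  have hspec := Nat.find_spec hex
  obtain ⟨e, he⟩ : ∃ e, Nat.find hex = e + 1 := by
    refine Nat.exists_eq_succ_of_ne_zero fun h => ?_
    rw [h] at hspec
    have := CAlgH3.pd_zero_iff.1 hspec
    exact false_of_nontrivial_of_subsingleton M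
  rw [he] at hspec
  have hmin : ¬ CAlgH3.PD R e M := Nat.find_min hex (by omega)
  obtain ⟨δ, hδ⟩ := CAlgH3.exists_depth_eq_natCast (R := R) (M := M)
  refine ⟨e, projectiveDimension_eq_nat _ e hspec hmin, δ, hδ, ?_⟩
  have h := CAlgH3.depth_add_of_pd e M hspec hmin
  rw [← CAlgH3.depth_eq_ringKrullDim, h, hδ, add_comm δ e]
  push_cast
  rfl

theorem exists_nat_of_le_nat {a b : WithBot ℕ∞} {d : ℕ} (ha : a ≠ ⊥) (h : (d : WithBot ℕ∞) = a + b) :
    ∃ n : ℕ, a = n := by
  induction a with
  | bot => exact absurd rfl ha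
  | coe a =>
    induction a with
    | coe n => exact ⟨n, rfl⟩
    | top =>
      induction b with
      | bot => simp at h
      | coe b =>
        rw [← WithBot.coe_add, top_add] at h
        exact absurd (WithBot.coe_injective (a₁ := ((d : ℕ) : ℕ∞)) h) (ENat.coe_ne_top d)

variable {X : Scheme.{u}} [IsLocallyNoetherian X]

/-- `dim X = dim cl{x} + dim O_{X,x}` in a regular biequidimensional scheme. -/
theorem dim_eq (hreg : ∀ x : X, IsRegularLocalRing (X.presheaf.stalk x))
    (hcomp : ∀ C ∈ irreducibleComponents (X : Type u), topologicalKrullDim ↥C = topologicalKrullDim X)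
    (hchain : ∀ (y : X) (T : Set X), IsClosed T → IsIrreducible T → y ∈ T →
      topologicalKrullDim ↥T = topologicalKrullDim ↥(closure ({y} : Set X)) + topologicalKrullDim ↥{t : X | t ∈ T ∧ t ⤳ y})
    (x : X) :
    topologicalKrullDim X =
      topologicalKrullDim ↥(closure ({x} : Set X)) + ringKrullDim (X.presheaf.stalk x) := by
  have := hreg x
  have := CAlgH3.isDomain_of_isRegularLocalRing (X.presheaf.stalk x)
  have hC := irreducibleComponent_mem_irreducibleComponents x
  have hset : {t : X | t ∈ irreducibleComponent x ∧ t ⤳ x} = {t : X | t ⤳ x} := by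
    refine Set.ext fun t => ⟨fun h => h.2, fun h => ⟨?_, h⟩⟩
    have h' : x ∈ irreducibleComponent t :=
      h.mem_closed isClosed_irreducibleComponent mem_irreducibleComponent
    rw [Props12.component_unique_of_isDomain hC (irreducibleComponent_mem_irreducibleComponents t)
      mem_irreducibleComponent h']
    exact mem_irreducibleComponent
  rw [← hcomp _ hC, hchain x _ isClosed_irreducibleComponent isIrreducible_irreducibleComponent
    mem_irreducibleComponent, hset, DimFormula.topologicalKrullDim_generizations]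

theorem exists_formula (hreg : ∀ x : X, IsRegularLocalRing (X.presheaf.stalk x))
    (hfin : topologicalKrullDim X < ⊤)
    (hcomp : ∀ C ∈ irreducibleComponents (X : Type u), topologicalKrullDim ↥C = topologicalKrullDim X)
    (hchain : ∀ (y : X) (T : Set X), IsClosed T → IsIrreducible T → y ∈ T →
      topologicalKrullDim ↥T = topologicalKrullDim ↥(closure ({y} : Set X)) + topologicalKrullDim ↥{t : X | t ∈ T ∧ t ⤳ y})
    (F : X.Modules) (hF : Coh.IsCoh F) (x : X) (hx : x ∈ CohB1.support F) :
    ∃ δ c e : ℕ, LocCoh.depth (X.presheaf.stalk x) (F.presheaf.stalk x) = δ ∧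
      topologicalKrullDim ↥(closure ({x} : Set X)) = c ∧
      projectiveDimension (ModuleCat.of (X.presheaf.stalk x) (F.presheaf.stalk x)) = e ∧
      topologicalKrullDim X = ((δ + c + e : ℕ) : WithBot ℕ∞) := by
  have := hreg x
  have := AssSch12.finite_stalk hF x
  have : Nontrivial (F.presheaf.stalk x) := not_subsingleton_iff_nontrivial.1 hx
  obtain ⟨e, he, δ, hδ, hsum⟩ := exists_pd_eq (R := X.presheaf.stalk x) (F.presheaf.stalk x)
  have hd := dim_eq hreg hcomp hchain x
  rw [← hsum] at hd
  obtain ⟨d, hd'⟩ : ∃ d : ℕ, topologicalKrullDim X = d := by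
    have : Nonempty X := ⟨x⟩
    have hne : topologicalKrullDim X ≠ ⊥ := by
      rw [topologicalKrullDim, ne_eq, Order.krullDim_eq_bot_iff, not_isEmpty_iff]
      exact ⟨⟨closure {x}, isIrreducible_singleton.closure, isClosed_closure⟩⟩
    revert hne hfin
    generalize topologicalKrullDim X = a
    intro hfin hne
    induction a with
    | bot => exact absurd rfl hne
    | coe a =>
      induction a with
      | top => exact absurd rfl hfin.ne
      | coe n => exact ⟨n, rfl⟩
  have hcne : topologicalKrullDim ↥(closure ({x} : Set X)) ≠ ⊥ := by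
    intro h
    rw [h, WithBot.bot_add] at hd
    rw [hd] at hd'
    exact absurd hd'.symm (by simp)
  obtain ⟨c, hc⟩ := exists_nat_of_le_nat hcne (hd'.symm.trans hd)
  refine ⟨δ, c, e, hδ, hc, he, ?_⟩
  rw [hd, hc]
  push_cast
  ac_rfl

theorem formula (hreg : ∀ x : X, IsRegularLocalRing (X.presheaf.stalk x))
    (hfin : topologicalKrullDim X < ⊤)
    (hcomp : ∀ C ∈ irreducibleComponents (X : Type u), topologicalKrullDim ↥C = topologicalKrullDim X)
    (hchain : ∀ (y : X) (T : Set X), IsClosed T → IsIrreducible T → y ∈ T →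
      topologicalKrullDim ↥T = topologicalKrullDim ↥(closure ({y} : Set X)) + topologicalKrullDim ↥{t : X | t ∈ T ∧ t ⤳ y})
    (F : X.Modules) (hF : Coh.IsCoh F) (x : X) (hx : x ∈ CohB1.support F) :
    ((LocCoh.depth ↑(X.presheaf.stalk x) ↑(F.presheaf.stalk x) : ℕ∞) : WithBot ℕ∞) +
        topologicalKrullDim ↥(closure ({x} : Set X)) +
        projectiveDimension (ModuleCat.of ↑(X.presheaf.stalk x) ↑(F.presheaf.stalk x)) =
      topologicalKrullDim X := by
  obtain ⟨δ, c, e, h1, h2, h3, h4⟩ := exists_formula hreg hfin hcomp hchain F hF x hx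
  rw [h1, h2, h3, h4]
  push_cast
  rfl

/-- The locus of projective dimension `≤ n` of a coherent module is open. -/
theorem isOpen_pdLE (F : X.Modules) (hF : Coh.IsCoh F) (n : ℕ) :
    IsOpen {x : X | CommAlg6.PdLE (X.presheaf.stalk x) (F.presheaf.stalk x) n} := by
  rw [isOpen_iff_forall_mem_open]
  intro x hx
  haveI := hF.1
  obtain ⟨_, ⟨U, hU, rfl⟩, hxU, -⟩ :=
    X.isBasis_affineOpens.exists_subset_of_mem_open (Set.mem_univ x) isOpen_univ
  have : IsNoetherianRing Γ(X, U) := IsLocallyNoetherian.component_noetherian ⟨U, hU⟩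
  have : Module.Finite Γ(X, U) Γ(F, U) := ((Coherent.isCoh_iff_finite_sections F).1 hF).2 U hU
  have key : ∀ (y : X) (hy : y ∈ U), CommAlg6.PdLE (X.presheaf.stalk y) (F.presheaf.stalk y) n ↔
      hU.primeIdealOf ⟨y, hy⟩ ∈ {p : PrimeSpectrum Γ(X, U) | CommAlg6.PdLE
        (Localization.AtPrime p.asIdeal) (LocalizedModule p.asIdeal.primeCompl Γ(F, U)) n} := by
    intro y hy
    let _ : Algebra Γ(X, U) (X.presheaf.stalk y) := (X.presheaf.germ U y hy).hom.toAlgebra
    let _ : Module Γ(X, U) (F.presheaf.stalk y) := Module.compHom _ (X.presheaf.germ U y hy).hom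
    have : IsScalarTower Γ(X, U) (X.presheaf.stalk y) (F.presheaf.stalk y) :=
      IsScalarTower.of_algebraMap_smul fun _ _ => rfl
    let φ : Γ(F, U) →ₗ[Γ(X, U)] F.presheaf.stalk y :=
      { toFun := fun m => F.presheaf.germ U y hy m
        map_add' := fun a b => map_add _ a b
        map_smul' := fun r m => QCohLoc.germ_smul' F hy r m }
    set p := hU.primeIdealOf ⟨y, hy⟩
    have hloc := EGA43.QcohFP.isLocalizedModule_germ F hU hy φ fun _ => rfl
    have hlocR := hU.isLocalization_stalk ⟨y, hy⟩
    let e : Localization.AtPrime p.asIdeal ≃ₐ[Γ(X, U)] X.presheaf.stalk y :=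
      IsLocalization.algEquiv p.asIdeal.primeCompl _ _
    let _ : Algebra (Localization.AtPrime p.asIdeal) (X.presheaf.stalk y) :=
      e.toAlgHom.toRingHom.toAlgebra
    have hT : IsScalarTower Γ(X, U) (Localization.AtPrime p.asIdeal) (X.presheaf.stalk y) :=
      IsScalarTower.of_algebraMap_eq fun r => (e.commutes r).symm
    let el : Localization.AtPrime p.asIdeal ≃ₗ[Localization.AtPrime p.asIdeal] X.presheaf.stalk y :=
      { e.toRingEquiv.toAddEquiv with
        map_smul' := fun r s => map_mul e r s }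
    haveI : Module.FaithfullyFlat (Localization.AtPrime p.asIdeal) (X.presheaf.stalk y) :=
      Module.FaithfullyFlat.of_linearEquiv _ _ el.symm
    have hb : IsBaseChange (X.presheaf.stalk y) φ :=
      (isLocalizedModule_iff_isBaseChange p.asIdeal.primeCompl (X.presheaf.stalk y) φ).1 hloc
    have h1 := CommAlg6.pdLE_congr
      ((TensorProduct.AlgebraTensorModule.cancelBaseChange Γ(X, U) (Localization.AtPrime p.asIdeal)
        (X.presheaf.stalk y) (X.presheaf.stalk y) Γ(F, U)).trans hb.equiv) n
    rw [← h1, CommAlg6.pdLE_baseChange_iff (X.presheaf.stalk y) n,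
      ← CommAlg6.pdLE_congr (LocalizedModule.equivTensorProduct p.asIdeal.primeCompl Γ(F, U)) n]
    rfl
  obtain ⟨V, hV, hVeq⟩ := isOpen_induced_iff.mp
    ((CommAlg6.isOpen_pdLE_locus (R := Γ(X, U)) n Γ(F, U)).preimage
      (f := fun z : U => hU.primeIdealOf z) (hU.isoSpec.hom.homeomorph.continuous))
  refine ⟨V ∩ U, fun y hy => (key y hy.2).2 ?_, hV.inter U.2, ?_, hxU⟩
  · exact (Set.ext_iff.mp hVeq ⟨y, hy.2⟩).mp hy.1
  · exact (Set.ext_iff.mp hVeq ⟨x, hxU⟩).mpr ((key x hxU).1 hx)

theorem isOpen_rect (hreg : ∀ x : X, IsRegularLocalRing (X.presheaf.stalk x))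
    (hfin : topologicalKrullDim X < ⊤)
    (hcomp : ∀ C ∈ irreducibleComponents (X : Type u), topologicalKrullDim ↥C = topologicalKrullDim X)
    (hchain : ∀ (y : X) (T : Set X), IsClosed T → IsIrreducible T → y ∈ T →
      topologicalKrullDim ↥T = topologicalKrullDim ↥(closure ({y} : Set X)) + topologicalKrullDim ↥{t : X | t ∈ T ∧ t ⤳ y})
    (F : X.Modules) (hF : Coh.IsCoh F) (n : ℕ) :
    IsOpen {x : X | (n : WithBot ℕ∞) ≤
      ((LocCoh.depth ↑(X.presheaf.stalk x) ↑(F.presheaf.stalk x) : ℕ∞) : WithBot ℕ∞) +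
        topologicalKrullDim ↥(closure ({x} : Set X))} := by
  set S := {x : X | (n : WithBot ℕ∞) ≤
      ((LocCoh.depth ↑(X.presheaf.stalk x) ↑(F.presheaf.stalk x) : ℕ∞) : WithBot ℕ∞) +
        topologicalKrullDim ↥(closure ({x} : Set X))}
  have hoff : ∀ x, x ∉ CohB1.support F → x ∈ S := by
    intro x hx
    have : Subsingleton (F.presheaf.stalk x) := not_not.1 hx
    show (n : WithBot ℕ∞) ≤ _
    rw [CAlgH3.depth_eq_top_of_subsingleton]
    have h0 : (0 : WithBot ℕ∞) ≤ topologicalKrullDim ↥(closure ({x} : Set X)) := by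
      rw [topologicalKrullDim, Order.krullDim_nonneg_iff]
      exact ⟨⟨irreducibleComponent (⟨x, subset_closure rfl⟩ : ↥(closure ({x} : Set X))),
        isIrreducible_irreducibleComponent, isClosed_irreducibleComponent⟩⟩
    refine le_trans ?_ (le_add_of_nonneg_right h0)
    exact WithBot.coe_le_coe.2 (le_top : ((n : ℕ) : ℕ∞) ≤ ⊤)
  have hsupp : IsOpen (CohB1.support F)ᶜ :=
    (Coherent.isClosed_support F (Coherent.locallyFinGen_of_isFT F hF.2)).isOpen_compl
  rw [isOpen_iff_forall_mem_open]
  intro x hxS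
  by_cases hx : x ∈ CohB1.support F
  · obtain ⟨δ, c, e, h1, h2, h3, h4⟩ := exists_formula hreg hfin hcomp hchain F hF x hx
    have hle : n ≤ δ + c := by
      have h : (n : WithBot ℕ∞) ≤ ((δ + c : ℕ) : WithBot ℕ∞) := by
        have hS : (n : WithBot ℕ∞) ≤ _ := hxS
        rw [h1, h2] at hS
        push_cast
        exact hS
      exact_mod_cast h
    refine ⟨{y | CommAlg6.PdLE (X.presheaf.stalk y) (F.presheaf.stalk y) (δ + c + e - n)},
      fun y hy => ?_, isOpen_pdLE F hF _, ?_⟩
    · by_cases hys : y ∈ CohB1.support F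
      · obtain ⟨δ', c', e', g1, g2, g3, g4⟩ := exists_formula hreg hfin hcomp hchain F hF y hys
        have he' : e' ≤ δ + c + e - n := by
          have h := (CommAlg6.projectiveDimension_le_iff_pdLE (δ + c + e - n)).2 hy
          rw [g3] at h
          exact_mod_cast h
        have hsum : δ' + c' + e' = δ + c + e := by
          exact_mod_cast g4.symm.trans h4
        show (n : WithBot ℕ∞) ≤ _
        rw [g1, g2]
        exact_mod_cast (show n ≤ δ' + c' by omega)
      · exact hoff y hys
    · refine (CommAlg6.projectiveDimension_le_iff_pdLE (δ + c + e - n)).1 ?_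
      rw [h3]
      exact_mod_cast (show e ≤ δ + c + e - n by omega)
  · exact ⟨_, fun y hy => hoff y hy, hsupp, hx⟩

end Groth.Agent.EGA43.RectDepth
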