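import Mathlib.Topology.Constructible
import Mathlib.Topology.NoetherianSpace
import Mathlib.Topology.JacobsonSpace
import Mathlib.Topology.Sets.Closeds

/-!
# Very dense subsets and quasi-homeomorphisms (EGA IV, §10.1-10.2)
-/

universe u v

set_option autoImplicit false

open Set Topology Filter

namespace Groth.Agent.EGA43

variable {X : Type*} {Y : Type*} [TopologicalSpace X] [TopologicalSpace Y]

/-- finite union of locally closed sets -/
def QC (Z : Set X) : Prop :=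
  ∃ T : Set (Set X), T.Finite ∧ (∀ t ∈ T, IsLocallyClosed t) ∧ Z = ⋃₀ T

/-- locally quasi-constructible -/
def LQC (Z : Set X) : Prop :=
  ∀ x : X, ∃ U : Set X, IsOpen U ∧ x ∈ U ∧
    ∃ T : Set (Set X), T.Finite ∧ (∀ t ∈ T, IsLocallyClosed t) ∧ U ∩ Z = ⋃₀ T

def VeryDense (X₀ : Set X) : Prop :=
  ∀ Z : Set X, IsLocallyClosed Z → Z.Nonempty → (Z ∩ X₀).Nonempty

/-- quasi-homeomorphism -/
def QH (f : X → Y) : Prop :=
  (∀ U₁ U₂ : Set Y, IsOpen U₁ → IsOpen U₂ → f ⁻¹' U₁ = f ⁻¹' U₂ → U₁ = U₂) ∧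
    ∀ V : Set X, IsOpen V → ∃ U : Set Y, IsOpen U ∧ f ⁻¹' U = V

theorem QC.of_isLocallyClosed {Z : Set X} (h : IsLocallyClosed Z) : QC Z :=
  ⟨{Z}, finite_singleton Z, by simpa using h, by simp⟩

theorem QC.empty : QC (∅ : Set X) := ⟨∅, finite_empty, by simp, by simp⟩

theorem QC.union {Z Z' : Set X} (h : QC Z) (h' : QC Z') : QC (Z ∪ Z') := by
  obtain ⟨T, hT, hT', rfl⟩ := h
  obtain ⟨S, hS, hS', rfl⟩ := h'
  exact ⟨T ∪ S, hT.union hS, fun t ht => ht.elim (hT' t) (hS' t), (sUnion_union T S).symm⟩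

theorem QC.inter {Z Z' : Set X} (h : QC Z) (h' : QC Z') : QC (Z ∩ Z') := by
  obtain ⟨T, hT, hT', rfl⟩ := h
  obtain ⟨S, hS, hS', rfl⟩ := h'
  refine ⟨image2 (· ∩ ·) T S, hT.image2 _ hS, ?_, ?_⟩
  · rintro _ ⟨t, ht, s, hs, rfl⟩
    exact (hT' t ht).inter (hS' s hs)
  · ext x
    simp only [mem_inter_iff, mem_sUnion, mem_image2]
    constructor
    · rintro ⟨⟨t, ht, hxt⟩, s, hs, hxs⟩
      exact ⟨_, ⟨t, ht, s, hs, rfl⟩, hxt, hxs⟩
    · rintro ⟨_, ⟨t, ht, s, hs, rfl⟩, hxt, hxs⟩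
      exact ⟨⟨t, ht, hxt⟩, s, hs, hxs⟩

theorem QC.compl {Z : Set X} (h : QC Z) : QC Zᶜ := by
  obtain ⟨T, hT, hT', rfl⟩ := h
  induction T, hT using Set.Finite.induction_on with
  | empty => simpa using QC.of_isLocallyClosed (isOpen_univ (X := X)).isLocallyClosed
  | @insert a s ha hs ih =>
    rw [sUnion_insert, compl_union]
    refine QC.inter ?_ (ih fun t ht => hT' t (mem_insert_of_mem a ht))
    obtain ⟨U, F, hU, hF, rfl⟩ := hT' a (mem_insert a s)
    rw [compl_inter]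
    exact (QC.of_isLocallyClosed hU.isClosed_compl.isLocallyClosed).union
      (QC.of_isLocallyClosed hF.isOpen_compl.isLocallyClosed)

theorem QC.preimage {f : X → Y} (hf : Continuous f) {Z : Set Y} (h : QC Z) : QC (f ⁻¹' Z) := by
  obtain ⟨T, hT, hT', rfl⟩ := h
  refine ⟨(f ⁻¹' ·) '' T, hT.image _, ?_, ?_⟩
  · rintro _ ⟨t, ht, rfl⟩
    exact (hT' t ht).preimage hf
  · rw [preimage_sUnion, sUnion_image]

theorem QC.image {f : X → Y} (hf : IsOpenEmbedding f) {Z : Set X} (h : QC Z) : QC (f '' Z) := by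
  obtain ⟨T, hT, hT', rfl⟩ := h
  refine ⟨(f '' ·) '' T, hT.image _, ?_, ?_⟩
  · rintro _ ⟨t, ht, rfl⟩
    exact (hT' t ht).image hf.isInducing hf.isOpen_range.isLocallyClosed
  · rw [image_sUnion]

theorem QC.lqc {Z : Set X} (h : QC Z) : LQC Z := fun x =>
  ⟨univ, isOpen_univ, mem_univ x, by rwa [univ_inter]⟩

theorem LQC.of_isLocallyClosed {Z : Set X} (h : IsLocallyClosed Z) : LQC Z :=
  (QC.of_isLocallyClosed h).lqc

theorem LQC.inter {Z Z' : Set X} (h : LQC Z) (h' : LQC Z') : LQC (Z ∩ Z') := by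
  intro x
  obtain ⟨U, hU, hx, hq⟩ := h x
  obtain ⟨V, hV, hx', hq'⟩ := h' x
  refine ⟨U ∩ V, hU.inter hV, ⟨hx, hx'⟩, ?_⟩
  rw [inter_inter_inter_comm]
  exact QC.inter hq hq'

theorem LQC.compl {Z : Set X} (h : LQC Z) : LQC Zᶜ := by
  intro x
  obtain ⟨U, hU, hx, hq⟩ := h x
  refine ⟨U, hU, hx, ?_⟩
  have : U ∩ Zᶜ = U ∩ (U ∩ Z)ᶜ := by ext; simp; tauto
  rw [this]
  exact (QC.of_isLocallyClosed hU.isLocallyClosed).inter (QC.compl hq)

theorem LQC.preimage {f : X → Y} (hf : Continuous f) {Z : Set Y} (h : LQC Z) :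
    LQC (f ⁻¹' Z) := by
  intro x
  obtain ⟨U, hU, hx, hq⟩ := h (f x)
  exact ⟨f ⁻¹' U, hU.preimage hf, hx, by rw [← preimage_inter]; exact QC.preimage hf hq⟩

theorem lqc_iff_subtype {Z : Set X} : LQC Z ↔
    ∀ y : X, ∃ V : Set X, IsOpen V ∧ y ∈ V ∧
      ∃ T : Set (Set V), T.Finite ∧ (∀ t ∈ T, IsLocallyClosed t) ∧
        (Subtype.val ⁻¹' Z : Set V) = ⋃₀ T := by
  refine forall_congr' fun y => exists_congr fun V => and_congr_right fun hV => and_congr_right
    fun _ => ⟨fun hq => ?_, fun hq => ?_⟩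
  · have : (Subtype.val ⁻¹' Z : Set V) = Subtype.val ⁻¹' (V ∩ Z) := by ext ⟨a, ha⟩; simp [ha]
    rw [this]
    exact QC.preimage continuous_subtype_val hq
  · rw [← Subtype.image_preimage_coe V Z]
    exact QC.image hV.isOpenEmbedding_subtypeVal hq

theorem VeryDense.nonempty_inter {X₀ : Set X} (h : VeryDense X₀) {Z : Set X} (hZ : LQC Z)
    (hne : Z.Nonempty) : (Z ∩ X₀).Nonempty := by
  obtain ⟨x, hx⟩ := hne
  obtain ⟨U, -, hxU, T, -, hT, e⟩ := hZ x
  obtain ⟨t, ht, hxt⟩ := e.le ⟨hxU, hx⟩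
  obtain ⟨z, hzt, hz⟩ := h t (hT t ht) ⟨x, hxt⟩
  exact ⟨z, (e.ge ⟨t, ht, hzt⟩).2, hz⟩

theorem VeryDense.subset_closure {X₀ : Set X} (h : VeryDense X₀) {Z : Set X} (hZ : LQC Z) :
    Z ⊆ closure (Z ∩ X₀) := by
  intro x hx
  rw [mem_closure_iff]
  intro o ho hxo
  rw [← inter_assoc]
  exact h.nonempty_inter ((LQC.of_isLocallyClosed ho.isLocallyClosed).inter hZ) ⟨x, hxo, hx⟩

theorem VeryDense.subset_of_inter_subset {X₀ : Set X} (h : VeryDense X₀) {Z Z' : Set X}
    (hZ : LQC Z) (hZ' : LQC Z') (e : Z ∩ X₀ ⊆ Z') : Z ⊆ Z' := by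
  intro x hx
  by_contra hx'
  obtain ⟨z, ⟨hz, hz'⟩, hz₀⟩ := h.nonempty_inter (hZ.inter hZ'.compl) ⟨x, hx, hx'⟩
  exact hz' (e ⟨hz, hz₀⟩)

theorem VeryDense.eq_of_inter_eq {X₀ : Set X} (h : VeryDense X₀) {Z Z' : Set X}
    (hZ : LQC Z) (hZ' : LQC Z') (e : Z ∩ X₀ = Z' ∩ X₀) : Z = Z' :=
  subset_antisymm (h.subset_of_inter_subset hZ hZ' (e.le.trans inter_subset_left))
    (h.subset_of_inter_subset hZ' hZ (e.ge.trans inter_subset_left))

theorem veryDense_of_opens_inj {X₀ : Set X}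
    (h : ∀ U V : Set X, IsOpen U → IsOpen V → U ∩ X₀ = V ∩ X₀ → U = V) : VeryDense X₀ := by
  rintro Z ⟨U, F, hU, hF, rfl⟩ ⟨x, hxU, hxF⟩
  by_contra hc
  have := h U (U ∩ Fᶜ) hU (hU.inter hF.isOpen_compl) (by
    ext z
    refine ⟨fun hz => ⟨⟨hz.1, fun hzF => hc ⟨z, ⟨hz.1, hzF⟩, hz.2⟩⟩, hz.2⟩,
      fun hz => ⟨hz.1.1, hz.2⟩⟩)
  exact (this.le hxU).2 hxF

theorem veryDense_of_closure {X₀ : Set X}
    (h : ∀ Z : Set X, IsClosed Z → closure (Z ∩ X₀) = Z) : VeryDense X₀ := by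
  refine veryDense_of_opens_inj fun U V hU hV e => ?_
  have : Uᶜ ∩ X₀ = Vᶜ ∩ X₀ := by
    ext z
    have := Set.ext_iff.1 e z
    simp only [mem_inter_iff, mem_compl_iff] at this ⊢
    tauto
  have := congrArg closure this
  rw [h _ hU.isClosed_compl, h _ hV.isClosed_compl] at this
  exact compl_injective this

theorem VeryDense.closure_inter {X₀ : Set X} (h : VeryDense X₀) {Z : Set X} (hZ : IsClosed Z) :
    closure (Z ∩ X₀) = Z :=
  subset_antisymm (hZ.closure_subset_iff.2 inter_subset_left)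
    (h.subset_closure (LQC.of_isLocallyClosed hZ.isLocallyClosed))

theorem inter_range_eq_of_preimage_eq {α β : Type*} {f : α → β} {s t : Set β}
    (e : f ⁻¹' s = f ⁻¹' t) : s ∩ range f = t ∩ range f := by
  rw [← image_preimage_eq_inter_range, ← image_preimage_eq_inter_range, e]

theorem preimage_eq_of_inter_range_eq {α β : Type*} {f : α → β} {s t : Set β}
    (e : s ∩ range f = t ∩ range f) : f ⁻¹' s = f ⁻¹' t := by
  rw [← preimage_inter_range, e, preimage_inter_range]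

theorem QH.isInducing {f : X → Y} (h : QH f) (hf : Continuous f) : IsInducing f := by
  refine ⟨le_antisymm hf.le_induced fun s hs => ?_⟩
  obtain ⟨U, hU, rfl⟩ := h.2 s hs
  exact isOpen_induced_iff.2 ⟨U, hU, rfl⟩

theorem QH.veryDense {f : X → Y} (h : QH f) : VeryDense (range f) :=
  veryDense_of_opens_inj fun U V hU hV e => h.1 U V hU hV (preimage_eq_of_inter_range_eq e)

theorem QH.eq_of_preimage {f : X → Y} (h : QH f) {Z Z' : Set Y} (hZ : LQC Z) (hZ' : LQC Z')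
    (e : f ⁻¹' Z = f ⁻¹' Z') : Z = Z' :=
  h.veryDense.eq_of_inter_eq hZ hZ' (inter_range_eq_of_preimage_eq e)

theorem qh_of_inducing {f : X → Y} (hi : IsInducing f) (hd : VeryDense (range f)) : QH f := by
  refine ⟨fun U V hU hV e => ?_, fun V hV => hi.isOpen_iff.1 hV⟩
  exact hd.eq_of_inter_eq (LQC.of_isLocallyClosed hU.isLocallyClosed)
    (LQC.of_isLocallyClosed hV.isLocallyClosed) (inter_range_eq_of_preimage_eq e)

theorem qh_of_bijective {f : X → Y} (hf : Continuous f)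
    (hq : Function.Bijective (fun U : TopologicalSpace.Opens Y =>
      (⟨f ⁻¹' (U : Set Y), U.isOpen.preimage hf⟩ : TopologicalSpace.Opens X))) : QH f := by
  refine ⟨fun U V hU hV e => ?_, fun V hV => ?_⟩
  · exact congrArg SetLike.coe (hq.1 (a₁ := ⟨U, hU⟩) (a₂ := ⟨V, hV⟩) (SetLike.ext' e))
  · obtain ⟨U, hU⟩ := hq.2 ⟨V, hV⟩
    exact ⟨U, U.isOpen, congrArg SetLike.coe hU⟩

theorem QH.bijective {f : X → Y} (h : QH f) (hf : Continuous f) :
    Function.Bijective (fun U : TopologicalSpace.Opens Y =>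
      (⟨f ⁻¹' (U : Set Y), U.isOpen.preimage hf⟩ : TopologicalSpace.Opens X)) := by
  refine ⟨fun U V e => SetLike.ext' (h.1 _ _ U.isOpen V.isOpen (congrArg SetLike.coe e)),
    fun V => ?_⟩
  obtain ⟨U, hU, e⟩ := h.2 _ V.isOpen
  exact ⟨⟨U, hU⟩, SetLike.ext' e⟩

theorem QH.exists_isLocallyClosed {f : X → Y} (h : QH f) (hf : Continuous f) {W : Set X}
    (hW : IsLocallyClosed W) : ∃ Z, IsLocallyClosed Z ∧ f ⁻¹' Z = W :=
  (h.isInducing hf).isLocallyClosed_iff.1 hW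

theorem QH.exists_qc {f : X → Y} (h : QH f) (hf : Continuous f) {W : Set X} (hW : QC W) :
    ∃ Z, QC Z ∧ f ⁻¹' Z = W := by
  obtain ⟨T, hT, hT', rfl⟩ := hW
  induction T, hT using Set.Finite.induction_on with
  | empty => exact ⟨∅, QC.empty, by simp⟩
  | @insert a s ha hs ih =>
    obtain ⟨Z, hZ, eZ⟩ := ih fun t ht => hT' t (mem_insert_of_mem a ht)
    obtain ⟨A, hA, eA⟩ := h.exists_isLocallyClosed hf (hT' a (mem_insert a s))
    exact ⟨A ∪ Z, (QC.of_isLocallyClosed hA).union hZ, by rw [preimage_union, eA, eZ, sUnion_insert]⟩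

theorem QH.exists_lqc {f : X → Y} (h : QH f) (hf : Continuous f) {W : Set X} (hW : LQC W) :
    ∃ Z, LQC Z ∧ f ⁻¹' Z = W := by
  choose U hU hxU hq using hW
  choose V hV eV using fun x => h.2 (U x) (hU x)
  choose Q hQ eQ using fun x => h.exists_qc hf (W := U x ∩ W) (hq x)
  have hQV : ∀ x, Q x ⊆ V x := by
    intro x
    refine h.veryDense.subset_of_inter_subset (hQ x).lqc
      (LQC.of_isLocallyClosed (hV x).isLocallyClosed) ?_
    rintro _ ⟨hy, a, rfl⟩
    exact ((eV x).ge ((eQ x).le hy).1 :)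
  have hloc : ∀ x, V x ∩ (⋃ z, Q z) = Q x := by
    intro x
    refine subset_antisymm ?_ (subset_inter (hQV x) (subset_iUnion Q x))
    rintro y ⟨hy, hy'⟩
    obtain ⟨z, hz⟩ := mem_iUnion.1 hy'
    refine h.veryDense.subset_of_inter_subset
      ((LQC.of_isLocallyClosed (hV x).isLocallyClosed).inter (hQ z).lqc) (hQ x).lqc ?_ ⟨hy, hz⟩
    rintro _ ⟨⟨ha, ha'⟩, a, rfl⟩
    exact ((eQ x).ge ⟨(eV x).le ha, ((eQ z).le ha').2⟩ :)
  have hcov : (⋃ x, V x) = univ := by
    refine h.1 _ _ (isOpen_iUnion hV) isOpen_univ ?_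
    rw [preimage_iUnion, preimage_univ]
    exact eq_univ_of_forall fun x => mem_iUnion.2 ⟨x, by rw [eV]; exact hxU x⟩
  refine ⟨⋃ z, Q z, fun y => ?_, ?_⟩
  · obtain ⟨x, hx⟩ := mem_iUnion.1 (hcov.ge (mem_univ y))
    exact ⟨V x, hV x, hx, by rw [hloc x]; exact hQ x⟩
  · rw [preimage_iUnion]
    refine subset_antisymm (iUnion_subset fun z => (eQ z).le.trans inter_subset_right) ?_
    exact fun x hx => mem_iUnion.2 ⟨x, (eQ x).ge ⟨hxU x, hx⟩⟩

theorem QH.restrictPreimage {f : X → Y} (h : QH f) (hf : Continuous f) {Y' : Set Y}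
    (hY' : LQC Y') : QH (Y'.restrictPreimage f) := by
  refine ⟨fun U₁ U₂ hU₁ hU₂ e => ?_, fun V hV => ?_⟩
  · obtain ⟨O₁, hO₁, rfl⟩ := isOpen_induced_iff.1 hU₁
    obtain ⟨O₂, hO₂, rfl⟩ := isOpen_induced_iff.1 hU₂
    have := h.eq_of_preimage ((LQC.of_isLocallyClosed hO₁.isLocallyClosed).inter hY')
      ((LQC.of_isLocallyClosed hO₂.isLocallyClosed).inter hY') (by
        ext a
        refine ⟨fun ha => ⟨?_, ha.2⟩, fun ha => ⟨?_, ha.2⟩⟩
        · exact (Set.ext_iff.1 e ⟨a, ha.2⟩).1 ha.1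
        · exact (Set.ext_iff.1 e ⟨a, ha.2⟩).2 ha.1)
    ext ⟨y, hy⟩
    exact ⟨fun hy' => (this.le ⟨hy', hy⟩).1, fun hy' => (this.ge ⟨hy', hy⟩).1⟩
  · obtain ⟨O, hO, rfl⟩ := isOpen_induced_iff.1 hV
    obtain ⟨U, hU, rfl⟩ := h.2 O hO
    exact ⟨Subtype.val ⁻¹' U, hU.preimage continuous_subtype_val, rfl⟩

theorem qh_of_openCover {ι : Type*} {f : X → Y} (hf : Continuous f) (W : ι → Set Y)
    (hWo : ∀ i, IsOpen (W i)) (hWc : ⋃ i, W i = univ)
    (h : ∀ i, QH ((W i).restrictPreimage f)) : QH f := by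
  refine ⟨fun U₁ U₂ hU₁ hU₂ e => ?_, fun V hV => ?_⟩
  · ext y
    obtain ⟨i, hi⟩ := mem_iUnion.1 (hWc.ge (mem_univ y))
    have := (h i).1 (Subtype.val ⁻¹' U₁) (Subtype.val ⁻¹' U₂)
      (hU₁.preimage continuous_subtype_val) (hU₂.preimage continuous_subtype_val) (by
        ext ⟨a, ha⟩
        exact Set.ext_iff.1 e a)
    exact Set.ext_iff.1 this ⟨y, hi⟩
  · choose U hU eU using fun i =>
      (h i).2 (Subtype.val ⁻¹' V) (hV.preimage continuous_subtype_val)
    refine ⟨⋃ i, Subtype.val '' U i,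
      isOpen_iUnion fun i => (hWo i).isOpenMap_subtype_val _ (hU i), ?_⟩
    ext a
    simp only [mem_preimage, mem_iUnion]
    constructor
    · rintro ⟨i, ⟨b, hb⟩, hbU, rfl : b = f a⟩
      exact ((Set.ext_iff.1 (eU i) ⟨a, hb⟩).1 hbU :)
    · intro ha
      obtain ⟨i, hi⟩ := mem_iUnion.1 (hWc.ge (mem_univ (f a)))
      exact ⟨i, ⟨f a, hi⟩, (Set.ext_iff.1 (eU i) ⟨a, hi⟩).2 ha, rfl⟩

/-- preimages as an order isomorphism on opens -/
noncomputable def QH.opensIso {f : X → Y} (h : QH f) (hf : Continuous f) :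
    TopologicalSpace.Opens Y ≃o TopologicalSpace.Opens X where
  toEquiv := Equiv.ofBijective _ (h.bijective hf)
  map_rel_iff' := by
    intro U V
    refine ⟨fun hUV => ?_, fun hUV a ha => hUV ha⟩
    refine h.veryDense.subset_of_inter_subset (LQC.of_isLocallyClosed U.isOpen.isLocallyClosed)
      (LQC.of_isLocallyClosed V.isOpen.isLocallyClosed) ?_
    rintro _ ⟨hy, a, rfl⟩
    exact hUV hy

theorem QH.compactSpace_iff {f : X → Y} (h : QH f) (hf : Continuous f) :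
    CompactSpace Y ↔ CompactSpace X := by
  constructor
  · intro hY
    refine isCompact_univ_iff.1 (isCompact_of_finite_subcover fun {ι} U hU hcov => ?_)
    choose O hO eO using fun i => h.2 (U i) (hU i)
    have : univ ⊆ ⋃ i, O i := by
      refine (h.1 (⋃ i, O i) univ (isOpen_iUnion hO) isOpen_univ ?_).ge
      rw [preimage_iUnion, preimage_univ]
      simp only [eO]
      exact univ_subset_iff.1 hcov
    obtain ⟨t, ht⟩ := isCompact_univ.elim_finite_subcover O hO this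
    refine ⟨t, fun x _ => ?_⟩
    obtain ⟨i, hit, hi⟩ := mem_iUnion₂.1 (ht (mem_univ (f x)))
    exact mem_iUnion₂.2 ⟨i, hit, (eO i).le hi⟩
  · intro hX
    refine isCompact_univ_iff.1 (isCompact_of_finite_subcover fun {ι} U hU hcov => ?_)
    obtain ⟨t, ht⟩ := isCompact_univ.elim_finite_subcover (fun i => f ⁻¹' U i)
      (fun i => (hU i).preimage hf) (fun x _ => by simpa using hcov (mem_univ (f x)))
    refine ⟨t, (h.1 (⋃ i ∈ t, U i) univ (isOpen_biUnion fun i _ => hU i) isOpen_univ ?_).ge⟩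
    rw [preimage_iUnion₂, preimage_univ]
    exact univ_subset_iff.1 ht

theorem QH.isCompact_preimage_iff {f : X → Y} (h : QH f) (hf : Continuous f) {Y' : Set Y}
    (hY' : LQC Y') : IsCompact (f ⁻¹' Y') ↔ IsCompact Y' := by
  rw [isCompact_iff_compactSpace, isCompact_iff_compactSpace]
  exact ((h.restrictPreimage hf hY').compactSpace_iff hf.restrictPreimage).symm

theorem QH.noetherianSpace_preimage_iff {f : X → Y} (h : QH f) (hf : Continuous f) {Y' : Set Y}
    (hY' : LQC Y') : TopologicalSpace.NoetherianSpace ↥(f ⁻¹' Y') ↔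
      TopologicalSpace.NoetherianSpace ↥Y' := by
  have e := (h.restrictPreimage hf hY').opensIso hf.restrictPreimage
  refine ⟨fun hX => ?_, fun hY => ?_⟩
  · exact StrictMono.wellFoundedGT e.strictMono
  · exact StrictMono.wellFoundedGT e.symm.strictMono

theorem QH.isRetrocompact_preimage_iff {f : X → Y} (h : QH f) (hf : Continuous f) {Y' : Set Y}
    (hY' : LQC Y') : IsRetrocompact (f ⁻¹' Y') ↔ IsRetrocompact Y' := by
  constructor
  · intro hr U hUc hU
    rw [← h.isCompact_preimage_iff hf (hY'.inter (LQC.of_isLocallyClosed hU.isLocallyClosed)),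
      preimage_inter]
    exact hr ((h.isCompact_preimage_iff hf (LQC.of_isLocallyClosed hU.isLocallyClosed)).2 hUc)
      (hU.preimage hf)
  · intro hr V hVc hV
    obtain ⟨U, hU, rfl⟩ := h.2 V hV
    rw [← preimage_inter,
      h.isCompact_preimage_iff hf (hY'.inter (LQC.of_isLocallyClosed hU.isLocallyClosed))]
    exact hr ((h.isCompact_preimage_iff hf (LQC.of_isLocallyClosed hU.isLocallyClosed)).1 hVc) hU

theorem qc_of_isConstructible {Z : Set X} (hZ : IsConstructible Z) : QC Z := by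
  induction hZ using IsConstructible.empty_union_induction with
  | open_retrocompact U hUopen hUcomp => exact QC.of_isLocallyClosed hUopen.isLocallyClosed
  | union s hs t ht hs' ht' => exact hs'.union ht'
  | compl s hs hs' => exact hs'.compl

theorem lqc_of_isLocallyConstructible {Z : Set X} (hZ : IsLocallyConstructible Z) : LQC Z := by
  intro x
  obtain ⟨U, hxU, hU, hc⟩ := hZ x
  refine ⟨U, hU, mem_of_mem_nhds hxU, ?_⟩
  have := (qc_of_isConstructible hc).image hU.isOpenEmbedding_subtypeVal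
  rwa [Subtype.image_preimage_coe] at this

theorem QH.isConstructible_preimage {f : X → Y} (h : QH f) (hf : Continuous f) {Z : Set Y}
    (hZ : IsConstructible Z) : IsConstructible (f ⁻¹' Z) :=
  hZ.preimage hf fun _ hs hr =>
    (h.isRetrocompact_preimage_iff hf (LQC.of_isLocallyClosed hs.isLocallyClosed)).2 hr

theorem QH.exists_isConstructible {f : X → Y} (h : QH f) (hf : Continuous f) {W : Set X}
    (hW : IsConstructible W) : ∃ Z, IsConstructible Z ∧ f ⁻¹' Z = W := by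
  induction hW using IsConstructible.empty_union_induction with
  | open_retrocompact U hUopen hUcomp =>
    obtain ⟨V, hV, rfl⟩ := h.2 U hUopen
    exact ⟨V, ((h.isRetrocompact_preimage_iff hf
      (LQC.of_isLocallyClosed hV.isLocallyClosed)).1 hUcomp).isConstructible hV, rfl⟩
  | union s hs t ht hs' ht' =>
    obtain ⟨A, hA, rfl⟩ := hs'
    obtain ⟨B, hB, rfl⟩ := ht'
    exact ⟨A ∪ B, hA.union hB, rfl⟩
  | compl s hs hs' =>
    obtain ⟨A, hA, rfl⟩ := hs'
    exact ⟨Aᶜ, hA.compl, rfl⟩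

theorem QH.isLocallyConstructible_preimage_iff {f : X → Y} (h : QH f) (hf : Continuous f)
    {Z : Set Y} (hZ : LQC Z) :
    IsLocallyConstructible (f ⁻¹' Z) ↔ IsLocallyConstructible Z := by
  constructor
  · intro hW
    choose U hxU hU hc using hW
    choose V hV eV using fun x => h.2 (U x) (hU x)
    have hcov : (⋃ x, V x) = univ := by
      refine h.1 _ _ (isOpen_iUnion hV) isOpen_univ ?_
      rw [preimage_iUnion, preimage_univ]
      exact eq_univ_of_forall fun x => mem_iUnion.2 ⟨x, by rw [eV]; exact mem_of_mem_nhds (hxU x)⟩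
    intro y
    obtain ⟨x, hx⟩ := mem_iUnion.1 (hcov.ge (mem_univ y))
    refine ⟨V x, (hV x).mem_nhds hx, hV x, ?_⟩
    have hq := h.restrictPreimage hf (LQC.of_isLocallyClosed (hV x).isLocallyClosed)
    have key : ∀ U' : Set X, f ⁻¹' V x = U' →
        IsConstructible (Subtype.val ⁻¹' (f ⁻¹' Z) : Set U') →
        IsConstructible (Subtype.val ⁻¹' (f ⁻¹' Z) : Set (f ⁻¹' V x)) := by
      rintro U' rfl h'
      exact h'
    have hcx := key _ (eV x) (hc x)
    obtain ⟨C, hC, eC⟩ := hq.exists_isConstructible hf.restrictPreimage hcx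
    rw [← hq.eq_of_preimage (qc_of_isConstructible hC).lqc
      (LQC.preimage continuous_subtype_val hZ) eC]
    exact hC
  · intro hZc x
    obtain ⟨V, hxV, hV, hc⟩ := hZc (f x)
    exact ⟨f ⁻¹' V, hf.continuousAt hxV, hV.preimage hf,
      (h.restrictPreimage hf (LQC.of_isLocallyClosed hV.isLocallyClosed)).isConstructible_preimage
        hf.restrictPreimage hc⟩

theorem VeryDense.qh_subtypeVal {X₀ : Set X} (h : VeryDense X₀) :
    QH (Subtype.val : X₀ → X) :=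
  qh_of_inducing IsInducing.subtypeVal (by rw [Subtype.range_coe]; exact h)

theorem veryDense_closedPoints [JacobsonSpace X] : VeryDense (closedPoints X) :=
  fun Z hZ hne => nonempty_inter_closedPoints hne hZ

theorem LQC.jacobsonSpace [JacobsonSpace X] {Z : Set X} (hZ : LQC Z) :
    JacobsonSpace ↥Z ∧ ∀ z : ↥Z, IsClosed ({z} : Set ↥Z) ↔ IsClosed ({(z : X)} : Set X) := by
  have key : ∀ z : ↥Z, IsClosed ({(z : X)} : Set X) → IsClosed ({z} : Set ↥Z) := by
    intro z hz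
    have : ({z} : Set ↥Z) = Subtype.val ⁻¹' {(z : X)} := by ext a; simp [Subtype.ext_iff]
    rw [this]
    exact hz.preimage continuous_subtype_val
  constructor
  · rw [jacobsonSpace_iff_locallyClosed]
    intro S hne hS
    obtain ⟨A, hA, rfl⟩ := IsInducing.subtypeVal.isLocallyClosed_iff.1 hS
    obtain ⟨z, hz⟩ := hne
    obtain ⟨w, ⟨hwA, hwZ⟩, hw⟩ := veryDense_closedPoints.nonempty_inter
      ((LQC.of_isLocallyClosed hA).inter hZ) ⟨z.1, hz, z.2⟩
    exact ⟨⟨w, hwZ⟩, hwA, key ⟨w, hwZ⟩ hw⟩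
  · intro z
    refine ⟨fun hz => ?_, key z⟩
    obtain ⟨A, hA, e⟩ := IsInducing.subtypeVal.isLocallyClosed_iff.1 hz.isLocallyClosed
    obtain ⟨w, ⟨hwA, hwZ⟩, hw⟩ := veryDense_closedPoints.nonempty_inter
      ((LQC.of_isLocallyClosed hA).inter hZ) ⟨z.1, e.ge rfl, z.2⟩
    have : (⟨w, hwZ⟩ : ↥Z) = z := e.le hwA
    rw [← this]
    exact hw

end Groth.Agent.EGA43
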